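/-
Setting for simple groups without normal elementary abelian subgroups of order eight in a Sylow 2-subgroup
and with constrained central involution centralisers.

Blueprint: `blueprint/S3272.md`.
-/
import Cfsg.Agent.Lib.MacWilliams.Main
import Cfsg.Agent.Lib.StrongAlperin.Family
import Cfsg.Agent.Lib.LocalFusion
import Cfsg.Agent.Lib.PResidual

set_option autoImplicit false

namespace CfsgLib.NoEightConstrained

open Subgroup MacWilliams StrongFusion

variable {G : Type*} [Group G] [Finite G]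

/-- The data: a Sylow 2-subgroup and a normal four-group in it. -/
structure Ctx (G : Type*) [Group G] [Finite G] where
  S : Sylow 2 G
  U : Subgroup G
  simple : IsSimpleGroup G
  hna : ¬ IsMulCommutative G
  noEight : NoEight ↥(S : Subgroup G)
  rank3 : ¬ Cfsg.PRankLE 2 2 ↥(S : Subgroup G)
  conn : Cfsg.IsFourConnected ↥(S : Subgroup G)
  cons : ∀ t ∈ (S : Subgroup G), orderOf t = 2 →
    (Subgroup.centralizer ({t} : Set G) ⊓ (S : Subgroup G)).relIndex (S : Subgroup G) ≤ 2 →
    Cfsg.IsPConstrained 2 ↥(Subgroup.centralizer ({t} : Set G))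
  U_le : U ≤ (S : Subgroup G)
  U_normal : ∀ s ∈ (S : Subgroup G), ∀ v ∈ U, s * v * s⁻¹ ∈ U
  U_card : Nat.card ↥U = 4
  U_sq : ∀ v ∈ U, v * v = 1

theorem eq_inv_of_sq {x : G} (h : x * x = 1) : x⁻¹ = x := inv_eq_of_mul_eq_one_right h

/-- Two commuting elements of square one give an element of square one. -/
theorem sq_mul_of_comm {x y : G} (hx : x * x = 1) (hy : y * y = 1) (h : x * y = y * x) :
    x * y * (x * y) = 1 := by
  rw [show x * y * (x * y) = x * (y * x) * y by group, ← h, show x * (x * y) * y = x * x * (y * y) by group,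
    hx, hy, mul_one]

/-- A subgroup in which every square is trivial is commutative. -/
theorem comm_of_sq {E : Subgroup G} (hE : ∀ x ∈ E, x * x = 1) {x y : G} (hx : x ∈ E) (hy : y ∈ E) :
    x * y = y * x := by
  have h := eq_inv_of_sq (hE _ (mul_mem hx hy))
  rw [mul_inv_rev, eq_inv_of_sq (hE _ hx), eq_inv_of_sq (hE _ hy)] at h
  exact h.symm

namespace Ctx

variable (c : Ctx G)

theorem two_group : IsPGroup 2 ↥(c.S : Subgroup G) := c.S.2

theorem U_comm {v w : G} (hv : v ∈ c.U) (hw : w ∈ c.U) : v * w = w * v := comm_of_sq c.U_sq hv hw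

/-- The centraliser of the four-group in the Sylow subgroup. -/
def T : Subgroup G := (c.S : Subgroup G) ⊓ centralizer (c.U : Set G)

theorem T_le : c.T ≤ (c.S : Subgroup G) := inf_le_left

theorem mem_T {x : G} : x ∈ c.T ↔ x ∈ (c.S : Subgroup G) ∧ ∀ v ∈ c.U, x * v = v * x :=
  ⟨fun h => ⟨h.1, fun v hv => ((mem_centralizer_iff.1 h.2) v hv).symm⟩,
    fun h => ⟨h.1, mem_centralizer_iff.2 fun v hv => (h.2 v hv).symm⟩⟩

theorem U_le_T : c.U ≤ c.T := fun _ hv => c.mem_T.2 ⟨c.U_le hv, fun _ hw => c.U_comm hv hw⟩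

/-- Elementary subgroups of the Sylow subgroup have order at most 16. -/
theorem card_elementary_le {E : Subgroup G} (hES : E ≤ (c.S : Subgroup G)) (hE : ∀ x ∈ E, x * x = 1) :
    Nat.card ↥E ≤ 16 := by
  have h := sectional_rank_le_four c.two_group c.noEight ⊤ ⊥
    (((E.subgroupOf (c.S : Subgroup G)).subgroupOf ⊤).map (QuotientGroup.mk' ⊥)) ?_ ?_
  · rw [card_map_of_injective, Nat.card_congr (subgroupOfEquivOfLe le_top).toEquiv,
      Nat.card_congr (subgroupOfEquivOfLe hES).toEquiv] at h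
    · simpa using h
    · intro a b hab
      simpa [QuotientGroup.eq] using (inv_mul_eq_one.1 (by simpa [QuotientGroup.eq] using hab))
  · refine ⟨⟨fun a b => Subtype.ext ?_⟩⟩
    obtain ⟨x, hx, ex⟩ := a.2
    obtain ⟨y, hy, ey⟩ := b.2
    show a.1 * b.1 = b.1 * a.1
    rw [← ex, ← ey, ← map_mul, ← map_mul]
    refine congrArg _ (Subtype.ext (Subtype.ext ?_))
    exact comm_of_sq hE hx hy
  · rintro _ ⟨x, hx, rfl⟩
    rw [← map_pow, show x ^ 2 = 1 from Subtype.ext (Subtype.ext (by simpa [pow_two] using hE _ hx)), map_one]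

/-- An element whose conjugates commute with the members of an elementary subgroup of order 16 lies in it. -/
theorem mem_of_sixteen {V : Subgroup G} (hVS : V ≤ (c.S : Subgroup G)) (hV : ∀ x ∈ V, x * x = 1)
    (h16 : 16 ≤ Nat.card ↥V) {y : G} (hyS : y ∈ (c.S : Subgroup G)) (hy : y * y = 1)
    (hc : ∀ x ∈ V, x * y = y * x) : y ∈ V := by
  by_contra hyV
  let E : Subgroup G :=
    { carrier := {x | x ∈ V ∨ x * y ∈ V}
      one_mem' := Or.inl V.one_mem
      mul_mem' := by
        rintro a b ha hb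
        rcases ha with ha | ha <;> rcases hb with hb | hb
        · exact Or.inl (mul_mem ha hb)
        · right; rw [mul_assoc]; exact mul_mem ha hb
        · right
          have : a * b * y = a * y * b := by rw [mul_assoc, hc b hb, ← mul_assoc]
          rw [this]
          exact mul_mem ha hb
        · left
          have hbc : b * y * y = b := by rw [mul_assoc, hy, mul_one]
          have h1 := hc _ hb
          have : a * b = a * y * (b * y) := by
            calc a * b = a * (b * y * y) := by rw [hbc]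
              _ = a * (y * (b * y)) := by rw [h1]
              _ = a * y * (b * y) := by group
          rw [this]
          exact mul_mem ha hb
      inv_mem' := by
        rintro a (ha | ha)
        · exact Or.inl (inv_mem ha)
        · right
          have h1 := hc _ ha
          rw [mul_assoc, hy, mul_one] at h1
          have hay : Commute a y := by
            show a * y = y * a
            conv_rhs => rw [h1, ← mul_assoc, hy, one_mul]
          have h3 := inv_mem ha
          rw [mul_inv_rev, eq_inv_of_sq hy, ← hay.inv_left.eq] at h3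
          exact h3 }
  have hEsq : ∀ x ∈ E, x * x = 1 := by
    rintro x (hx | hx)
    · exact hV x hx
    · have hxy := hV _ hx
      have : x = x * y * y := by rw [mul_assoc, hy, mul_one]
      rw [this]
      exact sq_mul_of_comm hxy hy (hc _ hx)
  have hES : E ≤ (c.S : Subgroup G) := by
    rintro x (hx | hx)
    · exact hVS hx
    · have : x = x * y * y := by rw [mul_assoc, hy, mul_one]
      rw [this]
      exact mul_mem (hVS hx) hyS
  have hlt : V < E := lt_of_le_of_ne (fun x hx => Or.inl hx) fun e => hyV (by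
    rw [e]
    exact Or.inr (by rw [hy]; exact V.one_mem))
  have hle := c.card_elementary_le hES hEsq
  have hdvd := Subgroup.card_dvd_of_le hlt.le
  obtain ⟨k, hk⟩ := hdvd
  have : Nat.card ↥V < Nat.card ↥E := by
    refine lt_of_le_of_ne (card_le_of_le hlt.le) fun e => hlt.ne (eq_of_le_of_card_ge hlt.le e.ge)
  omega

/-- The steps of the conjugation family. -/
abbrev Step (H : Subgroup G) (n : G) : Prop := StrongAlperin.St 2 (c.S : Subgroup G) H n

/-- Fusion in the Sylow subgroup is a product of steps. -/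
theorem exists_chain {A : Subgroup G} {g : G} (hA : A ≤ (c.S : Subgroup G)) (hg : cm g A ≤ (c.S : Subgroup G)) :
    FChain (StrongAlperin.St 2 (c.S : Subgroup G)) A g := by
  haveI := Fact.mk Nat.prime_two
  exact fchain_of_good c.S (StrongAlperin.goodSteps c.S) (Full 2 (c.S : Subgroup G))
    (fun U hU => exists_full c.S hU) (fun _ _ h => h) (fun V hV hVg big => StrongAlperin.haut c.S V hV hVg big) hA hg

/-- No subgroup of index two contains all the commutators of the steps. -/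
theorem false_of_steps {M : Subgroup G} (hM : M ≤ (c.S : Subgroup G)) (h2 : M.relIndex (c.S : Subgroup G) = 2)
    (h : ∀ H n, c.Step H n → ∀ x ∈ H, x ∈ (c.S : Subgroup G) → n * x * n⁻¹ ∈ (c.S : Subgroup G) →
      n * x * n⁻¹ * x⁻¹ ∈ M) : False := by
  haveI := Fact.mk Nat.prime_two
  haveI := c.simple
  haveI hMn' : (M.subgroupOf (c.S : Subgroup G)).Normal := normal_of_index_eq_two h2
  have hMn : ∀ s ∈ (c.S : Subgroup G), ∀ x ∈ M, s * x * s⁻¹ ∈ M := fun s hs x hx =>
    hMn'.conj_mem ⟨x, hM hx⟩ hx ⟨s, hs⟩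
  obtain ⟨K, hK, hKS, hKi⟩ := LocalFusion.exists_normal_inf c.S hM hMn (by
    intro x hx g hg
    suffices key : ∀ (A : Subgroup G) (g : G), FChain (StrongAlperin.St 2 (c.S : Subgroup G)) A g →
        A ≤ (c.S : Subgroup G) → ∀ y ∈ A, g * y * g⁻¹ ∈ (c.S : Subgroup G) → g * y * g⁻¹ * y⁻¹ ∈ M by
      have hA : zpowers x ≤ (c.S : Subgroup G) := zpowers_le.2 hx
      have hcm : cm g (zpowers x) ≤ (c.S : Subgroup G) := by
        rw [cm, MonoidHom.map_zpowers, zpowers_le]
        exact hg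
      have h1 := key _ g (c.exists_chain hA hcm) hA x (mem_zpowers x) hg
      have h2' : x * (g * x * g⁻¹)⁻¹ = (g * x * g⁻¹ * x⁻¹)⁻¹ := by group
      rw [h2']
      exact inv_mem h1
    intro A g hch
    induction hch with
    | @one A => intro _ y _ _; simp [M.one_mem]
    | @step A H n g hs hAH _ ih =>
      intro hA y hy hgy
      have hn := (StrongAlperin.goodSteps c.S).norm _ _ hs
      have hHS : H ≤ (c.S : Subgroup G) ∨ n ∈ centralizer (H : Set G) := by
        rcases hs with h1 | ⟨rfl, -⟩ | ⟨X, hX⟩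
        · exact Or.inr h1
        · exact Or.inl le_rfl
        · exact Or.inl hX.1
      have hny : n * y * n⁻¹ ∈ (c.S : Subgroup G) := by
        rcases hHS with h1 | h1
        · exact h1 ((mem_normalizer_iff.1 hn y).1 (hAH hy))
        · have := mem_centralizer_iff.1 h1 y (hAH hy)
          rw [← this, mul_inv_cancel_right]
          exact hA hy
      have hcmA : cm n A ≤ (c.S : Subgroup G) := by
        rintro _ ⟨a, ha, rfl⟩
        show n * a * n⁻¹ ∈ _
        rcases hHS with h1 | h1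
        · exact h1 ((mem_normalizer_iff.1 hn a).1 (hAH ha))
        · have := mem_centralizer_iff.1 h1 a (hAH ha)
          rw [← this, mul_inv_cancel_right]
          exact hA ha
      have e : g * n * y * (g * n)⁻¹ = g * (n * y * n⁻¹) * g⁻¹ := by group
      rw [e] at hgy ⊢
      have h1 := ih hcmA _ (conj_mem_cm hy) hgy
      have h2' := mul_mem h1 (h H n hs y (hAH hy) (hA hy) hny)
      have e2 : g * (n * y * n⁻¹) * g⁻¹ * y⁻¹ =
          g * (n * y * n⁻¹) * g⁻¹ * (n * y * n⁻¹)⁻¹ * (n * y * n⁻¹ * y⁻¹) := by group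
      rw [e2]
      exact h2')
  rcases hK.eq_bot_or_eq_top with e | e
  · have hsq : K.index = 2 := by rw [hKi, h2]
    rw [e, index_bot] at hsq
    refine c.hna ?_
    haveI : Fact (Nat.card G = 2) := ⟨hsq⟩
    haveI : IsCyclic G := isCyclic_of_prime_card hsq
    letI := IsCyclic.commGroup (α := G)
    exact ⟨⟨fun a b => mul_comm a b⟩⟩
  · rw [e, index_top, h2] at hKi
    omega

end Ctx

/-- The data when the four-group is not central. -/
structure Ctx2 (G : Type*) [Group G] [Finite G] extends Ctx G where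
  z : G
  u : G
  z_mem : z ∈ U
  u_mem : u ∈ U
  z_ne : z ≠ 1
  u_ne : u ≠ 1
  u_ne_z : u ≠ z
  z_central : ∀ s ∈ (S : Subgroup G), s * z = z * s
  outer : ∃ s ∈ (S : Subgroup G), s * u ≠ u * s

namespace Ctx2

variable (c : Ctx2 G)

theorem zz : c.z * c.z = 1 := c.U_sq _ c.z_mem
theorem uu : c.u * c.u = 1 := c.U_sq _ c.u_mem
theorem zS : c.z ∈ (c.S : Subgroup G) := c.U_le c.z_mem
theorem uS : c.u ∈ (c.S : Subgroup G) := c.U_le c.u_mem
theorem uz_comm : c.u * c.z = c.z * c.u := c.z_central _ c.uS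
theorem uz_ne : c.u * c.z ≠ 1 := fun h => c.u_ne_z (by
  rw [eq_inv_of_mul_eq_one_left h, eq_inv_of_sq c.zz])
theorem uz_ne_u : c.u * c.z ≠ c.u := fun h => c.z_ne (mul_eq_left.1 h)
theorem uz_ne_z : c.u * c.z ≠ c.z := fun h => c.u_ne (mul_eq_right.1 h)

/-- The members of the four-group. -/
theorem mem_U {x : G} : x ∈ c.U ↔ x = 1 ∨ x = c.z ∨ x = c.u ∨ x = c.u * c.z := by
  classical
  refine ⟨fun hx => ?_, ?_⟩
  · by_contra hne
    push Not at hne
    obtain ⟨h1, h2, h3, h4⟩ := hne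
    have hinj : Function.Injective (![⟨1, c.U.one_mem⟩, ⟨c.z, c.z_mem⟩, ⟨c.u, c.u_mem⟩,
        ⟨c.u * c.z, mul_mem c.u_mem c.z_mem⟩, ⟨x, hx⟩] : Fin 5 → ↥c.U) := by
      intro i j hij
      fin_cases i <;> fin_cases j <;>
        simp_all [Ne.symm c.z_ne, Ne.symm c.u_ne, Ne.symm c.uz_ne, Ne.symm c.u_ne_z, Ne.symm c.uz_ne_u,
          Ne.symm c.uz_ne_z, c.z_ne, c.u_ne, c.uz_ne, c.u_ne_z, c.uz_ne_u, c.uz_ne_z, Subtype.ext_iff]
    have := Nat.card_le_card_of_injective _ hinj
    rw [c.U_card, Nat.card_fin] at this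
    omega
  · rintro (rfl | rfl | rfl | rfl)
    exacts [c.U.one_mem, c.z_mem, c.u_mem, mul_mem c.u_mem c.z_mem]

theorem mem_T_iff {x : G} : x ∈ c.T ↔ x ∈ (c.S : Subgroup G) ∧ x * c.u = c.u * x := by
  refine ⟨fun h => ⟨h.1, (c.mem_T.1 h).2 _ c.u_mem⟩, fun h => c.mem_T.2 ⟨h.1, fun v hv => ?_⟩⟩
  rcases c.mem_U.1 hv with rfl | rfl | rfl | rfl
  · simp
  · exact c.z_central x h.1
  · exact h.2
  · rw [← mul_assoc, h.2, mul_assoc, c.z_central x h.1, mul_assoc]

/-- An element outside `T` sends `u` to `uz`. -/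
theorem conj_u {s : G} (hs : s ∈ (c.S : Subgroup G)) (h : s ∉ c.T) : s * c.u * s⁻¹ = c.u * c.z := by
  rcases c.mem_U.1 (c.U_normal s hs c.u c.u_mem) with e | e | e | e
  · exact absurd (conj_eq_one_iff.1 e) c.u_ne
  · have : c.u = s⁻¹ * c.z * s := by rw [← e]; group
    rw [mul_assoc, ← c.z_central s hs, inv_mul_cancel_left] at this
    exact absurd this c.u_ne_z
  · exact absurd (c.mem_T_iff.2 ⟨hs, mul_inv_eq_iff_eq_mul.1 e⟩) h
  · exact e

theorem mul_mem_T {r s : G} (hr : r ∈ (c.S : Subgroup G)) (hs : s ∈ (c.S : Subgroup G)) (hr' : r ∉ c.T)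
    (hs' : s ∉ c.T) : r * s ∈ c.T := by
  refine c.mem_T_iff.2 ⟨mul_mem hr hs, ?_⟩
  have h1 := c.conj_u hr hr'
  have h2 := c.conj_u hs hs'
  rw [← mul_inv_eq_iff_eq_mul, show r * s * c.u * (r * s)⁻¹ = r * (s * c.u * s⁻¹) * r⁻¹ by group, h2,
    show r * (c.u * c.z) * r⁻¹ = r * c.u * r⁻¹ * (r * c.z * r⁻¹) by group, h1, c.z_central r hr,
    mul_inv_cancel_right, mul_assoc, c.zz, mul_one]

theorem T_index : c.T.relIndex (c.S : Subgroup G) = 2 := by
  obtain ⟨s, hs, hsu⟩ := c.outer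
  have hsT : s ∉ c.T := fun h => hsu (c.mem_T_iff.1 h).2
  rw [Subgroup.relIndex, Subgroup.index_eq_two_iff]
  refine ⟨⟨s, hs⟩, fun b => ?_⟩
  show (b : G) * s ∈ c.T ∧ ¬ (b : G) ∈ c.T ∨ (b : G) ∈ c.T ∧ ¬ (b : G) * s ∈ c.T
  by_cases hb : (b : G) ∈ c.T
  · refine Or.inr ⟨hb, fun h => hsT ?_⟩
    have := mul_mem (inv_mem hb) h
    rwa [inv_mul_cancel_left] at this
  · exact Or.inl ⟨c.mul_mem_T b.2 hs hb hsT, hb⟩

theorem T_normal {s x : G} (hs : s ∈ (c.S : Subgroup G)) (hx : x ∈ c.T) : s * x * s⁻¹ ∈ c.T :=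
  (normal_of_index_eq_two c.T_index).conj_mem ⟨x, c.T_le hx⟩ hx ⟨s, hs⟩

theorem commutator_mem_T {r s : G} (hr : r ∈ (c.S : Subgroup G)) (hs : s ∈ (c.S : Subgroup G)) :
    r * s * r⁻¹ * s⁻¹ ∈ c.T := by
  by_cases hs' : s ∈ c.T
  · exact mul_mem (c.T_normal hr hs') (inv_mem hs')
  · have hc : r * s * r⁻¹ ∈ (c.S : Subgroup G) := mul_mem (mul_mem hr hs) (inv_mem hr)
    have hc' : r * s * r⁻¹ ∉ c.T := fun h => hs' (by
      have := c.T_normal (inv_mem hr) h
      simpa [mul_assoc] using this)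
    exact c.mul_mem_T hc (inv_mem hs) hc' (fun h => hs' (by simpa using inv_mem h))

/-- The elements of the Sylow subgroup in the 2-residual of the centraliser of `z`. -/
def R : Subgroup G :=
  (c.S : Subgroup G) ⊓ (Cfsg.pResidual 2 ↥(centralizer ({c.z} : Set G))).map (centralizer ({c.z} : Set G)).subtype

theorem R_normal {s x : G} (hs : s ∈ (c.S : Subgroup G)) (hx : x ∈ c.R) : s * x * s⁻¹ ∈ c.R := by
  haveI := Fact.mk Nat.prime_two
  refine ⟨Subgroup.mul_mem _ (Subgroup.mul_mem _ hs hx.1) (Subgroup.inv_mem _ hs), ?_⟩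
  obtain ⟨y, hy, e⟩ := hx.2
  refine ⟨⟨s, mem_centralizer_singleton_iff.2 (c.z_central s hs)⟩ * y *
    ⟨s, mem_centralizer_singleton_iff.2 (c.z_central s hs)⟩⁻¹,
    (PResidual.pResidual_normal).conj_mem y hy _, ?_⟩
  show s * (y : G) * s⁻¹ = s * x * s⁻¹
  rw [show (y : G) = x from e]

/-- A fusion centralising `z` moves modulo `T` and `R`. -/
theorem move_mem {g x : G} (hg : g * c.z = c.z * g) (hx : x ∈ (c.S : Subgroup G))
    (hgx : g * x * g⁻¹ ∈ (c.S : Subgroup G)) : g * x * g⁻¹ * x⁻¹ ∈ c.T ⊔ c.R := by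
  haveI := Fact.mk Nat.prime_two
  set C := centralizer ({c.z} : Set G) with hC
  have hSC : (c.S : Subgroup G) ≤ C := fun s hs => mem_centralizer_singleton_iff.2 (c.z_central s hs)
  haveI := PResidual.pResidual_normal (p := 2) (G := ↥C)
  have htop := PResidual.pResidual_sup_sylow (c.S.subtype hSC)
  have hm : (⟨g, mem_centralizer_singleton_iff.2 hg⟩ : ↥C) ∈
      ((c.S.subtype hSC : Sylow 2 ↥C) : Subgroup ↥C) ⊔ Cfsg.pResidual 2 ↥C := htop ▸ mem_top _
  rw [← SetLike.mem_coe, Subgroup.mul_normal] at hm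
  obtain ⟨σ, hσ, r, hr, e⟩ := hm
  have hσS : (σ : G) ∈ (c.S : Subgroup G) := hσ
  have e' : g = (σ : G) * (r : G) := (congrArg Subtype.val e).symm
  have hrx : (r : G) * x * (r : G)⁻¹ ∈ (c.S : Subgroup G) := by
    have h1 := mul_mem (mul_mem (inv_mem hσS) hgx) hσS
    rwa [e', show (σ : G)⁻¹ * ((σ : G) * r * x * ((σ : G) * r)⁻¹) * σ = r * x * (r : G)⁻¹ by group] at h1
  have hR : (r : G) * x * (r : G)⁻¹ * x⁻¹ ∈ c.R := by
    refine ⟨Subgroup.mul_mem _ hrx (Subgroup.inv_mem _ hx), r * (⟨x, hSC hx⟩ * r⁻¹ * ⟨x, hSC hx⟩⁻¹), mul_mem hr ?_, ?_⟩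
    · exact Subgroup.Normal.conj_mem inferInstance _ (inv_mem hr) _
    · show (r : G) * (x * (r : G)⁻¹ * x⁻¹) = _
      group
  have e2 : g * x * g⁻¹ * x⁻¹ =
      σ * ((r : G) * x * (r : G)⁻¹ * x⁻¹) * (σ : G)⁻¹ * ((σ : G) * x * (σ : G)⁻¹ * x⁻¹) := by rw [e']; group
  rw [e2]
  exact mul_mem (mem_sup_right (c.R_normal hσS hR)) (mem_sup_left (c.commutator_mem_T hσS hx))

end Ctx2

end CfsgLib.NoEightConstrained
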