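/-
A step outside `T` whose subgroup contains `u` and which moves `z`.

Blueprint: `blueprint/S3272.md`, part P3 (ii).
-/
import Cfsg.Agent.Lib.NoEightConstrained.Basic

set_option autoImplicit false

namespace CfsgLib.NoEightConstrained

open Subgroup

variable {G : Type*} [Group G] [Finite G]

namespace Ctx2

variable (c : Ctx2 G)

/-- A centric subgroup contains `z`. -/
theorem z_mem_centric {H : Subgroup G} (hH : H ≤ (c.S : Subgroup G))
    (hc : (c.S : Subgroup G) ⊓ centralizer (H : Set G) ≤ H) : c.z ∈ H :=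
  hc ⟨c.zS, mem_centralizer_iff.2 fun x hx => c.z_central x (hH hx)⟩

/-- Conjugates of `u` by two normalising elements with different images of `z` commute. -/
theorem conj_comm {H : Subgroup G} (hH : H ≤ (c.S : Subgroup G)) (hu : c.u ∈ H) {m m' : G}
    (hm : m ∈ normalizer (H : Set G)) (hm' : m' ∈ normalizer (H : Set G))
    (hne : m * c.z * m⁻¹ ≠ m' * c.z * m'⁻¹) :
    m * c.u * m⁻¹ * (m' * c.u * m'⁻¹) = m' * c.u * m'⁻¹ * (m * c.u * m⁻¹) := by
  have key : ∀ {k : G}, k ∈ normalizer (H : Set G) → ∀ x ∈ H,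
      x * (k * c.u * k⁻¹) * x⁻¹ * (k * c.u * k⁻¹) = 1 ∨
      x * (k * c.u * k⁻¹) * x⁻¹ * (k * c.u * k⁻¹) = k * c.z * k⁻¹ := by
    intro k hk x hx
    have hy : k⁻¹ * x * k ∈ H := by simpa using (mem_normalizer_iff.1 (inv_mem hk) x).1 hx
    have e : x * (k * c.u * k⁻¹) * x⁻¹ * (k * c.u * k⁻¹) =
        k * (k⁻¹ * x * k * c.u * (k⁻¹ * x * k)⁻¹ * c.u) * k⁻¹ := by group
    by_cases hT : k⁻¹ * x * k ∈ c.T
    · left
      rw [e, (c.mem_T_iff.1 hT).2, mul_inv_cancel_right, c.uu, mul_one, mul_inv_cancel]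
    · right
      rw [e, c.conj_u (hH hy) hT, c.uz_comm, mul_assoc c.z, c.uu, mul_one]
  set a := m * c.u * m⁻¹ with ha
  set b := m' * c.u * m'⁻¹ with hb
  have haH : a ∈ H := (mem_normalizer_iff.1 hm _).1 hu
  have hbH : b ∈ H := (mem_normalizer_iff.1 hm' _).1 hu
  have haa : a * a = 1 := by rw [ha, show m * c.u * m⁻¹ * (m * c.u * m⁻¹) = m * (c.u * c.u) * m⁻¹ by group, c.uu]; group
  have hbb : b * b = 1 := by rw [hb, show m' * c.u * m'⁻¹ * (m' * c.u * m'⁻¹) = m' * (c.u * c.u) * m'⁻¹ by group, c.uu]; group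
  have h1 := key hm b hbH
  have h2 := key hm' a haH
  rw [← ha] at h1
  rw [← hb] at h2
  have e : b * a * b⁻¹ * a = (a * b * a⁻¹ * b)⁻¹ := by
    rw [eq_inv_of_sq haa, eq_inv_of_sq hbb]
    simp only [mul_inv_rev, eq_inv_of_sq haa, eq_inv_of_sq hbb, mul_assoc]
  have key' : b * a * b⁻¹ * a = 1 := by
    rcases h1 with h1 | h1
    · exact h1
    rcases h2 with h2 | h2
    · rw [e, h2, inv_one]
    · exfalso
      refine hne (h1.symm.trans ?_)
      rw [e, h2]
      refine eq_inv_of_sq ?_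
      rw [show m' * c.z * m'⁻¹ * (m' * c.z * m'⁻¹) = m' * (c.z * c.z) * m'⁻¹ by group, c.zz]
      group
  have := eq_inv_of_mul_eq_one_left key'
  rw [eq_inv_of_sq haa, mul_inv_eq_iff_eq_mul] at this
  exact this.symm

/-- A fixed point free element of odd order among the movers of `z`. -/
theorem exists_odd_cycle {N : Subgroup G} {z₁ : G} (hz₁ : ∃ n ∈ N, n * c.z * n⁻¹ = z₁) (h1 : z₁ ≠ c.z)
    (horb : ∀ m ∈ N, m * c.z * m⁻¹ = c.z ∨ m * c.z * m⁻¹ = z₁ ∨ m * c.z * m⁻¹ = c.z * z₁)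
    (hodd : ¬ 2 ∣ ((c.S : Subgroup G) ⊓ N).relIndex N) :
    ∃ a ∈ N, Odd (orderOf a) ∧ a * c.z * a⁻¹ ≠ c.z ∧
      ∀ m ∈ N, ∃ i : ℕ, (a ^ i)⁻¹ * m * c.z * ((a ^ i)⁻¹ * m)⁻¹ = c.z := by
  classical
  -- the orbit
  let X := {y : G | ∃ m ∈ N, m * c.z * m⁻¹ = y}
  have hX3 : X ⊆ ({c.z, z₁, c.z * z₁} : Set G) := by
    rintro y ⟨m, hm, rfl⟩
    simpa using horb m hm
  letI act : MulAction ↥N X :=
    { smul := fun m y => ⟨(m : G) * y.1 * (m : G)⁻¹, by
        obtain ⟨k, hk, e⟩ := y.2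
        exact ⟨m * k, mul_mem m.2 hk, by rw [← e]; group⟩⟩
      one_smul := fun y => Subtype.ext (show ((1 : ↥N) : G) * y.1 * ((1 : ↥N) : G)⁻¹ = y.1 by simp)
      mul_smul := fun a b y => Subtype.ext (show ((a * b : ↥N) : G) * y.1 * ((a * b : ↥N) : G)⁻¹ =
        (a : G) * ((b : G) * y.1 * (b : G)⁻¹) * (a : G)⁻¹ by simp [mul_assoc]) }
  let x₀ : X := ⟨c.z, 1, N.one_mem, by group⟩
  have hsmul : ∀ m : ↥N, ((m • x₀ : X) : G) = (m : G) * c.z * (m : G)⁻¹ := fun _ => rfl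
  haveI : MulAction.IsPretransitive ↥N X := by
    refine ⟨fun y y' => ?_⟩
    obtain ⟨m, hm, e⟩ := y.2
    obtain ⟨m', hm', e'⟩ := y'.2
    refine ⟨⟨m', hm'⟩ * ⟨m, hm⟩⁻¹, ?_⟩
    have hy : y = (⟨m, hm⟩ : ↥N) • x₀ := Subtype.ext (by rw [hsmul]; exact e.symm)
    rw [hy, mul_smul, inv_smul_smul]
    exact Subtype.ext (by rw [hsmul]; exact e')
  obtain ⟨n, hn, hn1⟩ := hz₁
  have hcard3 : Nat.card X = 3 := by
    have h2 : 2 ≤ Nat.card X := by
      let f : Fin 2 → X := ![x₀, ⟨z₁, n, hn, hn1⟩]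
      have hf : Function.Injective f := by
        intro i j hij
        fin_cases i <;> fin_cases j <;> simp_all [f, x₀, Subtype.ext_iff, Ne.symm h1]
      simpa using Nat.card_le_card_of_injective f hf
    have h3 : Nat.card X ≤ 3 := by
      refine (Nat.card_mono (Set.toFinite _) hX3).trans ?_
      rw [Nat.card_coe_set_eq]
      refine (Set.ncard_insert_le _ _).trans ?_
      have := Set.ncard_insert_le z₁ ({c.z * z₁} : Set G)
      rw [Set.ncard_singleton] at this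
      omega
    have hne2 : Nat.card X ≠ 2 := fun e => hodd (by
      have hle : ((c.S : Subgroup G) ⊓ N).subgroupOf N ≤ MulAction.stabilizer ↥N x₀ := fun m hm =>
        MulAction.mem_stabilizer_iff.2 (Subtype.ext (by
          rw [hsmul, c.z_central _ (mem_subgroupOf.1 hm).1, mul_inv_cancel_right]))
      have := Subgroup.index_dvd_of_le hle
      rw [MulAction.index_stabilizer_of_transitive ↥N x₀, e] at this
      exact this)
    omega
  -- an element of order three on the orbit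
  have h6 : ∀ m : ↥N, ∀ y : X, (m ^ 6) • y = y := by
    intro m y
    have : (MulAction.toPermHom ↥N X) m ^ 6 = 1 := by
      haveI := Fintype.ofFinite X
      have hc : Fintype.card (Equiv.Perm X) = 6 := by
        rw [Fintype.card_perm, ← Nat.card_eq_fintype_card, hcard3]; rfl
      rw [← hc]
      exact pow_card_eq_one
    rw [← map_pow] at this
    exact Equiv.Perm.congr_fun this y
  obtain ⟨g, hg3⟩ : ∃ g : ↥N, (g ^ 2) • x₀ ≠ x₀ := by
    by_contra hno
    push Not at hno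
    haveI := Fintype.ofFinite X
    haveI : Fact (Nat.Prime 3) := ⟨Nat.prime_three⟩
    have hdvd : 3 ∣ Nat.card (MulAction.toPermHom ↥N X).range := by
      have h1' : (MulAction.stabilizer ↥N x₀).index = 3 := by
        rw [MulAction.index_stabilizer_of_transitive, hcard3]
      rw [← Subgroup.index_ker, ← h1']
      exact Subgroup.index_dvd_of_le fun m hm =>
        MulAction.mem_stabilizer_iff.2 (Equiv.Perm.congr_fun (MonoidHom.mem_ker.1 hm) x₀)
    obtain ⟨⟨σ, g, rfl⟩, hσ⟩ := exists_prime_orderOf_dvd_card' 3 hdvd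
    rw [← Subgroup.orderOf_coe] at hσ
    have hp3 : (MulAction.toPermHom ↥N X g) ^ 3 = 1 := by rw [← hσ]; exact pow_orderOf_eq_one _
    have h2 : ∀ k : ↥N, (g ^ 2) • (k • x₀) = k • x₀ := by
      intro k
      have := hno (k⁻¹ * g * k)
      rw [pow_two, show k⁻¹ * g * k * (k⁻¹ * g * k) = k⁻¹ * g ^ 2 * k by rw [pow_two]; group, mul_smul, mul_smul]
        at this
      conv_rhs => rw [← this, smul_inv_smul]
    have hp2 : (MulAction.toPermHom ↥N X g) ^ 2 = 1 := by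
      refine Equiv.ext fun y => ?_
      obtain ⟨k, rfl⟩ := MulAction.exists_smul_eq ↥N x₀ y
      rw [← map_pow]
      exact h2 k
    rw [pow_succ, hp2, one_mul] at hp3
    simp [hp3] at hσ
  -- the odd part
  obtain ⟨a, ha⟩ : ∃ a : ↥N, a = g ^ 2 ^ (orderOf (g : G)).factorization 2 * g ^ 2 ^ (orderOf (g : G)).factorization 2 :=
    ⟨_, rfl⟩
  have hgodd : Odd (orderOf ((g : G) ^ 2 ^ (orderOf (g : G)).factorization 2)) := by
    rw [← Nat.coprime_two_right, orderOf_pow, Nat.gcd_eq_right (Nat.ordProj_dvd _ _)]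
    exact (Nat.coprime_ordCompl Nat.prime_two (orderOf_pos (g : G)).ne').symm
  have hodd' : Odd (orderOf (a : G)) := by
    have e : (a : G) = ((g : G) ^ 2 ^ (orderOf (g : G)).factorization 2) ^ 2 := by
      rw [ha, Subgroup.coe_mul, SubgroupClass.coe_pow, ← pow_two]
    rw [e]
    exact Odd.of_dvd_nat hgodd (orderOf_pow_dvd 2)
  -- powers of two of a three-cycle act as three-cycles
  have hpow : ∀ k : ℕ, (g ^ (2 * 2 ^ k)) • x₀ ≠ x₀ := by
    intro k
    induction k using Nat.twoStepInduction with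
    | zero => simpa using hg3
    | one =>
      intro h
      refine hg3 ?_
      have h' : g ^ 4 • x₀ = x₀ := by simpa using h
      have h6' := h6 g x₀
      rw [show (6 : ℕ) = 2 + 4 from rfl, pow_add, mul_smul, h'] at h6'
      exact h6'
    | more k ih _ =>
      intro h
      refine ih ?_
      have e : 2 * 2 ^ (k + 2) = 2 * 2 ^ k + 6 * 2 ^ k := by ring
      rwa [e, pow_add, mul_smul, mul_comm 6, pow_mul g (2 ^ k), h6] at h
  have hmove : a • x₀ ≠ x₀ := by
    rw [ha, ← pow_two, ← pow_mul, mul_comm]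
    exact hpow _
  refine ⟨a, a.2, hodd', fun h => hmove (Subtype.ext (by rw [hsmul]; exact h)), fun m hm => ?_⟩
  have ha2 : (a ^ 2) • x₀ ≠ a • x₀ := fun h => hmove (by
    rw [pow_two, mul_smul] at h
    exact MulAction.injective a h)
  have ha2' : (a ^ 2) • x₀ ≠ x₀ := fun h => by
    have hcop : (orderOf a).Coprime 2 := by
      rw [← Subgroup.orderOf_coe]; exact Nat.coprime_two_right.2 hodd'
    obtain ⟨j, hj⟩ := exists_pow_eq_self_of_coprime hcop.symm
    refine hmove ?_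
    rw [← hj]
    clear hj
    induction j with
    | zero => simp
    | succ j ih => rw [pow_succ, mul_smul, h, ih]
  let f : Fin 3 → X := fun i => (a ^ (i : ℕ)) • x₀
  have hf : Function.Injective f := by
    intro i j hij
    have e0 : f 0 = x₀ := by show a ^ 0 • x₀ = _; rw [pow_zero, one_smul]
    have e1 : f 1 = a • x₀ := by show a ^ 1 • x₀ = _; rw [pow_one]
    have e2 : f 2 = (a ^ 2) • x₀ := rfl
    fin_cases i <;> fin_cases j <;>
      first
        | rfl
        | (exfalso; simp only [Fin.mk_zero, Fin.mk_one, Fin.reduceFinMk, e0, e1, e2] at hij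
           first
             | exact hmove hij | exact hmove hij.symm | exact ha2 hij | exact ha2 hij.symm
             | exact ha2' hij | exact ha2' hij.symm)
  haveI := Fintype.ofFinite X
  have hfb : Function.Bijective f := (Fintype.bijective_iff_injective_and_card f).2
    ⟨hf, by rw [Fintype.card_fin, ← Nat.card_eq_fintype_card, hcard3]⟩
  obtain ⟨i, hi⟩ := hfb.2 ((⟨m, hm⟩ : ↥N) • x₀)
  refine ⟨i, ?_⟩
  have h2 : ((a ^ (i : ℕ))⁻¹ * ⟨m, hm⟩ : ↥N) • x₀ = x₀ := by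
    rw [mul_smul, ← hi]
    exact inv_smul_smul _ _
  have := congrArg Subtype.val h2
  rw [hsmul] at this
  simpa using this

/-- The elementary group of order 16 over `u` and one image of `z` and `u`. -/
theorem sixteen {H : Subgroup G} (hH : H ≤ (c.S : Subgroup G))
    (hc : (c.S : Subgroup G) ⊓ centralizer (H : Set G) ≤ H)
    (hHT : ¬ H ≤ c.T) (hu : c.u ∈ H) {n : G} (hn : n ∈ normalizer (H : Set G)) (hnz : n * c.z * n⁻¹ ≠ c.z) :
    ∃ V : Subgroup G, V ≤ c.T ∧ c.U ≤ V ∧ V ≤ H ∧ (∀ x ∈ V, x * x = 1) ∧ Nat.card ↥V = 16 ∧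
      n * c.z * n⁻¹ ∈ V ∧ n * c.u * n⁻¹ ∈ V ∧ n * c.z * n⁻¹ ∉ c.U ∧
      (∀ x ∈ V, (∀ y ∈ H, y * x = x * y) → x = 1 ∨ x = c.z ∨ x = n * c.z * n⁻¹ ∨ x = c.z * (n * c.z * n⁻¹)) ∧
      ∀ x ∈ V, ∃ w ∈ c.U, ∃ i j : Bool, x = w * cond i (n * c.z * n⁻¹) 1 * cond j (n * c.u * n⁻¹) 1 := by
  classical
  set N := normalizer (H : Set G) with hN
  have hzH := c.z_mem_centric hH hc
  obtain ⟨h₀, hh₀, hh₀T⟩ := SetLike.not_le_iff_exists.1 hHT
  -- images of `z` and `u`
  have zc : ∀ {m : G}, m ∈ N → ∀ x ∈ H, x * (m * c.z * m⁻¹) = m * c.z * m⁻¹ * x := by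
    intro m hm x hx
    have hy : m⁻¹ * x * m ∈ H := by simpa using (mem_normalizer_iff.1 (inv_mem hm) x).1 hx
    have := c.z_central _ (hH hy)
    calc x * (m * c.z * m⁻¹) = m * (m⁻¹ * x * m * c.z) * m⁻¹ := by group
      _ = m * c.z * m⁻¹ * x := by rw [this]; group
  have zS : ∀ {m : G}, m ∈ N → m * c.z * m⁻¹ ∈ H := fun hm => (mem_normalizer_iff.1 hm _).1 hzH
  have zz' : ∀ m : G, m * c.z * m⁻¹ * (m * c.z * m⁻¹) = 1 := fun m => by
    rw [show m * c.z * m⁻¹ * (m * c.z * m⁻¹) = m * (c.z * c.z) * m⁻¹ by group, c.zz]; group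
  have uu' : ∀ m : G, m * c.u * m⁻¹ * (m * c.u * m⁻¹) = 1 := fun m => by
    rw [show m * c.u * m⁻¹ * (m * c.u * m⁻¹) = m * (c.u * c.u) * m⁻¹ by group, c.uu]; group
  have uH : ∀ {m : G}, m ∈ N → m * c.u * m⁻¹ ∈ H := fun hm => (mem_normalizer_iff.1 hm _).1 hu
  have hu_comm : ∀ {m m' : G}, m ∈ N → m' ∈ N → m * c.z * m⁻¹ ≠ m' * c.z * m'⁻¹ →
      m * c.u * m⁻¹ * (m' * c.u * m'⁻¹) = m' * c.u * m'⁻¹ * (m * c.u * m⁻¹) :=
    fun hm hm' h => c.conj_comm hH hu hm hm' h
  -- the action of `H` on the elementary group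
  have act : ∀ {m : G}, m ∈ N → ∀ x ∈ H, (m⁻¹ * x * m ∈ c.T → x * (m * c.u * m⁻¹) * x⁻¹ = m * c.u * m⁻¹) ∧
      (m⁻¹ * x * m ∉ c.T → x * (m * c.u * m⁻¹) * x⁻¹ = m * c.u * m⁻¹ * (m * c.z * m⁻¹)) := by
    intro m hm x hx
    have hy : m⁻¹ * x * m ∈ H := by simpa using (mem_normalizer_iff.1 (inv_mem hm) x).1 hx
    have e : x * (m * c.u * m⁻¹) * x⁻¹ = m * (m⁻¹ * x * m * c.u * (m⁻¹ * x * m)⁻¹) * m⁻¹ := by group
    refine ⟨fun hT => ?_, fun hT => ?_⟩
    · rw [e, (c.mem_T_iff.1 hT).2, mul_inv_cancel_right]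
    · rw [e, c.conj_u (hH hy) hT]; group
  have h0u : h₀ * c.u * h₀⁻¹ = c.u * c.z := c.conj_u (hH hh₀) hh₀T
  set z₁ := n * c.z * n⁻¹ with hz₁
  set u₁ := n * c.u * n⁻¹ with hu₁
  have hz1H : z₁ ∈ H := zS hn
  have hu1H : u₁ ∈ H := uH hn
  have hz1u : c.u * z₁ = z₁ * c.u := zc hn _ hu
  have huu1 : c.u * u₁ = u₁ * c.u := by
    have h := hu_comm (one_mem N) hn (by rw [one_mul, inv_one, mul_one]; exact fun e => hnz e.symm)
    simpa using h
  -- the elementary group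
  set D : Set G := {c.z, c.u, z₁, u₁} with hD
  have hDc : ∀ a ∈ D, ∀ b ∈ D, a * b = b * a := by
    simp only [hD, Set.mem_insert_iff, Set.mem_singleton_iff]
    have hzc : ∀ x ∈ H, x * c.z = c.z * x := fun x hx => c.z_central x (hH hx)
    rintro a (rfl | rfl | rfl | rfl) b (rfl | rfl | rfl | rfl)
    all_goals first
      | rfl | exact hzc _ hu | exact (hzc _ hu).symm | exact hzc _ hz1H | exact (hzc _ hz1H).symm
      | exact hzc _ hu1H | exact (hzc _ hu1H).symm | exact hz1u | exact hz1u.symm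
      | exact huu1 | exact huu1.symm | exact zc hn _ hu1H | exact (zc hn _ hu1H).symm
  set V := closure D with hV
  have hDV : D ⊆ V := subset_closure
  have hVc : ∀ a ∈ V, ∀ b ∈ V, a * b = b * a := by
    haveI : IsMulCommutative ↥V := isMulCommutative_closure hDc
    exact fun a ha b hb => setLike_mul_comm ha hb
  have hVsq : ∀ x ∈ V, x * x = 1 := by
    intro x hx
    induction hx using closure_induction with
    | mem x hx =>
      rcases hx with rfl | rfl | rfl | rfl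
      exacts [c.zz, c.uu, zz' n, uu' n]
    | one => exact one_mul 1
    | mul a b ha hb iha ihb => exact sq_mul_of_comm iha ihb (hVc a ha b hb)
    | inv a _ ih => rw [← mul_inv_rev, ih, inv_one]
  have hVH : V ≤ H := (closure_le _).2 (by
    rintro x (rfl | rfl | rfl | rfl)
    exacts [hzH, hu, hz1H, hu1H])
  have hzV : c.z ∈ V := hDV (by simp [hD])
  have huV : c.u ∈ V := hDV (by simp [hD])
  have hz1V : z₁ ∈ V := hDV (by simp [hD])
  have hu1V : u₁ ∈ V := hDV (by simp [hD])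
  have hVT : V ≤ c.T := fun x hx => c.mem_T_iff.2 ⟨hH (hVH hx), hVc x hx _ huV⟩
  have hUV : c.U ≤ V := fun x hx => by
    rcases c.mem_U.1 hx with rfl | rfl | rfl | rfl
    exacts [V.one_mem, hzV, huV, mul_mem huV hzV]
  -- a central member of `U` is `1` or `z`
  have hUc : ∀ x ∈ c.U, (∀ y ∈ H, y * x = x * y) → x = 1 ∨ x = c.z := by
    intro x hx hxc
    rcases c.mem_U.1 hx with e | e | e | e
    · exact Or.inl e
    · exact Or.inr e
    · exfalso
      have := hxc h₀ hh₀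
      rw [e, ← mul_inv_eq_iff_eq_mul, h0u] at this
      exact c.uz_ne_u this
    · exfalso
      have := hxc h₀ hh₀
      rw [e, ← mul_inv_eq_iff_eq_mul, show h₀ * (c.u * c.z) * h₀⁻¹ = h₀ * c.u * h₀⁻¹ * (h₀ * c.z * h₀⁻¹) by group,
        h0u, c.z_central h₀ (hH hh₀), mul_inv_cancel_right, mul_assoc, c.zz, mul_one] at this
      exact c.uz_ne_u this.symm
  have hz1ne : z₁ ≠ 1 := fun e => c.z_ne (conj_eq_one_iff.1 e)
  have hz1U : z₁ ∉ c.U := fun h => by
    rcases hUc _ h (zc hn) with e | e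
    exacts [hz1ne e, hnz e]
  -- the third layer: `u₁` is outside `U⟨z₁⟩`
  set h₁ := n * h₀ * n⁻¹ with hh₁
  have hh₁H : h₁ ∈ H := (mem_normalizer_iff.1 hn _).1 hh₀
  have h1u : h₁ * u₁ * h₁⁻¹ = u₁ * z₁ := by
    refine (act hn h₁ hh₁H).2 ?_
    rwa [hh₁, show n⁻¹ * (n * h₀ * n⁻¹) * n = h₀ by group]
  have hu1U : ∀ v ∈ c.U, v * u₁ ≠ 1 ∧ v * u₁ ≠ z₁ := by
    intro v hv
    have key : u₁ ∈ c.U ∨ u₁ * z₁ ∈ c.U → False := by
      intro h
      have hx : h₁ * (c.U).subtype ⟨1, one_mem _⟩ * h₁⁻¹ = 1 := by simp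
      rcases h with h | h
      · have h' := c.U_normal h₁ (hH hh₁H) _ h
        rw [h1u] at h'
        exact hz1U (by simpa using mul_mem (inv_mem h) h')
      · have h' := c.U_normal h₁ (hH hh₁H) _ h
        rw [show h₁ * (u₁ * z₁) * h₁⁻¹ = h₁ * u₁ * h₁⁻¹ * (h₁ * z₁ * h₁⁻¹) by group, h1u, zc hn _ hh₁H,
          mul_inv_cancel_right, mul_assoc, zz' n, mul_one] at h'
        exact hz1U (by simpa using mul_mem (inv_mem h') h)
    refine ⟨fun e => key (Or.inl ?_), fun e => key (Or.inr ?_)⟩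
    · rw [show u₁ = v⁻¹ from eq_inv_of_mul_eq_one_right e]; exact inv_mem hv
    · rw [show u₁ = v⁻¹ * z₁ by rw [← e, inv_mul_cancel_left], mul_assoc, zz' n, mul_one]
      exact inv_mem hv
  have hzz1 : z₁ * z₁ = 1 := zz' n
  have huu1' : u₁ * u₁ = 1 := uu' n
  have hker : ∀ w ∈ c.U, ∀ i j : Bool, w * cond i z₁ 1 * cond j u₁ 1 = 1 → w = 1 ∧ i = false ∧ j = false := by
    intro w hw i j e
    cases i <;> cases j <;> simp only [cond_true, cond_false, mul_one] at e
    · exact ⟨e, rfl, rfl⟩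
    · exact absurd e (hu1U w hw).1
    · exact absurd (by rw [eq_inv_of_mul_eq_one_right e]; exact inv_mem hw) hz1U
    · exfalso
      refine (hu1U w hw).2 ?_
      rw [mul_assoc, hVc _ hz1V _ hu1V, ← mul_assoc] at e
      rw [eq_inv_of_mul_eq_one_left e]
      exact eq_inv_of_sq (zz' n)
  obtain ⟨hV16, hsurj⟩ : Nat.card ↥V = 16 ∧ ∀ x ∈ V, ∃ w ∈ c.U, ∃ i j : Bool,
      x = w * cond i z₁ 1 * cond j u₁ 1 := by
    let f : ↥c.U × Bool × Bool → ↥V := fun p =>
      ⟨(p.1 : G) * (cond p.2.1 z₁ 1) * (cond p.2.2 u₁ 1), mul_mem (mul_mem (hUV p.1.2)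
        (by cases p.2.1 <;> simp [hz1V, V.one_mem])) (by cases p.2.2 <;> simp [hu1V, V.one_mem])⟩
    have hf : Function.Injective f := by
      rintro ⟨a, i, j⟩ ⟨b, k, l⟩ hpq
      have e : (a : G) * cond i z₁ 1 * cond j u₁ 1 = (b : G) * cond k z₁ 1 * cond l u₁ 1 := congrArg Subtype.val hpq
      have hmem : ∀ b' : Bool, cond b' z₁ 1 ∈ V ∧ cond b' u₁ 1 ∈ V := fun b' => by
        cases b' <;> simp [hz1V, hu1V, V.one_mem]
      have hzz : cond i z₁ 1 * cond k z₁ 1 = cond (xor i k) z₁ 1 := by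
        cases i <;> cases k <;> (first | exact hzz1 | exact mul_one _ | exact one_mul _)
      have huu : cond j u₁ 1 * cond l u₁ 1 = cond (xor j l) u₁ 1 := by
        cases j <;> cases l <;> (first | exact huu1' | exact mul_one _ | exact one_mul _)
      have e2 : (a : G) * b * cond (xor i k) z₁ 1 * cond (xor j l) u₁ 1 = 1 := by
        rw [← hzz, ← huu]
        have h1 : (a : G) * cond i z₁ 1 * ((b : G) * cond k z₁ 1) =
            (a : G) * b * (cond i z₁ 1 * cond k z₁ 1) :=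
          Commute.mul_mul_mul_comm (hVc _ (hmem i).1 _ (hUV b.2)) _ _
        have h2 : (a : G) * cond i z₁ 1 * cond j u₁ 1 * ((b : G) * cond k z₁ 1 * cond l u₁ 1) =
            (a : G) * cond i z₁ 1 * ((b : G) * cond k z₁ 1) * (cond j u₁ 1 * cond l u₁ 1) :=
          Commute.mul_mul_mul_comm (hVc _ (hmem j).2 _ (mul_mem (hUV b.2) (hmem k).1)) _ _
        rw [← h1, ← h2, e]
        exact hVsq _ (mul_mem (mul_mem (hUV b.2) (hmem k).1) (hmem l).2)
      obtain ⟨hab, hik, hjl⟩ := hker _ (mul_mem a.2 b.2) _ _ e2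
      have : a = b := Subtype.ext (by
        rw [eq_inv_of_mul_eq_one_left hab, eq_inv_of_sq (c.U_sq _ b.2)])
      subst this
      clear hzz huu e2 e hpq
      cases i <;> cases k <;> cases j <;> cases l <;> first | rfl | exact absurd hik (by decide) | exact absurd hjl (by decide)
    have h16 : Nat.card (↥c.U × Bool × Bool) = 16 := by simp [c.U_card]
    have h := Nat.card_le_card_of_injective f hf
    rw [h16] at h
    have he : Nat.card ↥V = 16 := le_antisymm (c.card_elementary_le (hVH.trans hH) hVsq) h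
    refine ⟨he, fun x hx => ?_⟩
    obtain ⟨⟨w, i, j⟩, hw⟩ := ((Nat.bijective_iff_injective_and_card f).2 ⟨hf, by rw [h16, he]⟩).2 ⟨x, hx⟩
    exact ⟨w, w.2, i, j, (congrArg Subtype.val hw).symm⟩
  refine ⟨V, hVT, hUV, hVH, hVsq, hV16, hz1V, hu1V, hz1U, fun x hx => ?_, hsurj⟩
  -- central members
  obtain ⟨w, hw, i, j, rfl⟩ := hsurj x hx
  intro hcen
  have hpc : ∀ y ∈ H, y * (w * cond j u₁ 1) = w * cond j u₁ 1 * y := by
    intro y hy
    have h1 : Commute y (w * cond i z₁ 1 * cond j u₁ 1) := hcen y hy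
    cases i
    · simpa using h1.eq
    · have h2 : Commute y z₁ := zc hn y hy
      have hu1c : cond j u₁ 1 ∈ V := by cases j <;> simp [hu1V, V.one_mem]
      have e : w * cond j u₁ 1 = w * z₁ * cond j u₁ 1 * z₁ := by
        rw [mul_assoc (w * z₁), hVc _ hu1c _ hz1V, mul_assoc w, ← mul_assoc z₁, hzz1, one_mul]
      rw [e]
      exact (h1.mul_right h2).eq
  cases j
  · simp only [cond_false, mul_one] at hpc ⊢
    rcases hUc w hw hpc with rfl | rfl <;> cases i <;> simp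
  · exfalso
    simp only [cond_true] at hpc
    have h1 := hpc h₁ hh₁H
    have h2 : h₁ * w * h₁⁻¹ * (u₁ * z₁) = w * u₁ := by
      rw [← h1u, show h₁ * w * h₁⁻¹ * (h₁ * u₁ * h₁⁻¹) = h₁ * (w * u₁) * h₁⁻¹ by group, h1, mul_inv_cancel_right]
    have h3 : h₁ * w * h₁⁻¹ ∈ c.U := c.U_normal h₁ (hH hh₁H) w hw
    rw [hVc _ hu1V _ hz1V, ← mul_assoc] at h2
    have h4 := mul_right_cancel h2
    refine hz1U ?_
    rw [show z₁ = (h₁ * w * h₁⁻¹)⁻¹ * w by
      calc z₁ = (h₁ * w * h₁⁻¹)⁻¹ * (h₁ * w * h₁⁻¹ * z₁) := by group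
        _ = (h₁ * w * h₁⁻¹)⁻¹ * w := by rw [h4]]
    exact mul_mem (inv_mem h3) hw

/-- A step outside `T` over `u` moving `z`: an elementary subgroup of order 16 in `T`, and moves in `T` and `R`. -/
theorem inner_step {H : Subgroup G} (hH : H ≤ (c.S : Subgroup G))
    (hc : (c.S : Subgroup G) ⊓ centralizer (H : Set G) ≤ H)
    (hfull : ¬ 2 ∣ ((c.S : Subgroup G) ⊓ normalizer (H : Set G)).relIndex (normalizer (H : Set G)))
    (hHT : ¬ H ≤ c.T) (hu : c.u ∈ H) {n : G} (hn : n ∈ normalizer (H : Set G)) (hnz : n * c.z * n⁻¹ ≠ c.z) :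
    (∃ V : Subgroup G, V ≤ c.T ∧ c.U ≤ V ∧ V ≤ H ∧ (∀ x ∈ V, x * x = 1) ∧ Nat.card ↥V = 16) ∧
      ∀ x ∈ H, n * x * n⁻¹ * x⁻¹ ∈ c.T ⊔ c.R := by
  classical
  set N := normalizer (H : Set G) with hN
  have hzH := c.z_mem_centric hH hc
  have zc : ∀ {m : G}, m ∈ N → ∀ x ∈ H, x * (m * c.z * m⁻¹) = m * c.z * m⁻¹ * x := by
    intro m hm x hx
    have hy : m⁻¹ * x * m ∈ H := by simpa using (mem_normalizer_iff.1 (inv_mem hm) x).1 hx
    have := c.z_central _ (hH hy)
    calc x * (m * c.z * m⁻¹) = m * (m⁻¹ * x * m * c.z) * m⁻¹ := by group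
      _ = m * c.z * m⁻¹ * x := by rw [this]; group
  have sq' : ∀ (m y : G), y * y = 1 → m * y * m⁻¹ * (m * y * m⁻¹) = 1 := fun m y hy => by
    rw [show m * y * m⁻¹ * (m * y * m⁻¹) = m * (y * y) * m⁻¹ by group, hy]; group
  obtain ⟨V, hVT, hUV, hVH, hVsq, hV16, hz1V, -, hz1U, hVZ, -⟩ := c.sixteen hH hc hHT hu hn hnz
  refine ⟨⟨V, hVT, hUV, hVH, hVsq, hV16⟩, ?_⟩
  have horb : ∀ m ∈ N, m * c.z * m⁻¹ = c.z ∨ m * c.z * m⁻¹ = n * c.z * n⁻¹ ∨
      m * c.z * m⁻¹ = c.z * (n * c.z * n⁻¹) := by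
    intro m hm
    have hmH : m * c.z * m⁻¹ ∈ H := (mem_normalizer_iff.1 hm _).1 hzH
    have hmV : m * c.z * m⁻¹ ∈ V := c.mem_of_sixteen (hVH.trans hH) hVsq hV16.ge (hH hmH) (sq' m _ c.zz)
      fun x hx => zc hm x (hVH hx)
    rcases hVZ _ hmV (zc hm) with e | e
    · exact absurd (conj_eq_one_iff.1 e) c.z_ne
    · exact e
  obtain ⟨a, haN, hao, haz, hdec⟩ := c.exists_odd_cycle (N := N) ⟨n, hn, rfl⟩ hnz horb hfull
  obtain ⟨W, -, -, hWH, hWsq, hW16, hzaW, huaW, hzaU, -, hsurj⟩ := c.sixteen hH hc hHT hu haN haz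
  -- the third image
  have ha2N : a ^ 2 ∈ N := pow_mem haN 2
  have haa : a ^ 2 * c.z * (a ^ 2)⁻¹ ≠ a * c.z * a⁻¹ := fun e => haz (by
    rw [pow_two, show a * a * c.z * (a * a)⁻¹ = a * (a * c.z * a⁻¹) * a⁻¹ by group] at e
    exact mul_left_cancel (mul_right_cancel e))
  have haa' : a ^ 2 * c.z * (a ^ 2)⁻¹ ≠ c.z := fun e => haz (by
    have hcop : (orderOf a).Coprime 2 := Nat.coprime_two_right.2 hao
    obtain ⟨j, hj⟩ := exists_pow_eq_self_of_coprime hcop.symm
    have : (a ^ 2) ^ j ∈ centralizer ({c.z} : Set G) :=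
      pow_mem (mem_centralizer_singleton_iff.2 (mul_inv_eq_iff_eq_mul.1 e)) j
    rw [hj, mem_centralizer_singleton_iff] at this
    exact mul_inv_eq_iff_eq_mul.2 this)
  set p := a ^ 2 * c.u * (a ^ 2)⁻¹ with hp
  set za := a * c.z * a⁻¹ with hza
  set ua := a * c.u * a⁻¹ with hua
  set z2 := a ^ 2 * c.z * (a ^ 2)⁻¹ with hz2
  have hpH : p ∈ H := (mem_normalizer_iff.1 ha2N _).1 hu
  have hpp : p * p = 1 := sq' _ _ c.uu
  have hcomm_u : c.u * p = p * c.u := by
    have h := c.conj_comm hH hu (one_mem N) ha2N (by rw [one_mul, inv_one, mul_one]; exact fun e => haa' e.symm)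
    simpa using h
  have hcomm_ua : ua * p = p * ua := c.conj_comm hH hu haN ha2N (fun e => haa e.symm)
  have hpV : p ∈ W := by
    refine c.mem_of_sixteen (hWH.trans hH) hWsq hW16.ge (hH hpH) hpp fun x hx => ?_
    obtain ⟨w, hw, i, j, rfl⟩ := hsurj x hx
    have h1 : Commute w p := by
      rcases c.mem_U.1 hw with rfl | rfl | rfl | rfl
      · exact Commute.one_left p
      · exact ((c.z_central p (hH hpH)).symm : _)
      · exact hcomm_u
      · exact Commute.mul_left hcomm_u ((c.z_central p (hH hpH)).symm : _)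
    have h2 : Commute (cond i za 1) p := by
      cases i
      · exact Commute.one_left p
      · exact ((zc haN p hpH).symm : _)
    have h3 : Commute (cond j ua 1) p := by
      cases j
      · exact Commute.one_left p
      · exact hcomm_ua
    exact ((h1.mul_left h2).mul_left h3).eq
  obtain ⟨w, hw, i, j, hpe⟩ := hsurj p hpV
  -- commutators with the two generators
  have act : ∀ {m : G}, m ∈ N → ∀ x ∈ H, (m⁻¹ * x * m ∈ c.T → x * (m * c.u * m⁻¹) * x⁻¹ = m * c.u * m⁻¹) ∧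
      (m⁻¹ * x * m ∉ c.T → x * (m * c.u * m⁻¹) * x⁻¹ = m * c.u * m⁻¹ * (m * c.z * m⁻¹)) := by
    intro m hm x hx
    have hy : m⁻¹ * x * m ∈ H := by simpa using (mem_normalizer_iff.1 (inv_mem hm) x).1 hx
    have e : x * (m * c.u * m⁻¹) * x⁻¹ = m * (m⁻¹ * x * m * c.u * (m⁻¹ * x * m)⁻¹) * m⁻¹ := by group
    refine ⟨fun hT => ?_, fun hT => ?_⟩
    · rw [e, (c.mem_T_iff.1 hT).2, mul_inv_cancel_right]
    · rw [e, c.conj_u (hH hy) hT]; group
  obtain ⟨h₀, hh₀, hh₀T⟩ := SetLike.not_le_iff_exists.1 hHT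
  have hmove2 : ∃ x ∈ H, x * p * x⁻¹ = p * z2 := ⟨a ^ 2 * h₀ * (a ^ 2)⁻¹, (mem_normalizer_iff.1 ha2N _).1 hh₀,
    (act ha2N _ ((mem_normalizer_iff.1 ha2N _).1 hh₀)).2
      (by rwa [show (a ^ 2)⁻¹ * (a ^ 2 * h₀ * (a ^ 2)⁻¹) * a ^ 2 = h₀ by group])⟩
  have hcz : ∀ y : G, y ∈ H → y * c.z * y⁻¹ = c.z := fun y hy => by
    rw [c.z_central y (hH hy), mul_inv_cancel_right]
  have hcza : ∀ y : G, y ∈ H → y * za * y⁻¹ = za := fun y hy => by
    rw [zc haN y hy, mul_inv_cancel_right]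
  -- the displacement of `p` is the product of the displacements of `w` and `ua`
  have disp : ∀ x ∈ H, p⁻¹ * (x * p * x⁻¹) =
      w⁻¹ * (x * w * x⁻¹) * cond j (ua⁻¹ * (x * ua * x⁻¹)) 1 := by
    intro x hx
    have hwc : ∀ q ∈ W, ∀ q' ∈ W, Commute q q' := fun q hq q' hq' => comm_of_sq hWsq hq hq'
    have hxw : x * w * x⁻¹ ∈ c.U := c.U_normal x (hH hx) w hw
    have hUW : c.U ≤ W := fun q hq => by
      rcases c.mem_U.1 hq with rfl | rfl | rfl | rfl
      · exact W.one_mem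
      · exact c.mem_of_sixteen (hWH.trans hH) hWsq hW16.ge c.zS c.zz fun y hy => c.z_central y (hH (hWH hy))
      · refine c.mem_of_sixteen (hWH.trans hH) hWsq hW16.ge c.uS c.uu fun y hy => ?_
        obtain ⟨w', hw', i', j', rfl⟩ := hsurj y hy
        have h1 : Commute w' c.u := c.U_comm hw' c.u_mem
        have h2 : Commute (cond i' za 1) c.u := by
          cases i'
          · exact Commute.one_left _
          · exact (zc haN _ hu).symm
        have h3 : Commute (cond j' ua 1) c.u := by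
          cases j'
          · exact Commute.one_left _
          · have h := c.conj_comm hH hu haN (one_mem N) (by rw [one_mul, inv_one, mul_one]; exact haz)
            simp only [one_mul, inv_one, mul_one] at h
            exact h
        exact ((h1.mul_left h2).mul_left h3).eq
      · refine mul_mem (c.mem_of_sixteen (hWH.trans hH) hWsq hW16.ge c.uS c.uu fun y hy => ?_)
          (c.mem_of_sixteen (hWH.trans hH) hWsq hW16.ge c.zS c.zz fun y hy => c.z_central y (hH (hWH hy)))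
        obtain ⟨w', hw', i', j', rfl⟩ := hsurj y hy
        have h1 : Commute w' c.u := c.U_comm hw' c.u_mem
        have h2 : Commute (cond i' za 1) c.u := by
          cases i'
          · exact Commute.one_left _
          · exact (zc haN _ hu).symm
        have h3 : Commute (cond j' ua 1) c.u := by
          cases j'
          · exact Commute.one_left _
          · have h := c.conj_comm hH hu haN (one_mem N) (by rw [one_mul, inv_one, mul_one]; exact haz)
            simp only [one_mul, inv_one, mul_one] at h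
            exact h
        exact ((h1.mul_left h2).mul_left h3).eq
    rw [hpe]
    cases i <;> cases j <;> simp only [cond_true, cond_false, mul_one]
    · have h1 := hcza x hx
      have hm : Commute za (x * ua * x⁻¹) ∨ True := Or.inr trivial
      rw [show x * (w * ua) * x⁻¹ = x * w * x⁻¹ * (x * ua * x⁻¹) by group, mul_inv_rev, mul_assoc, ← mul_assoc w⁻¹,
        ← mul_assoc ua⁻¹, (hwc _ (inv_mem huaW) _ (mul_mem (inv_mem (hUW hw)) (hUW hxw))).eq, mul_assoc, mul_assoc]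
    · rw [show x * (w * za) * x⁻¹ = x * w * x⁻¹ * (x * za * x⁻¹) by group, hcza x hx, mul_inv_rev, mul_assoc,
        ← mul_assoc w⁻¹, (hwc _ (inv_mem hzaW) _ (mul_mem (mul_mem (inv_mem (hUW hw)) (hUW hxw)) hzaW)).eq,
        mul_inv_cancel_right]
    · rw [show x * (w * za * ua) * x⁻¹ = x * w * x⁻¹ * (x * za * x⁻¹) * (x * ua * x⁻¹) by group, hcza x hx,
        show (w * za * ua)⁻¹ * (x * w * x⁻¹ * za * (x * ua * x⁻¹)) =
          ua⁻¹ * (za⁻¹ * (w⁻¹ * (x * w * x⁻¹)) * za) * (x * ua * x⁻¹) by group,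
        (hwc _ (inv_mem hzaW) _ (mul_mem (inv_mem (hUW hw)) (hUW hxw))).eq, inv_mul_cancel_right,
        (hwc _ (inv_mem huaW) _ (mul_mem (inv_mem (hUW hw)) (hUW hxw))).eq, mul_assoc]
  have hz2ne : z2 ≠ 1 := fun e => c.z_ne (conj_eq_one_iff.1 e)
  have hwd : ∀ x ∈ H, (x ∈ c.T → w⁻¹ * (x * w * x⁻¹) = 1) ∧ ((w = c.u ∨ w = c.u * c.z) → x ∉ c.T →
      w⁻¹ * (x * w * x⁻¹) = c.z) ∧ ((w = 1 ∨ w = c.z) → w⁻¹ * (x * w * x⁻¹) = 1) := by
    intro x hx
    refine ⟨fun hT => ?_, fun hwu hT => ?_, fun hwz => ?_⟩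
    · rw [(c.mem_T.1 hT).2 w hw, mul_inv_cancel_right, inv_mul_cancel]
    · have := c.conj_u (hH hx) hT
      rcases hwu with rfl | rfl
      · rw [this, inv_mul_cancel_left]
      · rw [show x * (c.u * c.z) * x⁻¹ = x * c.u * x⁻¹ * (x * c.z * x⁻¹) by group, this, hcz x hx,
          inv_mul_cancel_left]
    · rcases hwz with rfl | rfl
      · group
      · rw [hcz x hx, inv_mul_cancel]
  have hud : ∀ x ∈ H, (a⁻¹ * x * a ∈ c.T → ua⁻¹ * (x * ua * x⁻¹) = 1) ∧
      (a⁻¹ * x * a ∉ c.T → ua⁻¹ * (x * ua * x⁻¹) = za) := fun x hx =>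
    ⟨fun hT => by rw [(act haN x hx).1 hT, inv_mul_cancel],
      fun hT => by rw [(act haN x hx).2 hT, inv_mul_cancel_left]⟩
  have hpd : ∀ x ∈ H, p⁻¹ * (x * p * x⁻¹) = 1 ∨ p⁻¹ * (x * p * x⁻¹) = z2 := by
    intro x hx
    by_cases hT : (a ^ 2)⁻¹ * x * a ^ 2 ∈ c.T
    · left; rw [(act ha2N x hx).1 hT, inv_mul_cancel]
    · right; rw [(act ha2N x hx).2 hT, inv_mul_cancel_left]
  have hwu : w = c.u ∨ w = c.u * c.z := by
    obtain ⟨x, hx, e⟩ := hmove2
    have h := disp x hx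
    rw [e, inv_mul_cancel_left] at h
    rcases c.mem_U.1 hw with e' | e' | e' | e'
    · exfalso
      rw [(hwd x hx).2.2 (Or.inl e'), one_mul] at h
      cases j
      · exact hz2ne h
      · by_cases hT : a⁻¹ * x * a ∈ c.T
        · rw [cond_true, (hud x hx).1 hT] at h; exact hz2ne h
        · rw [cond_true, (hud x hx).2 hT] at h; exact haa h
    · exfalso
      rw [(hwd x hx).2.2 (Or.inr e'), one_mul] at h
      cases j
      · exact hz2ne h
      · by_cases hT : a⁻¹ * x * a ∈ c.T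
        · rw [cond_true, (hud x hx).1 hT] at h; exact hz2ne h
        · rw [cond_true, (hud x hx).2 hT] at h; exact haa h
    · exact Or.inl e'
    · exact Or.inr e'
  have hj : j = true := by
    obtain ⟨x, hx, e⟩ := hmove2
    have h := disp x hx
    rw [e, inv_mul_cancel_left] at h
    cases j
    · exfalso
      rw [cond_false, mul_one] at h
      by_cases hT : x ∈ c.T
      · rw [(hwd x hx).1 hT] at h; exact hz2ne h
      · rw [(hwd x hx).2.1 hwu hT] at h; exact haa' h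
    · rfl
  have hiff : ∀ x ∈ H, (x ∈ c.T ↔ a⁻¹ * x * a ∈ c.T) := by
    intro x hx
    have h := disp x hx
    rw [hj, cond_true] at h
    constructor <;> intro hT
    · by_contra hT'
      rw [(hwd x hx).1 hT, (hud x hx).2 hT', one_mul] at h
      rcases hpd x hx with e | e
      · exact c.z_ne (conj_eq_one_iff.1 (h.symm.trans e))
      · exact haa (e.symm.trans h)
    · by_contra hT'
      rw [(hwd x hx).2.1 hwu hT', (hud x hx).1 hT, mul_one] at h
      rcases hpd x hx with e | e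
      · exact c.z_ne (h.symm.trans e)
      · exact haa' (e.symm.trans h)
  -- powers of the cycle
  have hconj : ∀ k : ℕ, ∀ x ∈ H, a ^ k * x * (a ^ k)⁻¹ * x⁻¹ ∈ c.T := by
    intro k
    induction k with
    | zero => intro x _; simp [c.T.one_mem]
    | succ k ih =>
      intro x hx
      have hy : a ^ k * x * (a ^ k)⁻¹ ∈ H := (mem_normalizer_iff.1 (pow_mem haN k) x).1 hx
      have hy' : a * (a ^ k * x * (a ^ k)⁻¹) * a⁻¹ ∈ H := (mem_normalizer_iff.1 haN _).1 hy
      have h1 : a * (a ^ k * x * (a ^ k)⁻¹) * a⁻¹ * (a ^ k * x * (a ^ k)⁻¹)⁻¹ ∈ c.T := by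
        have hi := hiff _ hy'
        rw [show a⁻¹ * (a * (a ^ k * x * (a ^ k)⁻¹) * a⁻¹) * a = a ^ k * x * (a ^ k)⁻¹ by group] at hi
        by_cases hT : a ^ k * x * (a ^ k)⁻¹ ∈ c.T
        · exact mul_mem (hi.2 hT) (inv_mem hT)
        · exact c.mul_mem_T (hH hy') (inv_mem (hH hy)) (fun h => hT (hi.1 h))
            (fun h => hT (by simpa using inv_mem h))
      have := mul_mem h1 (ih x hx)
      rwa [show a * (a ^ k * x * (a ^ k)⁻¹) * a⁻¹ * (a ^ k * x * (a ^ k)⁻¹)⁻¹ * (a ^ k * x * (a ^ k)⁻¹ * x⁻¹) =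
        a ^ (k + 1) * x * (a ^ (k + 1))⁻¹ * x⁻¹ by rw [pow_succ']; group] at this
  intro x hx
  obtain ⟨k, hk⟩ := hdec n hn
  set g := (a ^ k)⁻¹ * n with hg
  have hgN : g ∈ N := mul_mem (inv_mem (pow_mem haN k)) hn
  have hgx : g * x * g⁻¹ ∈ H := (mem_normalizer_iff.1 hgN x).1 hx
  have h1 := mem_sup_left (T := c.R) (hconj k _ hgx)
  have h2 := c.move_mem (mul_inv_eq_iff_eq_mul.1 hk) (hH hx) (hH hgx)
  have := mul_mem h1 h2
  rwa [show a ^ k * (g * x * g⁻¹) * (a ^ k)⁻¹ * (g * x * g⁻¹)⁻¹ * (g * x * g⁻¹ * x⁻¹) = n * x * n⁻¹ * x⁻¹ by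
    rw [hg]; group] at this

end Ctx2

end CfsgLib.NoEightConstrained
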