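/-
A square root of the central involution of a normal four-group, and elementary covering lemmas.

Blueprint: `blueprint/S3272.md`.
-/
import Cfsg.Agent.Lib.NoEightConstrained.Basic

set_option autoImplicit false
set_option linter.style.haveILetI false

namespace CfsgLib.NoEightConstrained

open Subgroup MacWilliams

section general

variable {X : Type*} [Group X] [Finite X]

/-- A group is not covered by two subgroups of index at least three and one proper subgroup. -/
theorem exists_not_mem_three {A B C : Subgroup X} (hA : 3 ≤ A.index) (hB : 3 ≤ B.index) (hC : C ≠ ⊤) :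
    ∃ x, x ∉ A ∧ x ∉ B ∧ x ∉ C := by
  classical
  haveI := Fintype.ofFinite X
  by_contra h
  push Not at h
  set sA := (Finset.univ : Finset X).filter (· ∈ A) with hsA
  set sB := (Finset.univ : Finset X).filter (· ∈ B) with hsB
  set sC := (Finset.univ : Finset X).filter (· ∈ C) with hsC
  have card_eq : ∀ D : Subgroup X, ((Finset.univ : Finset X).filter (· ∈ D)).card = Nat.card ↥D := by
    intro D
    rw [Nat.card_eq_fintype_card, Fintype.card_subtype]
  have h1 : ∀ D : Subgroup X, 3 ≤ D.index →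
      3 * ((Finset.univ : Finset X).filter (· ∈ D)).card ≤ Nat.card X := by
    intro D hD
    rw [card_eq, ← D.card_mul_index, mul_comm]
    exact Nat.mul_le_mul_left _ hD
  have hA3 := h1 A hA
  have hB3 := h1 B hB
  rw [← hsA] at hA3
  rw [← hsB] at hB3
  have hone : (1 : X) ∈ sA ∩ sB := by simp [hsA, hsB]
  have hAB := Finset.card_union_add_card_inter sA sB
  have hpos := Finset.card_pos.2 ⟨1, hone⟩
  have hcov : (Finset.univ : Finset X) ⊆ (sA ∪ sB) ∪ sC := by
    intro x _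
    simp only [hsA, hsB, hsC, Finset.mem_union, Finset.mem_filter, Finset.mem_univ, true_and]
    by_cases a : x ∈ A
    · exact Or.inl (Or.inl a)
    by_cases b : x ∈ B
    · exact Or.inl (Or.inr b)
    exact Or.inr (h x a b)
  have hn : Nat.card X = (Finset.univ : Finset X).card := by rw [Finset.card_univ, Nat.card_eq_fintype_card]
  have hcov' := (Finset.card_le_card hcov).trans (Finset.card_union_le _ _)
  by_cases h3 : 3 ≤ C.index
  · have hC3 := h1 C h3
    rw [← hsC] at hC3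
    omega
  have hne0 : C.index ≠ 0 := index_ne_zero_of_finite
  have hne1 : C.index ≠ 1 := fun e => hC (index_eq_one.1 e)
  have h2 : C.index = 2 := by omega
  have half : ∀ D : Subgroup X, 2 * (((Finset.univ : Finset X).filter (· ∈ D)).filter (· ∉ C)).card ≤
      ((Finset.univ : Finset X).filter (· ∈ D)).card := by
    intro D
    set sD := (Finset.univ : Finset X).filter (· ∈ D) with hsD
    have hsum := Finset.card_filter_add_card_filter_not (s := sD) (· ∈ C)
    rcases (sD.filter (· ∉ C)).eq_empty_or_nonempty with e | ⟨a, ha⟩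
    · simp [e]
    have hle : (sD.filter (· ∉ C)).card ≤ (sD.filter (· ∈ C)).card := by
      refine Finset.card_le_card_of_injOn (fun x => a * x) ?_ (fun x _ y _ hxy => mul_left_cancel hxy)
      intro x hx
      simp only [Finset.coe_filter, Set.mem_setOf_eq, Finset.mem_filter, hsD, Finset.mem_univ, true_and] at ha hx ⊢
      exact ⟨mul_mem ha.1 hx.1, (mul_mem_iff_of_index_two h2).2 ⟨fun h => absurd h ha.2, fun h => absurd h hx.2⟩⟩
    omega
  have hA2 := half A
  have hB2 := half B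
  rw [← hsA] at hA2
  rw [← hsB] at hB2
  have hout : (Finset.univ : Finset X).filter (· ∉ C) ⊆ sA.filter (· ∉ C) ∪ sB.filter (· ∉ C) := by
    intro x hx
    simp only [Finset.mem_filter, Finset.mem_univ, true_and] at hx
    simp only [hsA, hsB, Finset.mem_union, Finset.mem_filter, Finset.mem_univ, true_and]
    by_cases a : x ∈ A
    · exact Or.inl ⟨a, hx⟩
    · exact Or.inr ⟨by by_contra b; exact hx (h x a b), hx⟩
  have hout' := (Finset.card_le_card hout).trans (Finset.card_union_le _ _)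
  have hC2 : sC.card * 2 = Nat.card X := by rw [hsC, card_eq, ← h2, C.card_mul_index]
  have hsplit := Finset.card_filter_add_card_filter_not (s := (Finset.univ : Finset X)) (· ∈ C)
  rw [← hsC] at hsplit
  omega

end general

variable {G : Type*} [Group G] [Finite G]

namespace Ctx2

variable (c : Ctx2 G)

/-- The central involution has a square root centralising `U` whose commutators with `S` lie in `U`. -/
theorem exists_root : ∃ a ∈ c.T, a * a = c.z ∧ ∀ x ∈ (c.S : Subgroup G), a⁻¹ * (x * a * x⁻¹) ∈ c.U := by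
  classical
  set S : Subgroup G := (c.S : Subgroup G) with hS
  have h2 : IsPGroup 2 ↥S := c.S.2
  set U' : Subgroup ↥S := c.U.subgroupOf S with hU'
  have hU'n : U'.Normal := ⟨fun v hv s => c.U_normal _ s.2 _ hv⟩
  have hU'c : ∀ a ∈ U', ∀ b ∈ U', a * b = b * a := fun a ha b hb => Subtype.ext (c.U_comm ha hb)
  have hU'4 : ∀ a ∈ U', a ^ 4 = 1 := fun a ha => Subtype.ext (by
    have := c.U_sq _ (mem_subgroupOf.1 ha)
    show (a : G) ^ 4 = 1
    rw [show (4 : ℕ) = 2 * 2 from rfl, pow_mul, pow_two (a : G), this, one_pow])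
  obtain ⟨A, ⟨h1, hAc, hA4, hUA⟩, hmax⟩ := (Set.toFinite {B : Subgroup ↥S | B.Normal ∧
    (∀ a ∈ B, ∀ b ∈ B, a * b = b * a) ∧ (∀ a ∈ B, a ^ 4 = 1) ∧ U' ≤ B}).exists_maximal
      ⟨U', hU'n, hU'c, hU'4, le_rfl⟩
  have hA : MaxFour A := ⟨h1, hAc, hA4, fun B hB hc hf hle =>
    le_antisymm (hmax ⟨hB, hc, hf, hUA.trans hle⟩ hle) hle⟩
  have homA : ∀ x : ↥S, x ∈ A → x * x = 1 → x ∈ U' := by
    intro x hxA hx
    have hle : U' ≤ omA hA := fun y hy => ⟨hUA hy, Subtype.ext (by
      show (y : G) ^ 2 = 1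
      rw [pow_two]; exact c.U_sq _ (mem_subgroupOf.1 hy))⟩
    have hcard : Nat.card ↥U' = 4 := by rw [Nat.card_congr (subgroupOfEquivOfLe c.U_le).toEquiv, c.U_card]
    have heq := eq_of_le_of_card_ge hle (by rw [hcard]; exact card_omA hA c.noEight)
    rw [heq]
    exact ⟨hxA, by rw [pow_two]; exact hx⟩
  have hAT : ∀ x : ↥S, x ∈ A → (x : G) ∈ c.T := fun x hx =>
    c.mem_T.2 ⟨x.2, fun v hv => congrArg Subtype.val (hAc x hx ⟨v, c.U_le hv⟩ (hUA hv))⟩
  obtain ⟨a₁, ha₁, hne₁⟩ : ∃ a₁ ∈ A, a₁ * a₁ ≠ 1 := by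
    by_contra hall
    push Not at hall
    have hAU : ∀ x : ↥S, x ∈ A → x ∈ U' := fun x hx => homA x hx (hall x hx)
    have hinv : ∀ x : ↥S, (x : G) ∈ c.T → x * x = 1 → x ∈ U' := by
      intro x hx hx2
      refine hAU x (hA.mem_of_four h2 ?_ (by rw [show (4 : ℕ) = 2 * 2 from rfl, pow_mul, pow_two x, hx2, one_pow]))
      refine mem_centralizer_iff.2 fun y hy => Subtype.ext ?_
      exact ((c.mem_T.1 hx).2 _ (mem_subgroupOf.1 (hAU y hy))).symm
    refine c.rank3 fun E hEc hE2 => ?_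
    haveI := hEc
    have hE2' : ∀ e ∈ E, e * e = 1 := fun e he => by rw [← pow_two]; exact hE2 e he
    have hU'card : Nat.card ↥U' = 4 := by rw [Nat.card_congr (subgroupOfEquivOfLe c.U_le).toEquiv, c.U_card]
    by_cases hEU : ∀ e ∈ E, (e : G) ∈ c.T
    · refine (card_le_of_le fun e he => hinv e (hEU e he) (hE2' e he)).trans ?_
      rw [hU'card]; norm_num
    push Not at hEU
    obtain ⟨x, hxE, hxT⟩ := hEU
    set F : Finset ↥S := {1, ⟨c.z, c.zS⟩} with hF
    have hsub : ∀ e ∈ E, e ∈ F ∨ x * e ∈ F := by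
      have key : ∀ e ∈ E, (e : G) ∈ c.T → e ∈ F := by
        intro e he heT
        have heU : (e : G) ∈ c.U := mem_subgroupOf.1 (hinv e heT (hE2' e he))
        have hcomm : (x : G) * (e : G) = (e : G) * x :=
          congrArg (fun w : ↥E => ((w : ↥S) : G))
            (hEc.is_comm.comm (⟨x, hxE⟩ : ↥E) ⟨e, he⟩)
        have hzx : (x : G) * c.z = c.z * x := c.z_central _ x.2
        rcases c.mem_U.1 heU with h | h | h | h
        · exact Finset.mem_insert.2 (Or.inl (Subtype.ext h))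
        · exact Finset.mem_insert.2 (Or.inr (Finset.mem_singleton.2 (Subtype.ext h)))
        · exact absurd (c.mem_T_iff.2 ⟨x.2, by rw [← h]; exact hcomm⟩) hxT
        · refine absurd (c.mem_T_iff.2 ⟨x.2, ?_⟩) hxT
          rw [h] at hcomm
          refine mul_right_cancel (b := c.z) ?_
          rw [mul_assoc, hcomm, mul_assoc c.u (x : G) c.z, hzx, ← mul_assoc]
      intro e he
      by_cases heT : (e : G) ∈ c.T
      · exact Or.inl (key e he heT)
      · exact Or.inr (key _ (mul_mem hxE he) (c.mul_mem_T x.2 e.2 hxT heT))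
    haveI := Fintype.ofFinite ↥S
    have hcardE : Nat.card ↥E = ((Finset.univ : Finset ↥S).filter (· ∈ E)).card := by
      rw [Nat.card_eq_fintype_card, Fintype.card_subtype]
    have hsub' : (Finset.univ : Finset ↥S).filter (· ∈ E) ⊆ F ∪ F.image (x * ·) := by
      intro e he
      simp only [Finset.mem_filter, Finset.mem_univ, true_and] at he
      rcases hsub e he with h | h
      · exact Finset.mem_union_left _ h
      · refine Finset.mem_union_right _ (Finset.mem_image.2 ⟨x * e, h, ?_⟩)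
        rw [← mul_assoc, hE2' x hxE, one_mul]
    have hF2 : F.card ≤ 2 := Finset.card_le_two
    calc Nat.card ↥E ≤ (F ∪ F.image (x * ·)).card := hcardE ▸ Finset.card_le_card hsub'
      _ ≤ F.card + (F.image (x * ·)).card := Finset.card_union_le _ _
      _ ≤ 2 + 2 := add_le_add hF2 (Finset.card_image_le.trans hF2)
      _ = 2 ^ 2 := by norm_num
  have hsqU : ∀ b : ↥S, b ∈ A → (b : G) * b ∈ c.U := fun b hb =>
    mem_subgroupOf.1 (homA (b * b) (mul_mem hb hb) (by rw [← pow_two, ← pow_two, ← pow_mul]; exact hA4 b hb))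
  obtain ⟨a₀, ha₀, hz₀⟩ : ∃ a₀ ∈ A, (a₀ : G) * a₀ = c.z := by
    rcases c.mem_U.1 (hsqU a₁ ha₁) with h | h | h | h
    · exact absurd (Subtype.ext h) hne₁
    · exact ⟨a₁, ha₁, h⟩
    all_goals
      obtain ⟨s, hs, hsu⟩ := c.outer
      have hconj := c.conj_u hs (fun h' => hsu (c.mem_T_iff.1 h').2)
      refine ⟨a₁ * (⟨s, hs⟩ * a₁ * ⟨s, hs⟩⁻¹), mul_mem ha₁ (h1.conj_mem a₁ ha₁ _), ?_⟩
      have hab : (a₁ : G) * (s * a₁ * s⁻¹) = s * a₁ * s⁻¹ * a₁ :=
        congrArg Subtype.val (hAc a₁ ha₁ _ (h1.conj_mem a₁ ha₁ ⟨s, hs⟩))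
      show (a₁ : G) * (s * a₁ * s⁻¹) * (a₁ * (s * a₁ * s⁻¹)) = c.z
      rw [show (a₁ : G) * (s * a₁ * s⁻¹) * (a₁ * (s * a₁ * s⁻¹)) =
        a₁ * (s * a₁ * s⁻¹ * a₁) * (s * a₁ * s⁻¹) by group, ← hab,
        show (a₁ : G) * (a₁ * (s * a₁ * s⁻¹)) * (s * a₁ * s⁻¹) = a₁ * a₁ * (s * (a₁ * a₁) * s⁻¹) by group, h]
    · rw [hconj, ← mul_assoc, c.uu, one_mul]
    · rw [show s * (c.u * c.z) * s⁻¹ = s * c.u * s⁻¹ * (s * c.z * s⁻¹) by group, hconj, c.z_central s hs,
        mul_inv_cancel_right, mul_assoc c.u c.z c.z, c.zz, mul_one, c.uz_comm, mul_assoc, c.uu, mul_one]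
  refine ⟨a₀, hAT a₀ ha₀, hz₀, fun x hx => ?_⟩
  have hb : a₀⁻¹ * (⟨x, hx⟩ * a₀ * ⟨x, hx⟩⁻¹) ∈ A := mul_mem (inv_mem ha₀) (h1.conj_mem a₀ ha₀ _)
  refine mem_subgroupOf.1 (homA _ hb (Subtype.ext ?_))
  have hab : ((a₀ : G))⁻¹ * (x * a₀ * x⁻¹) = x * a₀ * x⁻¹ * (a₀ : G)⁻¹ :=
    congrArg Subtype.val (hAc _ (inv_mem ha₀) _ (h1.conj_mem a₀ ha₀ ⟨x, hx⟩))
  show (a₀ : G)⁻¹ * (x * a₀ * x⁻¹) * ((a₀ : G)⁻¹ * (x * a₀ * x⁻¹)) = 1
  conv_lhs => arg 2; rw [hab]
  rw [show (a₀ : G)⁻¹ * (x * a₀ * x⁻¹) * (x * a₀ * x⁻¹ * (a₀ : G)⁻¹) =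
    (a₀ : G)⁻¹ * (x * (a₀ * a₀) * x⁻¹) * (a₀ : G)⁻¹ by group, hz₀, c.z_central x hx, mul_inv_cancel_right, ← hz₀]
  group

end Ctx2

end CfsgLib.NoEightConstrained
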