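/-
A step outside `T` whose subgroup does not contain `u` fixes `z`.

Blueprint: `blueprint/S3272.md`, part P3 (i).
-/
import Cfsg.Agent.Lib.NoEightConstrained.Root
import Cfsg.Agent.Lib.NoEightConstrained.Inner
import Cfsg.Agent.Lib.ChainConnected

set_option autoImplicit false
set_option linter.style.haveILetI false

namespace CfsgLib.NoEightConstrained

open Subgroup

section general

variable {X : Type*} [Group X] [Finite X]

/-- An element with square and odd power in a subgroup lies in it. -/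
theorem mem_of_sq_pow {A : Subgroup X} {w : X} {m : ℕ} (hm : Odd m) (h2 : w * w ∈ A) (hp : w ^ m ∈ A) :
    w ∈ A := by
  obtain ⟨k, rfl⟩ := hm
  have h : w = ((w * w) ^ k)⁻¹ * w ^ (2 * k + 1) := by
    rw [pow_succ, ← mul_assoc, pow_mul, pow_two, inv_mul_cancel, one_mul]
  rw [h]
  exact mul_mem (inv_mem (pow_mem h2 k)) hp

/-- An element of order two lies in some strongly embedded subgroup. -/
theorem exists_embedded_mem (h : ¬ Cfsg.IsSylowChainConnected 2 X) {x : X} (hx : orderOf x = 2) :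
    ∃ M : Subgroup X, Cfsg.IsStronglyPEmbedded 2 M ∧ x ∈ M ∧ ∃ P : Sylow 2 X, (P : Subgroup X) ≤ M := by
  haveI := Fact.mk Nat.prime_two
  obtain ⟨M, hM⟩ := ChainConnected.exists_stronglyEmbedded (p := 2)
    (hx ▸ orderOf_dvd_natCard x) h
  obtain ⟨P, hP⟩ := StronglyEmbedded.exists_sylow_le hM
  obtain ⟨Q, hQ⟩ := (StronglyEmbedded.isPGroup_zpowers hx).exists_le_sylow
  obtain ⟨g, rfl⟩ := MulAction.exists_smul_eq X P Q
  refine ⟨M.map (MulAut.conj g).toMonoidHom, ?_, ?_, g • P, Subgroup.map_mono hP⟩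
  · refine StronglyEmbedded.of_normalizers (fun e => hM.2.1 ?_) ?_ fun A hA hA2 hA1 y hy => ?_
    · refine map_injective (f := (MulAut.conj g).toMonoidHom) (MulEquiv.injective _) ?_
      rw [e, map_top_of_surjective _ (MulEquiv.surjective _)]
    · rw [card_map_of_injective (MulEquiv.injective _)]
      exact StronglyEmbedded.dvd_card_of hM
    · have hA' : A.map (MulAut.conj g⁻¹).toMonoidHom ≤ M := by
        rintro _ ⟨a, ha, rfl⟩
        obtain ⟨b, hb, rfl⟩ := hA ha
        simpa [mul_assoc] using hb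
      have hy' : g⁻¹ * y * g ∈ M := by
        refine StronglyEmbedded.mem_of_conj_le hM (hA2.map _) (fun e => hA1 ?_) hA' fun b hb => ?_
        · exact (map_eq_bot_iff_of_injective _ (MulEquiv.injective _)).1 e
        · obtain ⟨a, ha, rfl⟩ := hb
          refine hA' ⟨y * a * y⁻¹, (mem_normalizer_iff.1 hy a).1 ha, ?_⟩
          simp [mul_assoc]
      exact ⟨g⁻¹ * y * g, hy', by simp [mul_assoc]⟩
  · exact (Subgroup.map_mono hP) (hQ (mem_zpowers x))

/-- An involution in and one outside a strongly embedded subgroup have a product of odd order. -/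
theorem odd_orderOf_mul {M : Subgroup X} (hM : Cfsg.IsStronglyPEmbedded 2 M) {x y : X} (hxM : x ∈ M)
    (hyM : y ∉ M) (hx : x * x = 1) (hx1 : x ≠ 1) (hy : y * y = 1) : Odd (orderOf (x * y)) := by
  haveI := Fact.mk Nat.prime_two
  rw [← Nat.not_even_iff_odd]
  intro heven
  obtain ⟨m, hm⟩ := heven
  have hxo : orderOf x = 2 := orderOf_eq_prime (by rw [pow_two]; exact hx) hx1
  have hm0 : m ≠ 0 := by
    intro e
    have := (isOfFinOrder_of_finite (x * y)).orderOf_pos
    omega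
  set j := (x * y) ^ m with hj
  have hjo : orderOf j = 2 := by
    rw [hj, orderOf_pow_of_dvd hm0 (by rw [hm]; exact ⟨2, by ring⟩), hm, ← two_mul]
    exact Nat.mul_div_cancel _ (Nat.pos_of_ne_zero hm0)
  have hjj : j⁻¹ = j := eq_inv_of_sq (by rw [← pow_two, ← hjo]; exact pow_orderOf_eq_one j)
  have hinv : (x * y)⁻¹ = y * x := by rw [mul_inv_rev, eq_inv_of_sq hx, eq_inv_of_sq hy]
  have hxj : x * j * x⁻¹ = j := by
    rw [hj, ← conj_pow]
    conv_rhs => rw [← hj, ← hjj, hj, ← inv_pow, hinv]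
    rw [show x * (x * y) * x⁻¹ = x * x * y * x⁻¹ by group, hx, one_mul, eq_inv_of_sq hx]
  have hyj : y * j * y⁻¹ = j := by
    rw [hj, ← conj_pow]
    conv_rhs => rw [← hj, ← hjj, hj, ← inv_pow, hinv]
    rw [show y * (x * y) * y⁻¹ = y * x * (y * y⁻¹) by group, mul_inv_cancel, mul_one]
  have hjM : j ∈ M := StronglyEmbedded.centralizer_le hM hxM hxo
    (mem_centralizer_singleton_iff.2 (mul_inv_eq_iff_eq_mul.1 hxj).symm)
  exact hyM (StronglyEmbedded.centralizer_le hM hjM hjo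
    (mem_centralizer_singleton_iff.2 (mul_inv_eq_iff_eq_mul.1 hyj)))

end general

variable {G : Type*} [Group G] [Finite G]

namespace Ctx2

variable (c : Ctx2 G)

/-- A square root of `z` adjusted to a given outside involution. -/
theorem exists_root_fix {t : G} (ht : t ∈ (c.S : Subgroup G)) (htT : t ∉ c.T) (htt : t * t = 1) :
    ∃ a ∈ c.T, a * a = c.z ∧ a * t = t * a ∧ ∀ x ∈ (c.S : Subgroup G), a⁻¹ * (x * a * x⁻¹) ∈ c.U := by
  obtain ⟨a, haT, haz, hax⟩ := c.exists_root
  have hu := c.conj_u ht htT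
  set v := a⁻¹ * (t * a * t⁻¹) with hv
  have hvU : v ∈ c.U := hax t ht
  have hat : t * a * t⁻¹ = a * v := by rw [hv]; group
  have hvt : t * v * t⁻¹ = v := by
    have h1 : t * (a * v) * t⁻¹ = a := by
      rw [← hat, show t * (t * a * t⁻¹) * t⁻¹ = t * t * a * (t * t)⁻¹ by group, htt]; group
    rw [show t * (a * v) * t⁻¹ = t * a * t⁻¹ * (t * v * t⁻¹) by group, hat, mul_assoc, mul_eq_left] at h1
    rw [eq_inv_of_mul_eq_one_right h1, eq_inv_of_sq (c.U_sq v hvU)]
  rcases c.mem_U.1 hvU with h | h | h | h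
  · refine ⟨a, haT, haz, ?_, hax⟩
    rw [h, mul_one, mul_inv_eq_iff_eq_mul] at hat
    exact hat.symm
  · have hau : a * c.u = c.u * a := (c.mem_T.1 haT).2 _ c.u_mem
    refine ⟨a * c.u, mul_mem haT (c.U_le_T c.u_mem), ?_, ?_, fun x hx => ?_⟩
    · calc a * c.u * (a * c.u) = a * (c.u * a) * c.u := by group
        _ = a * a * (c.u * c.u) := by rw [← hau]; group
        _ = c.z := by rw [haz, c.uu, mul_one]
    · refine (mul_inv_eq_iff_eq_mul.1 ?_).symm
      rw [show t * (a * c.u) * t⁻¹ = t * a * t⁻¹ * (t * c.u * t⁻¹) by group, hat, hu, h, c.uz_comm,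
        mul_assoc, ← mul_assoc c.z c.z, c.zz, one_mul]
    · rw [show (a * c.u)⁻¹ * (x * (a * c.u) * x⁻¹) = c.u⁻¹ * (a⁻¹ * (x * a * x⁻¹)) * (x * c.u * x⁻¹) by group]
      exact mul_mem (mul_mem (inv_mem c.u_mem) (hax x hx)) (c.U_normal x hx _ c.u_mem)
  · rw [h, hu, mul_eq_left] at hvt
    exact absurd hvt c.z_ne
  · rw [h, show t * (c.u * c.z) * t⁻¹ = t * c.u * t⁻¹ * (t * c.z * t⁻¹) by group, hu,
      c.z_central t ht, mul_inv_cancel_right, mul_assoc, c.zz, mul_one] at hvt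
    exact absurd (mul_eq_left.1 hvt.symm) c.z_ne

/-- If `u` is outside the subgroup of a step, the step fixes `z`. -/
theorem outer_step {H : Subgroup G} (hH : H ≤ (c.S : Subgroup G))
    (hc : (c.S : Subgroup G) ⊓ centralizer (H : Set G) ≤ H)
    (hfull : ¬ 2 ∣ ((c.S : Subgroup G) ⊓ normalizer (H : Set G)).relIndex (normalizer (H : Set G)))
    (hcore : (Cfsg.pPrimePCore 2 ↥(normalizer (H : Set G))).map (normalizer (H : Set G)).subtype =
      H ⊔ centralizer (H : Set G))
    (hdis : ¬ Cfsg.IsSylowChainConnected 2 (↥(normalizer (H : Set G)) ⧸ H.subgroupOf (normalizer (H : Set G))))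
    (hu : c.u ∉ H) {n₀ : G} (hn₀ : n₀ ∈ normalizer (H : Set G)) : n₀ * c.z * n₀⁻¹ = c.z := by
  classical
  by_contra hmov
  haveI := Fact.mk Nat.prime_two
  set N := normalizer (H : Set G) with hN
  have hzH : c.z ∈ H := c.z_mem_centric hH hc
  have hzS := c.z_central
  have hHN : H ≤ N := le_normalizer
  have mem_N : ∀ g : G, g * g ∈ H → (∀ y ∈ H, g * y * g⁻¹ ∈ H) → g ∈ N := by
    intro g hgg hg
    refine mem_normalizer_iff.2 fun y => ⟨hg y, fun hy => ?_⟩
    rw [show y = (g * g)⁻¹ * (g * (g * y * g⁻¹) * g⁻¹) * (g * g) by group]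
    exact mul_mem (mul_mem (inv_mem hgg) (hg _ hy)) hgg
  -- the action of `u`
  have f1 : ∀ y ∈ H, c.u * y * c.u = y ∨ c.u * y * c.u = y * c.z := by
    intro y hy
    by_cases hyT : y ∈ c.T
    · left; rw [← (c.mem_T_iff.1 hyT).2, mul_assoc, c.uu, mul_one]
    · right
      have h := mul_inv_eq_iff_eq_mul.1 (c.conj_u (hH hy) hyT)
      rw [mul_assoc, h, mul_assoc c.u c.z y, ← mul_assoc, c.uu, one_mul, hzS y (hH hy)]
  have huN : c.u ∈ N := by
    refine mem_N _ (by rw [c.uu]; exact H.one_mem) fun y hy => ?_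
    rw [eq_inv_of_sq c.uu]
    rcases f1 y hy with e | e <;> rw [e]
    · exact hy
    · exact mul_mem hy hzH
  -- the quotient
  haveI hHn : (H.subgroupOf N).Normal := normal_in_normalizer
  set q := QuotientGroup.mk' (H.subgroupOf N) with hq
  have hq1 : ∀ x : ↥N, q x = 1 ↔ (x : G) ∈ H := fun x => QuotientGroup.eq_one_iff x
  set uN : ↥N := ⟨c.u, huN⟩ with huN'
  have hqu1 : q uN ≠ 1 := fun e => hu ((hq1 _).1 e)
  have hquu : q uN * q uN = 1 := by
    rw [← map_mul, hq1]; show c.u * c.u ∈ H; rw [c.uu]; exact H.one_mem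
  have hquo : orderOf (q uN) = 2 := orderOf_eq_prime (by rw [pow_two]; exact hquu) hqu1
  obtain ⟨M, hM, huM, P, hP⟩ := exists_embedded_mem hdis hquo
  -- the three subgroups
  set A₁ := M.comap q with hA₁
  set A₂ := (centralizer ({c.z} : Set G)).subgroupOf N with hA₂
  set L := Cfsg.pPrimePCore 2 ↥N with hL
  have hmemL : ∀ x : ↥N, x ∈ L ↔ (x : G) ∈ H ⊔ centralizer (H : Set G) := by
    intro x
    rw [← hcore]
    exact ⟨fun h => ⟨x, h, rfl⟩, fun ⟨y, hy, e⟩ => Subtype.ext e ▸ hy⟩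
  haveI hLn : L.Normal := by rw [hL, Cfsg.pPrimePCore]; exact Subgroup.Normal.comap inferInstance _
  set r := QuotientGroup.mk' L with hr
  set A₃ := (centralizer ({r uN} : Set (↥N ⧸ L))).comap r with hA₃
  have h1 : 3 ≤ A₁.index := by
    rw [hA₁, index_comap_of_surjective _ (QuotientGroup.mk'_surjective _)]
    have h0 : M.index ≠ 0 := index_ne_zero_of_finite
    have h1 : M.index ≠ 1 := fun e => hM.2.1 (index_eq_one.1 e)
    have h2 : M.index ≠ 2 := fun e => P.not_dvd_index ((dvd_of_eq e.symm).trans (index_dvd_of_le hP))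
    omega
  have h2 : 3 ≤ A₂.index := by
    have h0 : A₂.index ≠ 0 := index_ne_zero_of_finite
    have h1 : A₂.index ≠ 1 := fun e => by
      have h := (index_eq_one.1 e) ▸ mem_top (⟨n₀, hn₀⟩ : ↥N)
      exact hmov (mul_inv_eq_iff_eq_mul.2 (mem_centralizer_singleton_iff.1 (mem_subgroupOf.1 h)))
    have h2 : A₂.index ≠ 2 := fun e => by
      refine hfull ((dvd_of_eq e.symm).trans ?_)
      refine index_dvd_of_le (H := ((c.S : Subgroup G) ⊓ N).subgroupOf N) fun x hx => ?_
      exact mem_subgroupOf.2 (mem_centralizer_singleton_iff.2 (hzS _ (mem_subgroupOf.1 hx).1))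
    omega
  have h3 : A₃ ≠ ⊤ := by
    intro e
    refine hu ?_
    have hcl : ∀ g : ↥N, r g * r uN = r uN * r g := fun g => by
      have := (e ▸ mem_top g : g ∈ A₃)
      exact mem_centralizer_singleton_iff.1 this
    have huL : uN ∈ L := by
      set O := Cfsg.pPrimeCore 2 ↥N with hO
      haveI hOn : O.Normal := by rw [hO]; exact Cfsg.pPrimeCore_normal 2 _
      set π := QuotientGroup.mk' O with hπ
      set C₂ := Cfsg.pCore 2 (↥N ⧸ O) with hC₂
      haveI : C₂.Normal := Cfsg.pCore_normal 2 _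
      have hmem : ∀ g : ↥N, g ∈ L ↔ π g ∈ C₂ := fun g => Iff.rfl
      haveI hD : (C₂ ⊔ zpowers (π uN)).Normal := by
        refine ⟨fun d hd g => ?_⟩
        obtain ⟨g, rfl⟩ := QuotientGroup.mk'_surjective O g
        have hle : (C₂ ⊔ zpowers (π uN)).map (MulAut.conj (π g)).toMonoidHom ≤ C₂ ⊔ zpowers (π uN) := by
          rw [Subgroup.map_sup, MonoidHom.map_zpowers]
          refine sup_le (le_trans ?_ le_sup_left) (zpowers_le.2 ?_)
          · rintro _ ⟨x, hx, rfl⟩
            exact Subgroup.Normal.conj_mem inferInstance x hx _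
          · show π g * π uN * (π g)⁻¹ ∈ _
            have hd : (g * uN * g⁻¹) * uN⁻¹ ∈ L := by
              rw [← QuotientGroup.eq_one_iff (N := L)]
              show r ((g * uN * g⁻¹) * uN⁻¹) = 1
              rw [map_mul, map_mul, map_mul, map_inv, map_inv, hcl g]
              group
            have hd' := (hmem _).1 hd
            have := mul_mem (mem_sup_left (T := zpowers (π uN)) hd') (mem_sup_right (S := C₂) (mem_zpowers (π uN)))
            simpa [mul_assoc] using this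
        exact hle ⟨d, hd, rfl⟩
      have hpu : IsPGroup 2 ↥(zpowers (π uN)) := by
        refine fun ⟨x, hx⟩ => ⟨1, Subtype.ext ?_⟩
        obtain ⟨k, rfl⟩ := mem_zpowers_iff.1 hx
        show (π uN ^ k) ^ (2 ^ 1) = 1
        rw [pow_one, ← zpow_natCast, ← zpow_mul, mul_comm, zpow_mul, zpow_natCast, ← map_pow,
          show uN ^ 2 = 1 from Subtype.ext (by show c.u ^ 2 = 1; rw [pow_two]; exact c.uu), map_one, one_zpow]
      have hpC : IsPGroup 2 ↥C₂ := CfsgLib.isPGroup_pCore 2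
      have hp := hpC.to_sup_of_normal_left hpu
      refine (hmem uN).2 ?_
      exact (le_sSup (⟨hD, hp⟩ : (C₂ ⊔ zpowers (π uN)).Normal ∧ _) :
        _ ≤ Cfsg.pCore 2 (↥N ⧸ O)) (mem_sup_right (mem_zpowers _))
    have hxS := (hmemL uN).1 huL
    have hC : ∀ g ∈ N, ∀ x ∈ centralizer (H : Set G), g * x * g⁻¹ ∈ centralizer (H : Set G) := by
      intro g hg x hx
      refine mem_centralizer_iff.2 fun y hy => ?_
      have hy' : g⁻¹ * y * g ∈ H := by simpa using (mem_normalizer_iff.1 (inv_mem hg) y).1 hy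
      calc y * (g * x * g⁻¹) = g * (g⁻¹ * y * g * x) * g⁻¹ := by group
        _ = g * x * g⁻¹ * y := by rw [mem_centralizer_iff.1 hx _ hy']; group
    rw [← SetLike.mem_coe, Subgroup.coe_mul_of_left_le_normalizer_right H (centralizer (H : Set G))
      (fun g hg => mem_normalizer_iff.2 fun x => ⟨hC g (hHN hg) x, fun hx => by
        simpa [mul_assoc] using hC g⁻¹ (inv_mem (hHN hg)) _ hx⟩)] at hxS
    obtain ⟨h, hh, x, hx, e⟩ := hxS
    have e' : x = h⁻¹ * c.u := by rw [show c.u = h * x from e.symm]; group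
    have hxH : x ∈ H := hc ⟨by rw [e']; exact Subgroup.mul_mem _ (Subgroup.inv_mem _ (hH hh)) c.uS, hx⟩
    exact (show c.u = h * x from e.symm) ▸ mul_mem hh hxH
  obtain ⟨n, hn1, hn2, hn3⟩ := exists_not_mem_three h1 h2 h3
  -- the two involutions
  have hnN : (n : G) ∈ N := n.2
  set z' := (n : G) * c.z * (n : G)⁻¹ with hz'
  set u' := (n : G) * c.u * (n : G)⁻¹ with hu'
  have hz'ne : z' ≠ c.z := fun e => hn2 (mem_subgroupOf.2 (mem_centralizer_singleton_iff.2
    (mul_inv_eq_iff_eq_mul.1 e)))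
  have hz'1 : z' ≠ 1 := fun e => c.z_ne (conj_eq_one_iff.1 e)
  have hz'H : z' ∈ H := (mem_normalizer_iff.1 hnN _).1 hzH
  have hz'2 : z' * z' = 1 := by
    rw [hz', show (n : G) * c.z * (n : G)⁻¹ * ((n : G) * c.z * (n : G)⁻¹) = n * (c.z * c.z) * (n : G)⁻¹ by group,
      c.zz]; group
  have hu'2 : u' * u' = 1 := by
    rw [hu', show (n : G) * c.u * (n : G)⁻¹ * ((n : G) * c.u * (n : G)⁻¹) = n * (c.u * c.u) * (n : G)⁻¹ by group,
      c.uu]; group
  have hu'N : u' ∈ N := mul_mem (mul_mem hnN huN) (inv_mem hnN)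
  have hback : ∀ y ∈ H, (n : G)⁻¹ * y * n ∈ H := fun y hy => by
    simpa using (mem_normalizer_iff.1 (inv_mem hnN) y).1 hy
  have f2 : ∀ y ∈ H, u' * y * u' = y ∨ u' * y * u' = y * z' := by
    intro y hy
    have e : u' * y * u' = n * (c.u * ((n : G)⁻¹ * y * n) * c.u) * (n : G)⁻¹ := by rw [hu']; group
    rcases f1 _ (hback y hy) with h | h <;> rw [e, h]
    · left; group
    · right; rw [hz']; group
  have zc : ∀ y ∈ H, y * z' = z' * y := fun y hy => by
    have := hzS _ (hH (hback y hy))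
    rw [hz']
    calc y * ((n : G) * c.z * (n : G)⁻¹) = n * ((n : G)⁻¹ * y * n * c.z) * (n : G)⁻¹ := by group
      _ = (n : G) * c.z * (n : G)⁻¹ * y := by rw [this]; group
  have hz'z : z' * c.z = c.z * z' := hzS _ (hH hz'H)
  have huz : c.u * c.z * c.u = c.z := by rw [c.uz_comm, mul_assoc, c.uu, mul_one]
  have hu'z' : u' * z' * u' = z' := by
    rw [hu', hz', show (n : G) * c.u * (n : G)⁻¹ * ((n : G) * c.z * (n : G)⁻¹) * ((n : G) * c.u * (n : G)⁻¹) =
      n * (c.u * c.z * c.u) * (n : G)⁻¹ by group, huz]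
  have hzz' : c.z * z' * z' = c.z := by rw [mul_assoc, hz'2, mul_one]
  set w := c.u * u' with hw
  have hwN : w ∈ N := mul_mem huN hu'N
  have hwi : w⁻¹ = u' * c.u := by rw [hw, mul_inv_rev, eq_inv_of_sq c.uu, eq_inv_of_sq hu'2]
  set u'N : ↥N := n * uN * n⁻¹ with hu'N'
  have hu'out : q u'N ∉ M := by
    intro h
    refine hn1 ?_
    show q n ∈ M
    refine StronglyEmbedded.mem_of_conj_le hM (StronglyEmbedded.isPGroup_zpowers hquo)
      (StronglyEmbedded.zpowers_ne_bot hquo) (zpowers_le.2 huM) fun x hx => ?_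
    obtain ⟨k, rfl⟩ := mem_zpowers_iff.1 hx
    rw [← conj_zpow]
    refine M.zpow_mem ?_ k
    rw [hu'N', map_mul, map_mul, map_inv] at h
    exact h
  have hqu'2 : q u'N * q u'N = 1 := by
    rw [← map_mul, hq1]; show u' * u' ∈ H; rw [hu'2]; exact H.one_mem
  set wN : ↥N := uN * u'N with hwN'
  have hqw : q wN = q uN * q u'N := map_mul _ _ _
  have hodd : Odd (orderOf (q wN)) := hqw ▸ odd_orderOf_mul hM huM hu'out hquu hqu1 hqu'2
  set m := orderOf (q wN) with hm
  have hwm : w ^ m ∈ H := (hq1 (wN ^ m)).1 (by rw [map_pow, hm, pow_orderOf_eq_one])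
  have hwM : q wN ∉ M := fun h => hu'out (by
    have := M.mul_mem huM h
    rwa [hqw, ← mul_assoc, hquu, one_mul] at this)
  have hwL : wN ∉ L := by
    intro h
    refine hn3 ?_
    show r n ∈ centralizer ({r uN} : Set (↥N ⧸ L))
    have e : r wN = 1 := (QuotientGroup.eq_one_iff wN).2 h
    rw [hwN', hu'N', map_mul, map_mul, map_mul, map_inv] at e
    have e2 := eq_inv_of_mul_eq_one_right e
    have ru : (r uN)⁻¹ = r uN := eq_inv_of_sq (by
      rw [← map_mul, show uN * uN = 1 from Subtype.ext c.uu, map_one])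
    rw [ru, mul_inv_eq_iff_eq_mul] at e2
    exact mem_centralizer_singleton_iff.2 e2
  -- fixed by `w ^ m`
  have fix_wm : ∀ y ∈ H, (∀ x ∈ H, x * y = y * x) → w * w * y = y * (w * w) → w * y * w⁻¹ = y := by
    intro y _ hyc h2
    refine mul_inv_eq_iff_eq_mul.2 (mem_centralizer_singleton_iff.1 ?_)
    refine mem_of_sq_pow hodd (mem_centralizer_singleton_iff.2 h2) ?_
    exact mem_centralizer_singleton_iff.2 (hyc _ hwm)
  have conjw : ∀ y : G, w * y * w⁻¹ = c.u * (u' * y * u') * c.u := fun y => by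
    rw [hwi, hw]; group
  have ww : ∀ {y y' : G}, w * y * w⁻¹ = y' → w * y' * w⁻¹ = y → w * w * y = y * (w * w) := by
    intro y y' e1 e2
    rw [← e1] at e2
    refine mul_inv_eq_iff_eq_mul.1 (Eq.trans ?_ e2)
    group
  -- `z'` is outside `T`
  have hcases : c.u * z' * c.u = z' * c.z ∧ u' * c.z * u' = c.z * z' := by
    have hzc : ∀ x ∈ H, x * c.z = c.z * x := fun x hx => hzS x (hH hx)
    rcases f1 z' hz'H with e1 | e1 <;> rcases f2 c.z hzH with e2 | e2
    · exfalso
      refine hwL ((hmemL wN).2 (mem_of_sq_pow (A := H ⊔ centralizer (H : Set G)) hodd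
        (mem_sup_right (mem_centralizer_iff.2 fun y hy => ?_)) (mem_sup_left hwm)))
      show y * (w * w) = w * w * y
      have hA : w * c.z * w⁻¹ = c.z := by rw [conjw, e2, huz]
      have hB : w * z' * w⁻¹ = z' := by rw [conjw, hu'z', e1]
      have hW : ∀ y ∈ H, ∃ v : G, v * v = 1 ∧ w * v * w⁻¹ = v ∧ w * y * w⁻¹ = y * v := by
        intro y hy
        rcases f2 y hy with h | h <;> rcases f1 y hy with h' | h'
        · exact ⟨1, one_mul 1, by group, by rw [conjw, h, h', mul_one]⟩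
        · exact ⟨c.z, c.zz, hA, by rw [conjw, h, h']⟩
        · refine ⟨z', hz'2, hB, ?_⟩
          rw [conjw, h, show c.u * (y * z') * c.u = c.u * y * (c.u * c.u) * z' * c.u by rw [c.uu]; group,
            show c.u * y * (c.u * c.u) * z' * c.u = c.u * y * c.u * (c.u * z' * c.u) by group, h', e1]
        · refine ⟨c.z * z', sq_mul_of_comm c.zz hz'2 hz'z.symm, by
            rw [show w * (c.z * z') * w⁻¹ = w * c.z * w⁻¹ * (w * z' * w⁻¹) by group, hA, hB], ?_⟩
          rw [conjw, h, show c.u * (y * z') * c.u = c.u * y * (c.u * c.u) * z' * c.u by rw [c.uu]; group,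
            show c.u * y * (c.u * c.u) * z' * c.u = c.u * y * c.u * (c.u * z' * c.u) by group, h', e1, mul_assoc]
      obtain ⟨v, hv2, hvw, hyv⟩ := hW y hy
      refine (mul_inv_eq_iff_eq_mul.1 ?_).symm
      rw [show w * w * y * (w * w)⁻¹ = w * (w * y * w⁻¹) * w⁻¹ by group, hyv,
        show w * (y * v) * w⁻¹ = w * y * w⁻¹ * (w * v * w⁻¹) by group, hyv, hvw, mul_assoc, hv2, mul_one]
    · exfalso
      have hB : w * z' * w⁻¹ = z' := by rw [conjw, hu'z', e1]
      have hA : w * c.z * w⁻¹ = c.z * z' := by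
        rw [conjw, e2, show c.u * (c.z * z') * c.u = c.u * c.z * (c.u * c.u) * z' * c.u by rw [c.uu]; group,
          show c.u * c.z * (c.u * c.u) * z' * c.u = c.u * c.z * c.u * (c.u * z' * c.u) by group, huz, e1]
      have hA' : w * (c.z * z') * w⁻¹ = c.z := by
        rw [show w * (c.z * z') * w⁻¹ = w * c.z * w⁻¹ * (w * z' * w⁻¹) by group, hA, hB, hzz']
      have h := fix_wm c.z hzH hzc (ww hA hA')
      rw [hA, mul_eq_left] at h
      exact hz'1 h
    · exfalso
      have hA : w * c.z * w⁻¹ = c.z := by rw [conjw, e2, huz]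
      have hB : w * z' * w⁻¹ = z' * c.z := by rw [conjw, hu'z', e1]
      have hB' : w * (z' * c.z) * w⁻¹ = z' := by
        rw [show w * (z' * c.z) * w⁻¹ = w * z' * w⁻¹ * (w * c.z * w⁻¹) by group, hA, hB, mul_assoc, c.zz, mul_one]
      have h := fix_wm z' hz'H zc (ww hB hB')
      rw [hB, mul_eq_left] at h
      exact c.z_ne h
    · exact ⟨e1, e2⟩
  obtain ⟨e1, e2⟩ := hcases
  have hz'T : z' ∉ c.T := fun h => by
    rw [← (c.mem_T_iff.1 h).2, mul_assoc, c.uu, mul_one] at e1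
    exact c.z_ne (left_eq_mul.1 e1)
  have hwz : w * c.z * w⁻¹ = z' := by
    rw [conjw, e2, show c.u * (c.z * z') * c.u = c.u * c.z * (c.u * c.u) * z' * c.u by rw [c.uu]; group,
      show c.u * c.z * (c.u * c.u) * z' * c.u = c.u * c.z * c.u * (c.u * z' * c.u) by group, huz, e1,
      hz'z, ← mul_assoc, c.zz, one_mul]
  -- the root
  obtain ⟨a, haT, haz, hat, hax⟩ := c.exists_root_fix (hH hz'H) hz'T hz'2
  have haS : a ∈ (c.S : Subgroup G) := c.T_le haT
  have f4 : ∀ y ∈ H, a * y * a⁻¹ = y ∨ a * y * a⁻¹ = y * c.z := by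
    intro y hy
    have hv := hax y (hH hy)
    have hyt : z' * y * z'⁻¹ = y := by rw [← zc y hy, mul_inv_cancel_right]
    have hat' : z' * a * z'⁻¹ = a := by rw [← hat, mul_inv_cancel_right]
    have hvt : z' * (a⁻¹ * (y * a * y⁻¹)) * z'⁻¹ = a⁻¹ * (y * a * y⁻¹) := by
      rw [show z' * (a⁻¹ * (y * a * y⁻¹)) * z'⁻¹ = (z' * a * z'⁻¹)⁻¹ * ((z' * y * z'⁻¹) * (z' * a * z'⁻¹) *
        (z' * y * z'⁻¹)⁻¹) by group, hat', hyt]
    have hcu := c.conj_u (hH hz'H) hz'T
    rcases c.mem_U.1 hv with h | h | h | h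
    · left
      rw [inv_mul_eq_one, eq_mul_inv_iff_mul_eq] at h
      rw [h, mul_inv_cancel_right]
    · right
      rw [inv_mul_eq_iff_eq_mul, mul_inv_eq_iff_eq_mul] at h
      -- y * a = a * z * y
      have h' : a * y * a⁻¹ = c.z * y := by
        rw [mul_inv_eq_iff_eq_mul, mul_assoc c.z y a, h, ← mul_assoc, ← mul_assoc, ← hzS a haS,
          mul_assoc a c.z c.z, c.zz, mul_one]
      rw [h', hzS y (hH hy)]
    · rw [h, hcu, mul_eq_left] at hvt
      exact absurd hvt c.z_ne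
    · rw [h, show z' * (c.u * c.z) * z'⁻¹ = z' * c.u * z'⁻¹ * (z' * c.z * z'⁻¹) by group, hcu,
        hz'z, mul_inv_cancel_right, mul_assoc, c.zz, mul_one] at hvt
      exact absurd (mul_eq_left.1 hvt.symm) c.z_ne
  have haH : a ∉ H := by
    intro h
    have hconj : u' * c.z * u' = c.z := by
      rcases f2 a h with e | e
      · calc u' * c.z * u' = u' * (a * (u' * u') * a) * u' := by rw [hu'2, mul_one, haz]
          _ = u' * a * u' * (u' * a * u') := by group
          _ = c.z := by rw [e, haz]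
      · calc u' * c.z * u' = u' * (a * (u' * u') * a) * u' := by rw [hu'2, mul_one, haz]
          _ = u' * a * u' * (u' * a * u') := by group
          _ = a * (z' * a) * z' := by rw [e]; simp only [mul_assoc]
          _ = c.z := by rw [← zc a h, show a * (a * z') * z' = a * a * (z' * z') by simp only [mul_assoc], haz, hz'2, mul_one]
    rw [e2, mul_eq_left] at hconj
    exact hz'1 hconj
  have haN : a ∈ N := by
    refine mem_N _ (haz ▸ hzH) fun y hy => ?_
    rcases f4 y hy with e | e <;> rw [e]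
    · exact hy
    · exact mul_mem hy hzH
  set a' := w * a * w⁻¹ with ha'
  have ha'N : a' ∈ N := mul_mem (mul_mem hwN haN) (inv_mem hwN)
  have haz' : a * z' * a⁻¹ = z' := by rw [hat, mul_inv_cancel_right]
  have hazz : a * c.z * a⁻¹ = c.z := by rw [hzS a haS, mul_inv_cancel_right]
  have hwz'i : w⁻¹ * z' * w = c.z := by rw [← hwz]; group
  have hwzi : w⁻¹ * c.z * w = c.z * z' := by
    rw [hwi, hw, show u' * c.u * c.z * (c.u * u') = u' * (c.u * c.z * c.u) * u' by group, huz, e2]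
  have ha'z : a' * c.z * a'⁻¹ = c.z := by
    rw [ha', show w * a * w⁻¹ * c.z * (w * a * w⁻¹)⁻¹ = w * (a * (w⁻¹ * c.z * w) * a⁻¹) * w⁻¹ by group, hwzi,
      show a * (c.z * z') * a⁻¹ = a * c.z * a⁻¹ * (a * z' * a⁻¹) by group, hazz, haz',
      ← hwzi]
    group
  have ha'z' : a' * z' * a'⁻¹ = z' := by
    rw [ha', show w * a * w⁻¹ * z' * (w * a * w⁻¹)⁻¹ = w * (a * (w⁻¹ * z' * w) * a⁻¹) * w⁻¹ by group, hwz'i,
      hazz, hwz]
  have hback' : ∀ y ∈ H, w⁻¹ * y * w ∈ H := fun y hy => by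
    simpa using (mem_normalizer_iff.1 (inv_mem hwN) y).1 hy
  have f5 : ∀ y ∈ H, a' * y * a'⁻¹ = y ∨ a' * y * a'⁻¹ = y * z' := by
    intro y hy
    have e : a' * y * a'⁻¹ = w * (a * (w⁻¹ * y * w) * a⁻¹) * w⁻¹ := by rw [ha']; group
    rcases f4 _ (hback' y hy) with h | h <;> rw [e, h]
    · left; group
    · right; rw [← hwz]; group
  -- the product of the two roots
  set s := a * a' with hs
  have hsd : ∀ y ∈ H, ∃ α β : G, (α = 1 ∨ α = c.z) ∧ (β = 1 ∨ β = z') ∧ a * y * a⁻¹ = y * α ∧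
      s * y * s⁻¹ = y * (α * β) := by
    intro y hy
    obtain ⟨β, hβ, hb⟩ : ∃ β, (β = 1 ∨ β = z') ∧ a' * y * a'⁻¹ = y * β := by
      rcases f5 y hy with h | h
      · exact ⟨1, Or.inl rfl, by rw [h, mul_one]⟩
      · exact ⟨z', Or.inr rfl, h⟩
    obtain ⟨α, hα, hal⟩ : ∃ α, (α = 1 ∨ α = c.z) ∧ a * y * a⁻¹ = y * α := by
      rcases f4 y hy with h | h
      · exact ⟨1, Or.inl rfl, by rw [h, mul_one]⟩
      · exact ⟨c.z, Or.inr rfl, h⟩
    refine ⟨α, β, hα, hβ, hal, ?_⟩
    have hab : a * β * a⁻¹ = β := by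
      rcases hβ with rfl | rfl
      · group
      · exact haz'
    rw [hs, show a * a' * y * (a * a')⁻¹ = a * (a' * y * a'⁻¹) * a⁻¹ by group, hb,
      show a * (y * β) * a⁻¹ = a * y * a⁻¹ * (a * β * a⁻¹) by group, hal, hab, mul_assoc]
  have hsfix : ∀ α β : G, (α = 1 ∨ α = c.z) → (β = 1 ∨ β = z') →
      s * (α * β) * s⁻¹ = α * β ∧ α * β * (α * β) = 1 := by
    intro α β hα hβ
    have h1 : a * α * a⁻¹ = α ∧ a' * α * a'⁻¹ = α ∧ α * α = 1 := by
      rcases hα with rfl | rfl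
      · exact ⟨by group, by group, one_mul 1⟩
      · exact ⟨hazz, ha'z, c.zz⟩
    have h2 : a * β * a⁻¹ = β ∧ a' * β * a'⁻¹ = β ∧ β * β = 1 := by
      rcases hβ with rfl | rfl
      · exact ⟨by group, by group, one_mul 1⟩
      · exact ⟨haz', ha'z', hz'2⟩
    refine ⟨?_, sq_mul_of_comm h1.2.2 h2.2.2 ?_⟩
    · rw [hs, show a * a' * (α * β) * (a * a')⁻¹ = a * (a' * α * a'⁻¹) * a⁻¹ * (a * (a' * β * a'⁻¹) * a⁻¹) by group,
        h1.2.1, h2.2.1, h1.1, h2.1]
    · rcases hβ with rfl | rfl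
      · simp
      · rcases hα with rfl | rfl
        · simp
        · exact hz'z.symm
  have hs2 : s * s ∈ centralizer (H : Set G) := by
    refine mem_centralizer_iff.2 fun y hy => ?_
    obtain ⟨α, β, hα, hβ, -, hy'⟩ := hsd y hy
    refine (mul_inv_eq_iff_eq_mul.1 ?_).symm
    rw [show s * s * y * (s * s)⁻¹ = s * (s * y * s⁻¹) * s⁻¹ by group, hy',
      show s * (y * (α * β)) * s⁻¹ = s * y * s⁻¹ * (s * (α * β) * s⁻¹) by group, hy', (hsfix α β hα hβ).1,
      mul_assoc, (hsfix α β hα hβ).2, mul_one]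
  -- the image of `s` has odd order
  set aN : ↥N := ⟨a, haN⟩ with haN'
  have hqa1 : q aN ≠ 1 := fun e => haH ((hq1 _).1 e)
  have hqaa : q aN * q aN = 1 := by
    rw [← map_mul, hq1]; show a * a ∈ H; rw [haz]; exact hzH
  have hqao : orderOf (q aN) = 2 := orderOf_eq_prime (by rw [pow_two]; exact hqaa) hqa1
  have haM : q aN ∈ M := StronglyEmbedded.centralizer_le hM huM hquo (mem_centralizer_singleton_iff.2 (by
    rw [← map_mul, ← map_mul]
    exact congrArg q (Subtype.ext (show a * c.u = c.u * a from (c.mem_T.1 haT).2 _ c.u_mem))))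
  set a'N : ↥N := wN * aN * wN⁻¹ with ha'N'
  have ha'M : q a'N ∉ M := by
    intro h
    refine hwM (StronglyEmbedded.mem_of_conj_le hM (StronglyEmbedded.isPGroup_zpowers hqao)
      (StronglyEmbedded.zpowers_ne_bot hqao) (zpowers_le.2 haM) fun x hx => ?_)
    obtain ⟨k, rfl⟩ := mem_zpowers_iff.1 hx
    rw [← conj_zpow]
    refine M.zpow_mem ?_ k
    rw [ha'N', map_mul, map_mul, map_inv] at h
    exact h
  have hqa'2 : q a'N * q a'N = 1 := by
    rw [ha'N', map_mul, map_mul, map_inv,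
      show q wN * q aN * (q wN)⁻¹ * (q wN * q aN * (q wN)⁻¹) = q wN * (q aN * q aN) * (q wN)⁻¹ by group, hqaa]
    group
  have hodds := odd_orderOf_mul hM haM ha'M hqaa hqa1 hqa'2
  set m' := orderOf (q aN * q a'N) with hm'
  have hsm : s ^ m' ∈ H := (hq1 ((aN * a'N) ^ m')).1 (by rw [map_pow, map_mul, hm', pow_orderOf_eq_one])
  obtain ⟨k, hk⟩ := hodds
  have hpow : s ^ m' = s * (s * s) ^ k := by rw [hk, pow_succ', pow_mul, pow_two]
  set h := s ^ m' with hh
  have hsh : ∀ y ∈ H, s * y * s⁻¹ = h * y * h⁻¹ := by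
    intro y hy
    have := mem_centralizer_iff.1 (pow_mem hs2 k) y hy
    rw [hpow, show s * (s * s) ^ k * y * (s * (s * s) ^ k)⁻¹ = s * ((s * s) ^ k * y * ((s * s) ^ k)⁻¹) * s⁻¹
      by group, ← this, mul_inv_cancel_right]
  have haC : a ∈ centralizer (H : Set G) := by
    refine mem_centralizer_iff.2 fun y hy => ?_
    obtain ⟨α, β, hα, hβ, hal, hy'⟩ := hsd y hy
    rw [hsh y hy] at hy'
    have fixv : ∀ (g e : G), g * g = 1 → (∀ x ∈ H, x * e = e * x) →
        (∀ x ∈ H, g * x * g = x ∨ g * x * g = x * e) → g * (α * β) * g = α * β := by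
      intro g e hg he hf
      have conjg : ∀ x y : G, g * (x * y) * g = g * x * g * (g * y * g) := fun x y => by
        rw [show g * x * g * (g * y * g) = g * x * (g * g) * y * g by group, hg]; group
      have hinv : ∀ x : G, g * x⁻¹ * g = (g * x * g)⁻¹ := fun x => by
        rw [mul_inv_rev, mul_inv_rev, eq_inv_of_sq hg, mul_assoc]
      have hv : α * β = y⁻¹ * (h * y * h⁻¹) := by rw [hy', inv_mul_cancel_left]
      have hcent : ∀ x ∈ H, Commute x e := he
      rw [hv, conjg, conjg, conjg, hinv, hinv]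
      rcases hf y hy with ey | ey <;> rcases hf h hsm with eh | eh <;> rw [ey, eh]
      · have h1 : e * y = y * e := (he y hy).symm
        rw [show y⁻¹ * (h * e * y * (h * e)⁻¹) = y⁻¹ * (h * (e * y) * e⁻¹ * h⁻¹) by group, h1]
        group
      · have h2 : e * h⁻¹ = h⁻¹ * e := ((hcent _ (inv_mem hsm)).eq).symm
        rw [show (y * e)⁻¹ * (h * (y * e) * h⁻¹) = e⁻¹ * y⁻¹ * (h * y * (e * h⁻¹)) by group, h2,
          show e⁻¹ * y⁻¹ * (h * y * (h⁻¹ * e)) = e⁻¹ * (y⁻¹ * (h * y * h⁻¹) * e) by group,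
          he _ (mul_mem (inv_mem hy) (mul_mem (mul_mem hsm hy) (inv_mem hsm))), inv_mul_cancel_left]
      · have h1 : e * y = y * e := (he y hy).symm
        rw [show (y * e)⁻¹ * (h * e * (y * e) * (h * e)⁻¹) = e⁻¹ * y⁻¹ * (h * (e * y) * h⁻¹) by group, h1,
          show e⁻¹ * y⁻¹ * (h * (y * e) * h⁻¹) = e⁻¹ * y⁻¹ * (h * y * (e * h⁻¹)) by group,
          ((hcent _ (inv_mem hsm)).eq).symm,
          show e⁻¹ * y⁻¹ * (h * y * (h⁻¹ * e)) = e⁻¹ * (y⁻¹ * (h * y * h⁻¹) * e) by group,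
          he _ (mul_mem (inv_mem hy) (mul_mem (mul_mem hsm hy) (inv_mem hsm))), inv_mul_cancel_left]
    have hv1 := fixv c.u c.z c.uu (fun x hx => hzS x (hH hx)) f1
    have hv2 := fixv u' z' hu'2 zc f2
    have hβ1 : β = 1 := by
      rcases hβ with rfl | rfl
      · rfl
      exfalso
      rcases hα with rfl | rfl
      · rw [one_mul, e1, mul_eq_left] at hv1
        exact c.z_ne hv1
      · rw [show c.u * (c.z * z') * c.u = c.u * c.z * c.u * (c.u * z' * c.u) by
            rw [show c.u * c.z * c.u * (c.u * z' * c.u) = c.u * c.z * (c.u * c.u) * z' * c.u by group, c.uu]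
            group, huz, e1, ← mul_assoc, mul_eq_left] at hv1
        exact c.z_ne hv1
    subst hβ1
    rw [mul_one] at hv2
    have hα1 : α = 1 := by
      rcases hα with rfl | rfl
      · rfl
      rw [e2, mul_eq_left] at hv2
      exact absurd hv2 hz'1
    subst hα1
    rw [mul_one, mul_inv_eq_iff_eq_mul] at hal
    exact hal.symm
  exact haH (hc ⟨haS, haC⟩)

end Ctx2

end CfsgLib.NoEightConstrained
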