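/-
The 2-residual of the centraliser of `z` is not inside the centraliser of the four-group.

Blueprint: `blueprint/S3272.md`, part P3.
-/
import Cfsg.Agent.Lib.NoEightConstrained.Outer

set_option autoImplicit false
set_option linter.style.haveILetI false

namespace CfsgLib.NoEightConstrained

open Subgroup

variable {G : Type*} [Group G] [Finite G]

namespace Ctx2

variable (c : Ctx2 G)

/-- `z` is the only central involution of the Sylow subgroup. -/
theorem central_involution {v : G} (hv : v ∈ (c.S : Subgroup G)) (hv2 : v * v = 1) (hv1 : v ≠ 1)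
    (hvc : ∀ s ∈ (c.S : Subgroup G), s * v = v * s) : v = c.z := by
  classical
  have hvU : v ∈ c.U := by
    by_contra hvU
    let E : Subgroup G :=
      { carrier := {x | x ∈ c.U ∨ x * v ∈ c.U}
        one_mem' := Or.inl c.U.one_mem
        mul_mem' := by
          rintro a b (ha | ha) (hb | hb)
          · exact Or.inl (mul_mem ha hb)
          · right; rw [mul_assoc]; exact mul_mem ha hb
          · right
            rw [mul_assoc, hvc b (c.U_le hb), ← mul_assoc]
            exact mul_mem ha hb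
          · left
            have hb' : b ∈ (c.S : Subgroup G) := by
              have h := Subgroup.mul_mem _ (c.U_le hb) (Subgroup.inv_mem _ hv)
              rwa [mul_inv_cancel_right] at h
            have e : a * v * (b * v) = a * b := by
              rw [hvc b hb', show a * v * (v * b) = a * (v * v) * b by group, hv2, mul_one]
            exact e ▸ mul_mem ha hb
        inv_mem' := by
          rintro a (ha | ha)
          · exact Or.inl (inv_mem ha)
          · right
            have ha' : a ∈ (c.S : Subgroup G) := by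
              have h := Subgroup.mul_mem _ (c.U_le ha) (Subgroup.inv_mem _ hv)
              rwa [mul_inv_cancel_right] at h
            have h3 := inv_mem ha
            rw [mul_inv_rev, eq_inv_of_sq hv2, ← hvc _ (Subgroup.inv_mem _ ha')] at h3
            exact h3 }
    have hES : E ≤ (c.S : Subgroup G) := by
      rintro x (hx | hx)
      · exact c.U_le hx
      · have h := Subgroup.mul_mem _ (c.U_le hx) (Subgroup.inv_mem _ hv)
        rwa [mul_inv_cancel_right] at h
    have hsq : ∀ x ∈ E, x * x = 1 := by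
      rintro x (hx | hx)
      · exact c.U_sq x hx
      · have hxe : x = x * v * v := by rw [mul_assoc, hv2, mul_one]
        rw [hxe]
        exact sq_mul_of_comm (c.U_sq _ hx) hv2 (hvc _ (c.U_le hx))
    have hle := c.noEight (E.subgroupOf (c.S : Subgroup G)) ⟨fun x hx s => ?_⟩
      ⟨⟨fun a b => Subtype.ext (Subtype.ext (comm_of_sq hsq (mem_subgroupOf.1 a.2) (mem_subgroupOf.1 b.2)))⟩⟩
      fun x hx => Subtype.ext (by
        show (x : G) ^ 2 = 1
        rw [pow_two]; exact hsq _ (mem_subgroupOf.1 hx))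
    · rw [Nat.card_congr (subgroupOfEquivOfLe hES).toEquiv] at hle
      have hlt : c.U < E := lt_of_le_of_ne (fun x hx => Or.inl hx) fun e => hvU (by
        rw [e]; exact Or.inr (by rw [hv2]; exact c.U.one_mem))
      have : Nat.card ↥c.U < Nat.card ↥E := by
        refine lt_of_le_of_ne (card_le_of_le hlt.le) fun e => hlt.ne (eq_of_le_of_card_ge hlt.le e.ge)
      rw [c.U_card] at this
      omega
    · show (s : G) * (x : G) * (s : G)⁻¹ ∈ E
      rcases mem_subgroupOf.1 hx with h | h
      · exact Or.inl (c.U_normal _ s.2 _ h)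
      · right
        rw [show (s : G) * x * (s : G)⁻¹ * v = s * (x * v) * (s : G)⁻¹ by
          rw [mul_assoc _ ((s : G)⁻¹) v, hvc _ (Subgroup.inv_mem _ s.2)]; group]
        exact c.U_normal _ s.2 _ h
  obtain ⟨s, hs, hsu⟩ := c.outer
  rcases c.mem_U.1 hvU with h | h | h | h
  · exact absurd h hv1
  · exact h
  · exact absurd (h ▸ hvc s hs) hsu
  · have h' := hvc s hs
    rw [h] at h'
    refine absurd (mul_right_cancel (b := c.z) ?_) hsu
    rw [mul_assoc, h', mul_assoc c.u c.z s, ← c.z_central s hs, ← mul_assoc]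

/-- The normaliser of the Sylow subgroup fixes `z`. -/
theorem normalizer_fix {g : G} (hg : g ∈ normalizer ((c.S : Subgroup G) : Set G)) : g * c.z = c.z * g := by
  refine mul_inv_eq_iff_eq_mul.1 (c.central_involution ((mem_normalizer_iff.1 hg _).1 c.zS) ?_ ?_ ?_)
  · rw [show g * c.z * g⁻¹ * (g * c.z * g⁻¹) = g * (c.z * c.z) * g⁻¹ by group, c.zz]; group
  · exact fun e => c.z_ne (conj_eq_one_iff.1 e)
  · intro s hs
    have hs' : g⁻¹ * s * g ∈ (c.S : Subgroup G) := by simpa using (mem_normalizer_iff.1 (inv_mem hg) s).1 hs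
    calc s * (g * c.z * g⁻¹) = g * (g⁻¹ * s * g * c.z) * g⁻¹ := by group
      _ = g * c.z * g⁻¹ * s := by rw [c.z_central _ hs']; group

/-- An elementary abelian subgroup of order 16 between `U` and `T`. -/
def HasSixteen (H : Subgroup G) : Prop :=
  ∃ V : Subgroup G, V ≤ c.T ∧ c.U ≤ V ∧ V ≤ H ∧ (∀ x ∈ V, x * x = 1) ∧ Nat.card ↥V = 16

/-- A step moving `z` is either inside `T` or contains an elementary subgroup of order 16. -/
theorem step_cases {H : Subgroup G} {n : G} (h : c.Step H n) (hnz : n * c.z * n⁻¹ ≠ c.z) :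
    n ∈ centralizer (H : Set G) ∨
      (n ∈ normalizer (H : Set G) ∧ H ≤ (c.S : Subgroup G) ∧ (c.S : Subgroup G) ⊓ centralizer (H : Set G) ≤ H ∧
        (H ≤ c.T ∨ (c.HasSixteen H ∧ c.u ∈ H ∧ ∀ x ∈ H, n * x * n⁻¹ * x⁻¹ ∈ c.T ⊔ c.R))) := by
  have hn := (StrongAlperin.goodSteps c.S).norm _ _ h
  rcases h with h | ⟨rfl, h⟩ | ⟨X, hX⟩
  · exact Or.inl h
  · exact absurd (mul_inv_eq_iff_eq_mul.2 (c.normalizer_fix h)) hnz
  · obtain ⟨hH, hfull, hc, hcore, hdis, -, -⟩ := hX
    refine Or.inr ⟨hn, hH, hc, ?_⟩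
    by_cases hHT : H ≤ c.T
    · exact Or.inl hHT
    by_cases hu : c.u ∈ H
    · obtain ⟨hV, hmoves⟩ := c.inner_step hH hc hfull hHT hu hn hnz
      exact Or.inr ⟨hV, hu, hmoves⟩
    · exact absurd (c.outer_step hH hc hfull hcore hdis hu hn) hnz

/-- All moves of the steps lie in `T ⊔ R`. -/
theorem moves_mem {H : Subgroup G} {n : G} (h : c.Step H n) {x : G} (hxH : x ∈ H)
    (hx : x ∈ (c.S : Subgroup G)) (hnx : n * x * n⁻¹ ∈ (c.S : Subgroup G)) :
    n * x * n⁻¹ * x⁻¹ ∈ c.T ⊔ c.R := by
  by_cases hnz : n * c.z * n⁻¹ = c.z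
  · exact c.move_mem (mul_inv_eq_iff_eq_mul.1 hnz) hx hnx
  rcases c.step_cases h hnz with h' | ⟨hn, -, -, h' | ⟨-, -, h'⟩⟩
  · rw [← mem_centralizer_iff.1 h' x hxH, mul_inv_cancel_right, mul_inv_cancel]
    exact one_mem _
  · exact mem_sup_left (mul_mem (h' ((mem_normalizer_iff.1 hn x).1 hxH)) (inv_mem (h' hxH)))
  · exact h' x hxH

/-- Some element of `S` in the 2-residual of `C(z)` moves `u`. -/
theorem not_R_le_T : ¬ c.R ≤ c.T := fun hR =>
  c.false_of_steps c.T_le c.T_index fun _ _ h x hxH hx hnx => by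
    have := c.moves_mem h hxH hx hnx
    rwa [sup_eq_left.2 hR] at this

end Ctx2

end CfsgLib.NoEightConstrained
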