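/-
The constrained cores of centralisers of central involutions.

Blueprint: `blueprint/S3272.md`, parts P2 and P3.
-/
import Cfsg.Agent.Lib.NoEightConstrained.Outer
import Cfsg.Agent.Lib.PairSol.CentCore

set_option autoImplicit false
set_option linter.style.haveILetI false

namespace CfsgLib.NoEightConstrained

open Subgroup

variable {G : Type*} [Group G] [Finite G]

namespace Ctx

variable (c : Ctx G)

/-- The properties of the core `Q` of the centraliser of a central involution `t`. -/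
structure Core (t : G) (Q : Subgroup G) : Prop where
  le : Q ≤ (c.S : Subgroup G)
  normal : ∀ s ∈ (c.S : Subgroup G), ∀ x ∈ Q, s * x * s⁻¹ ∈ Q
  self : ∀ x ∈ (c.S : Subgroup G), (∀ y ∈ Q, y * x = x * y) → x ∈ Q
  factor : ∀ g : G, g * t = t * g → ∃ o n : G, g = o * n ∧ n ∈ normalizer (Q : Set G) ∧ n * t = t * n ∧
    ∀ x ∈ (c.S : Subgroup G), o * x * o⁻¹ ∈ (c.S : Subgroup G) → o * x * o⁻¹ = x
  factorO : ∀ g : G, g * t = t * g → ∃ o n : G, g = o * n ∧ n ∈ normalizer (Q : Set G) ∧ n * t = t * n ∧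
    ∃ h : o ∈ centralizer ({t} : Set G),
      (⟨o, h⟩ : ↥(centralizer ({t} : Set G))) ∈ Cfsg.pPrimeCore 2 ↥(centralizer ({t} : Set G))
  odd_cent : ∀ g ∈ normalizer (Q : Set G) ⊓ centralizer ({t} : Set G), Odd (orderOf g) →
    (∀ y ∈ Q, y * g = g * y) → ∃ h : g ∈ centralizer ({t} : Set G),
      (⟨g, h⟩ : ↥(centralizer ({t} : Set G))) ∈ Cfsg.pPrimeCore 2 ↥(centralizer ({t} : Set G))
  radical : ∀ K : Subgroup G, K ≤ normalizer (Q : Set G) ⊓ centralizer ({t} : Set G) →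
    (∀ n ∈ normalizer (Q : Set G) ⊓ centralizer ({t} : Set G), ∀ k ∈ K, n * k * n⁻¹ ∈ K) →
    (∀ k ∈ K, ∃ j : ℕ, ∀ y ∈ Q, y * k ^ 2 ^ j = k ^ 2 ^ j * y) → (c.S : Subgroup G) ⊓ K ≤ Q

/-- The core of the centraliser of a central involution has these properties. -/
theorem exists_coreData {t : G} (htS : t ∈ (c.S : Subgroup G)) (ht : orderOf t = 2)
    (hc : ∀ s ∈ (c.S : Subgroup G), s * t = t * s) :
    ∃ Q : Subgroup G, c.Core t Q := by
  haveI := Fact.mk Nat.prime_two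
  set C := centralizer ({t} : Set G) with hC
  have hSC : (c.S : Subgroup G) ≤ C := fun s hs => mem_centralizer_singleton_iff.2 (hc s hs)
  have hcons : Cfsg.IsPConstrained 2 ↥C := c.cons t htS ht (by
    have e : centralizer ({t} : Set G) ⊓ (c.S : Subgroup G) = (c.S : Subgroup G) := inf_eq_right.2 hSC
    rw [e, relIndex_self]; norm_num)
  set SX : Sylow 2 ↥C := c.S.subtype hSC with hSX
  have hmemS : ∀ x : ↥C, x ∈ (SX : Subgroup ↥C) ↔ (x : G) ∈ (c.S : Subgroup G) := fun _ => Iff.rfl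
  set L := Cfsg.pPrimePCore 2 ↥C with hL
  set O := Cfsg.pPrimeCore 2 ↥C with hO
  haveI hLn : L.Normal := by rw [hL, Cfsg.pPrimePCore]; exact Subgroup.Normal.comap inferInstance _
  haveI hOn : O.Normal := by rw [hO]; exact Cfsg.pPrimeCore_normal 2 _
  set Q' : Subgroup ↥C := (SX : Subgroup ↥C) ⊓ L with hQ'
  obtain ⟨P, hPmap⟩ := CfsgLib.PLocal.exists_sylow_inf SX L
  rw [← hQ'] at hPmap
  have hLO : ∀ x ∈ L, ∃ o ∈ O, ∃ p ∈ Q', x = o * p := by
    intro x hx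
    have hx' := PairSol.pPrimePCore_le_sup SX hx
    rw [← SetLike.mem_coe, Subgroup.normal_mul] at hx'
    obtain ⟨o, ho, p, hp', e⟩ := hx'
    refine ⟨o, ho, p, ⟨hp', ?_⟩, e.symm⟩
    rw [show p = o⁻¹ * x by rw [← e]; group]
    exact Subgroup.mul_mem _ (Subgroup.inv_mem _ (PairSol.core_le_pPrimePCore ho)) hx
  have hfac : ∀ g : G, g * t = t * g → ∃ o n : G, g = o * n ∧ n ∈ normalizer ((Q'.map C.subtype : Subgroup G) : Set G) ∧
      n * t = t * n ∧ (∃ h : o ∈ C, (⟨o, h⟩ : ↥C) ∈ O) ∧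
      ∀ x ∈ (c.S : Subgroup G), o * x * o⁻¹ ∈ (c.S : Subgroup G) → o * x * o⁻¹ = x := by
    intro g hg
    have htop := Sylow.normalizer_sup_eq_top P
    rw [hPmap] at htop
    have hg' : (⟨g, mem_centralizer_singleton_iff.2 hg⟩ : ↥C) ∈ normalizer (Q' : Set ↥C) ⊔ L := htop ▸ mem_top _
    rw [← SetLike.mem_coe, Subgroup.mul_normal] at hg'
    obtain ⟨n₀, hn₀, l, hl, e⟩ := hg'
    obtain ⟨o, ho, p, hp', rfl⟩ := hLO l hl
    set n : ↥C := n₀ * p with hn
    have hnN : n ∈ normalizer (Q' : Set ↥C) := mul_mem hn₀ (le_normalizer hp')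
    refine ⟨((n₀ * o * n₀⁻¹ : ↥C) : G), (n : G), ?_, ?_, ?_, ⟨(n₀ * o * n₀⁻¹).2, hOn.conj_mem o ho n₀⟩, ?_⟩
    · rw [← coe_mul]
      have := congrArg (Subtype.val : ↥C → G) e.symm
      refine this.trans (congrArg Subtype.val ?_)
      rw [hn]; group
    · have h1 := le_normalizer_map C.subtype (mem_map_of_mem C.subtype hnN)
      exact h1
    · exact mem_centralizer_singleton_iff.1 n.2
    · intro x hx hox
      set o' : ↥C := n₀ * o * n₀⁻¹ with ho'
      have ho'O : o' ∈ O := hOn.conj_mem o ho n₀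
      set xC : ↥C := ⟨x, hSC hx⟩ with hxC
      have hd : o' * xC * o'⁻¹ * xC⁻¹ ∈ O := by
        rw [show o' * xC * o'⁻¹ * xC⁻¹ = o' * (xC * o'⁻¹ * xC⁻¹) by group]
        exact mul_mem ho'O (hOn.conj_mem _ (inv_mem ho'O) _)
      have hdS : o' * xC * o'⁻¹ * xC⁻¹ ∈ (SX : Subgroup ↥C) :=
        Subgroup.mul_mem _ hox (Subgroup.inv_mem _ hx)
      obtain ⟨k, hk⟩ := SX.2 ⟨_, hdS⟩
      have hk' : (o' * xC * o'⁻¹ * xC⁻¹) ^ 2 ^ k = 1 := congrArg Subtype.val hk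
      have hcop : (Nat.card ↥O).Coprime 2 := CfsgLib.card_pPrimeCore_coprime 2
      have h1 := pow_gcd_eq_one.2 ⟨hk', (show (o' * xC * o'⁻¹ * xC⁻¹) ^ Nat.card ↥O = 1 from
        congrArg Subtype.val (pow_card_eq_one' (x := (⟨_, hd⟩ : ↥O))))⟩
      rw [(Nat.Coprime.pow_left k hcop.symm).gcd_eq_one, pow_one] at h1
      exact mul_inv_eq_one.1 (congrArg Subtype.val h1)
  refine ⟨Q'.map C.subtype, ?_, ?_, ?_, ?_, fun g hg => ?_, fun g hgN hgo hgc => ?_, ?_⟩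
  · rintro _ ⟨x, hx, rfl⟩
    exact (hmemS x).1 hx.1
  · rintro s hs _ ⟨x, hx, rfl⟩
    exact ⟨⟨s, hSC hs⟩ * x * ⟨s, hSC hs⟩⁻¹,
      ⟨Subgroup.mul_mem _ (Subgroup.mul_mem _ hs hx.1) (Subgroup.inv_mem _ hs),
        Subgroup.Normal.conj_mem inferInstance x hx.2 _⟩, rfl⟩
  · intro x hx hcx
    refine ⟨⟨x, hSC hx⟩, ⟨hx, hcons P ?_⟩, rfl⟩
    rw [hPmap]
    exact mem_centralizer_iff.2 fun y hy => Subtype.ext (hcx _ ⟨y, hy, rfl⟩)
  · intro g hg
    obtain ⟨o, n, e, h1, h2, -, h3⟩ := hfac g hg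
    exact ⟨o, n, e, h1, h2, h3⟩
  · obtain ⟨o, n, e, h1, h2, ho, -⟩ := hfac g hg
    exact ⟨o, n, e, h1, h2, ho⟩
  · refine ⟨hgN.2, (QuotientGroup.eq_one_iff _).1 ?_⟩
    have hgL : (⟨g, hgN.2⟩ : ↥C) ∈ L := hcons P (by
      rw [hPmap]
      exact mem_centralizer_iff.2 fun y hy => Subtype.ext (hgc _ ⟨y, hy, rfl⟩))
    obtain ⟨i, hi⟩ := (CfsgLib.isPGroup_pCore 2 : IsPGroup 2 ↥(Cfsg.pCore 2 (↥C ⧸ O))) ⟨_, hgL⟩
    have hi' : (QuotientGroup.mk' O ⟨g, hgN.2⟩) ^ 2 ^ i = 1 := congrArg Subtype.val hi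
    have hm : (QuotientGroup.mk' O ⟨g, hgN.2⟩) ^ orderOf g = 1 := by
      rw [← map_pow, show (⟨g, hgN.2⟩ : ↥C) ^ orderOf g = 1 from Subtype.ext (pow_orderOf_eq_one g), map_one]
    have h1 := pow_gcd_eq_one.2 ⟨hi', hm⟩
    rwa [(Nat.Coprime.pow_left i (Nat.coprime_two_left.2 hgo)).gcd_eq_one, pow_one] at h1
  · intro K hKN hKn hK2 s hs
    set π := QuotientGroup.mk' O with hπ
    have hmem : ∀ x : ↥C, x ∈ L ↔ π x ∈ Cfsg.pCore 2 (↥C ⧸ O) := fun _ => Iff.rfl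
    have hKC : K ≤ C := hKN.trans inf_le_right
    have hD : ((K.subgroupOf C).map π).Normal := by
      refine ⟨?_⟩
      rintro _ ⟨k, hk, rfl⟩ d
      obtain ⟨g, rfl⟩ := QuotientGroup.mk'_surjective O d
      obtain ⟨o, n, e, hn1, hn2, ⟨hoC, hoO⟩, -⟩ := hfac g (mem_centralizer_singleton_iff.1 g.2)
      have hπg : π g = π ⟨n, mem_centralizer_singleton_iff.2 hn2⟩ := by
        rw [show g = ⟨o, hoC⟩ * ⟨n, mem_centralizer_singleton_iff.2 hn2⟩ from Subtype.ext e, map_mul,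
          show π ⟨o, hoC⟩ = 1 from (QuotientGroup.eq_one_iff _).2 hoO, one_mul]
      rw [hπg, ← map_inv, ← map_mul, ← map_mul]
      exact mem_map_of_mem π (hKn n ⟨hn1, mem_centralizer_singleton_iff.2 hn2⟩ _ hk)
    have hC2 : IsPGroup 2 ↥(Cfsg.pCore 2 (↥C ⧸ O)) := CfsgLib.isPGroup_pCore 2
    have hp : IsPGroup 2 ↥((K.subgroupOf C).map π) := by
      rintro ⟨_, k, hk, rfl⟩
      obtain ⟨j, hj⟩ := hK2 k hk
      have hkL : k ^ 2 ^ j ∈ L := hcons P (by
        rw [hPmap]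
        exact mem_centralizer_iff.2 fun y hy => Subtype.ext (hj _ ⟨y, hy, rfl⟩))
      obtain ⟨i, hi⟩ := hC2 ⟨_, (hmem _).1 hkL⟩
      refine ⟨j + i, Subtype.ext ?_⟩
      show π k ^ 2 ^ (j + i) = 1
      rw [pow_add, pow_mul, ← map_pow]
      exact congrArg Subtype.val hi
    have hle : (K.subgroupOf C).map π ≤ Cfsg.pCore 2 (↥C ⧸ O) := le_sSup ⟨hD, hp⟩
    refine ⟨⟨s, hSC hs.1⟩, ⟨hs.1, (hmem _).2 (hle ⟨⟨s, hSC hs.1⟩, hs.2, rfl⟩)⟩, rfl⟩

/-- When the four-group is central, the centraliser of one of its involutions fuses nothing in it. -/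
theorem central_stable (hcentral : ∀ s ∈ (c.S : Subgroup G), ∀ v ∈ c.U, s * v = v * s)
    {q : G} (hq : q ∈ c.U) (hq1 : q ≠ 1) {g : G} (hg : g * q = q * g) {v : G} (hv : v ∈ c.U)
    (hgv : g * v * g⁻¹ ∈ (c.S : Subgroup G)) : g * v * g⁻¹ = v := by
  classical
  haveI := Fact.mk Nat.prime_two
  have hqo : orderOf q = 2 := orderOf_eq_prime (by rw [pow_two]; exact c.U_sq q hq) hq1
  obtain ⟨Q, hQS, hQn, hQc, hfac, -, -, -⟩ := c.exists_coreData (c.U_le hq) hqo fun s hs => hcentral s hs q hq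
  have hUQ : c.U ≤ Q := fun w hw => hQc w (c.U_le hw) fun y hy => hcentral y (hQS hy) w hw
  -- the central involutions of `Q`
  let E : Subgroup G :=
    { carrier := {x | x ∈ Q ∧ x * x = 1 ∧ ∀ y ∈ Q, y * x = x * y}
      one_mem' := ⟨Q.one_mem, one_mul 1, fun y _ => by simp⟩
      mul_mem' := by
        rintro a b ⟨ha, ha2, hac⟩ ⟨hb, hb2, hbc⟩
        refine ⟨mul_mem ha hb, sq_mul_of_comm ha2 hb2 (hac b hb).symm, fun y hy => ?_⟩
        rw [← mul_assoc, hac y hy, mul_assoc, hbc y hy, ← mul_assoc]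
      inv_mem' := by
        rintro a ⟨ha, ha2, hac⟩
        rw [show a⁻¹ = a from eq_inv_of_sq ha2]
        exact ⟨ha, ha2, hac⟩ }
  have hES : E ≤ (c.S : Subgroup G) := fun x hx => hQS hx.1
  have hEn : ∀ n ∈ normalizer (Q : Set G), ∀ x ∈ E, n * x * n⁻¹ ∈ E := by
    rintro n hn x ⟨hx, hx2, hxc⟩
    refine ⟨(mem_normalizer_iff.1 hn x).1 hx, ?_, fun y hy => ?_⟩
    · rw [show n * x * n⁻¹ * (n * x * n⁻¹) = n * (x * x) * n⁻¹ by group, hx2]; group
    · have hy' : n⁻¹ * y * n ∈ Q := by simpa using (mem_normalizer_iff.1 (inv_mem hn) y).1 hy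
      calc y * (n * x * n⁻¹) = n * (n⁻¹ * y * n * x) * n⁻¹ := by group
        _ = n * x * n⁻¹ * y := by rw [hxc _ hy']; group
  have hUE : c.U ≤ E := fun w hw => ⟨hUQ hw, c.U_sq w hw, fun y hy => hcentral y (hQS hy) w hw⟩
  have hE4 : Nat.card ↥E ≤ 4 := by
    have h := c.noEight (E.subgroupOf (c.S : Subgroup G)) ⟨fun x hx s => ?_⟩
      ⟨⟨fun a b => Subtype.ext (Subtype.ext (comm_of_sq (E := E) (fun x hx => hx.2.1) (mem_subgroupOf.1 a.2)
        (mem_subgroupOf.1 b.2)))⟩⟩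
      fun x hx => Subtype.ext (by
        show (x : G) ^ 2 = 1
        rw [pow_two]; exact (mem_subgroupOf.1 hx).2.1)
    · rwa [Nat.card_congr (subgroupOfEquivOfLe hES).toEquiv] at h
    · refine hEn _ (mem_normalizer_iff.2 fun y => ⟨hQn _ s.2 y, fun hy => ?_⟩) _ (mem_subgroupOf.1 hx)
      have := hQn _ (Subgroup.inv_mem _ s.2) _ hy
      simpa [mul_assoc] using this
  have hEU : c.U = E := eq_of_le_of_card_ge hUE (by rw [c.U_card]; exact hE4)
  -- a normalising element fixing `q` fixes `U`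
  have hfix : ∀ n ∈ normalizer (Q : Set G), n * q = q * n → n * v * n⁻¹ = v := by
    intro n hn hnq
    set N := normalizer (Q : Set G) ⊓ centralizer ({q} : Set G) with hN
    have hnN : n ∈ N := ⟨hn, mem_centralizer_singleton_iff.2 hnq⟩
    have hSN : (c.S : Subgroup G) ≤ N := fun s hs => ⟨mem_normalizer_iff.2 fun y => ⟨hQn s hs y, fun hy => by
      simpa [mul_assoc] using hQn _ (Subgroup.inv_mem _ hs) _ hy⟩,
      mem_centralizer_singleton_iff.2 (hcentral s hs q hq)⟩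
    have hmaps : ∀ m ∈ N, ∀ w ∈ c.U, m * w * m⁻¹ ∈ c.U := fun m hm w hw => by
      rw [hEU]; exact hEn m hm.1 w (hUE hw)
    rcases eq_or_ne v 1 with rfl | hv1
    · group
    rcases eq_or_ne v q with rfl | hvq
    · rw [hnq, mul_inv_cancel_right]
    set m := orderOf n / 2 ^ (orderOf n).factorization 2 with hm
    have hmodd : Odd m := Nat.not_even_iff_odd.1 fun h =>
      Nat.not_dvd_ordCompl Nat.prime_two (isOfFinOrder_of_finite n).orderOf_pos.ne' (even_iff_two_dvd.1 h)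
    refine mul_inv_eq_iff_eq_mul.2 (mem_centralizer_singleton_iff.1 (mem_of_sq_pow hmodd
      (mem_centralizer_singleton_iff.2 ?_) (mem_centralizer_singleton_iff.2 ?_)))
    · -- squares fix `U`
      have key : ∀ w ∈ c.U, w ≠ 1 → w ≠ q → n * w * n⁻¹ ≠ 1 ∧ n * w * n⁻¹ ≠ q := fun w _ h1 h2 =>
        ⟨fun e => h1 (conj_eq_one_iff.1 e), fun e => h2 (by
          rw [show w = n⁻¹ * (n * w * n⁻¹) * n by group, e, mul_assoc, ← hnq, inv_mul_cancel_left])⟩
      have hcard : ∀ w ∈ c.U, w = 1 ∨ w = q ∨ w = v ∨ w = v * q := by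
        intro w hw
        haveI := Fintype.ofFinite ↥c.U
        let f : Finset ↥c.U := {1, ⟨q, hq⟩, ⟨v, hv⟩, ⟨v * q, mul_mem hv hq⟩}
        have hf : f.card = 4 := by
          have h3 : v * q ≠ 1 := fun e => hvq (by
            rw [eq_inv_of_mul_eq_one_left e, eq_inv_of_sq (c.U_sq q hq)])
          have h4 : v * q ≠ q := fun e => hv1 (mul_eq_right.1 e)
          have h5 : v * q ≠ v := fun e => hq1 (mul_eq_left.1 e)
          simp [f, Subtype.ext_iff, hq1.symm, hv1.symm, hvq.symm, h3.symm, h4.symm, h5.symm]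
        have := (Finset.eq_univ_of_card f (by rw [hf, ← Nat.card_eq_fintype_card, c.U_card])) ▸
          Finset.mem_univ (⟨w, hw⟩ : ↥c.U)
        simpa [f, Subtype.ext_iff] using this
      have hqc : n * q * n⁻¹ = q := by rw [hnq, mul_inv_cancel_right]
      obtain ⟨h1, h2⟩ := key v hv hv1 hvq
      refine mul_inv_eq_iff_eq_mul.1 ?_
      rw [show n * n * v * (n * n)⁻¹ = n * (n * v * n⁻¹) * n⁻¹ by group]
      rcases hcard _ (hmaps n hnN v hv) with e | e | e | e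
      · exact absurd e h1
      · exact absurd e h2
      · rw [e, e]
      · rw [e, show n * (v * q) * n⁻¹ = n * v * n⁻¹ * (n * q * n⁻¹) by group, e, hqc, mul_assoc, c.U_sq q hq,
          mul_one]
    · -- two-elements fix `U`
      set k := n ^ m with hk
      have hk2 : k ^ 2 ^ (orderOf n).factorization 2 = 1 := by
        rw [hk, ← pow_mul, Nat.div_mul_cancel (Nat.ordProj_dvd _ _), pow_orderOf_eq_one]
      have hkN : (⟨k, pow_mem hnN m⟩ : ↥N) ∈ (⊤ : Subgroup ↥N) := mem_top _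
      have hkP : IsPGroup 2 ↥(zpowers (⟨k, pow_mem hnN m⟩ : ↥N)) := by
        rintro ⟨x, hx⟩
        obtain ⟨i, rfl⟩ := mem_zpowers_iff.1 hx
        refine ⟨(orderOf n).factorization 2, Subtype.ext ?_⟩
        show ((⟨k, _⟩ : ↥N) ^ i) ^ _ = 1
        rw [← zpow_natCast, ← zpow_mul, mul_comm, zpow_mul, zpow_natCast,
          show (⟨k, pow_mem hnN m⟩ : ↥N) ^ 2 ^ (orderOf n).factorization 2 = 1 from Subtype.ext hk2, one_zpow]
      obtain ⟨Pk, hPk⟩ := hkP.exists_le_sylow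
      obtain ⟨h, hh⟩ := MulAction.exists_smul_eq ↥N (c.S.subtype hSN) Pk
      have hmem := hPk (mem_zpowers _)
      rw [← hh] at hmem
      obtain ⟨s, hs, e⟩ := hmem
      have e' : k = (h : G) * (s : G) * (h : G)⁻¹ := (congrArg Subtype.val e).symm
      have hw : (h : G)⁻¹ * v * h ∈ c.U := by
        simpa using hmaps _ (inv_mem h.2) v hv
      have := hcentral _ hs _ hw
      calc k * v = h * ((s : G) * ((h : G)⁻¹ * v * h)) * (h : G)⁻¹ := by rw [e']; group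
        _ = v * k := by
          simp only [Subgroup.coe_subtype] at this ⊢
          rw [this, e']; group
  obtain ⟨o, n, rfl, hn, hnq, ho⟩ := hfac g hg
  have hn' := hfix n hn hnq
  rw [show o * n * v * (o * n)⁻¹ = o * (n * v * n⁻¹) * o⁻¹ by group, hn'] at hgv ⊢
  exact ho v (c.U_le hv) hgv

end Ctx

end CfsgLib.NoEightConstrained
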