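/-
The core of the centraliser of `z`: a quaternion or an extraspecial part.

Blueprint: `blueprint/S3272.md`, part P3.
-/
import Cfsg.Agent.Lib.NoEightConstrained.Focal
import Cfsg.Agent.Lib.NoEightConstrained.Radical

set_option autoImplicit false
set_option linter.style.haveILetI false

namespace CfsgLib.NoEightConstrained

open Subgroup

variable {G : Type*} [Group G] [Finite G]

theorem mul_mem_pair {z α β : G} (hz : z * z = 1) (hα : α = 1 ∨ α = z) (hβ : β = 1 ∨ β = z) :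
    α * β = 1 ∨ α * β = z := by
  rcases hα with rfl | rfl <;> rcases hβ with rfl | rfl <;> simp [hz]

theorem inv_mem_pair {z α : G} (hz : z * z = 1) (hα : α = 1 ∨ α = z) : α⁻¹ = 1 ∨ α⁻¹ = z := by
  rcases hα with rfl | rfl <;> simp [inv_eq_of_mul_eq_one_right hz]

namespace Ctx2

variable (c : Ctx2 G)

theorem exists_core_z : ∃ Q : Subgroup G, c.Core c.z Q := by
  haveI := Fact.mk Nat.prime_two
  exact c.exists_coreData c.zS (orderOf_eq_prime (by rw [pow_two]; exact c.zz) c.z_ne) c.z_central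

/-- The local group at `z`. -/
def Loc (Q : Subgroup G) : Subgroup G := normalizer (Q : Set G) ⊓ centralizer ({c.z} : Set G)

variable {Q : Subgroup G} (hQ : c.Core c.z Q)

include hQ

theorem S_le_loc : (c.S : Subgroup G) ≤ c.Loc Q := fun s hs =>
  ⟨mem_normalizer_iff.2 fun y => ⟨hQ.normal s hs y, fun hy => by
    simpa [mul_assoc] using hQ.normal _ (Subgroup.inv_mem _ hs) _ hy⟩,
    mem_centralizer_singleton_iff.2 (c.z_central s hs)⟩

theorem z_mem_core : c.z ∈ Q := hQ.self _ c.zS fun y hy => c.z_central y (hQ.le hy)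

omit hQ in
theorem loc_z {n : G} (hn : n ∈ c.Loc Q) : n * c.z * n⁻¹ = c.z := by
  rw [mem_centralizer_singleton_iff.1 hn.2, mul_inv_cancel_right]

/-- `u` lies in the core. -/
theorem u_mem_core : c.u ∈ Q := by
  let K : Subgroup G :=
    { carrier := {g | g ∈ c.Loc Q ∧ ∀ x ∈ Q, ∃ α, (α = 1 ∨ α = c.z) ∧ g * x * g⁻¹ = x * α}
      one_mem' := ⟨one_mem _, fun x _ => ⟨1, Or.inl rfl, by group⟩⟩
      mul_mem' := by
        rintro a b ⟨ha, ha'⟩ ⟨hb, hb'⟩
        refine ⟨mul_mem ha hb, fun x hx => ?_⟩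
        obtain ⟨β, hβ, e⟩ := hb' x hx
        obtain ⟨α, hα, e'⟩ := ha' x hx
        refine ⟨α * β, mul_mem_pair c.zz hα hβ, ?_⟩
        have hfix : a * β * a⁻¹ = β := by
          rcases hβ with rfl | rfl
          · group
          · exact c.loc_z ha
        rw [show a * b * x * (a * b)⁻¹ = a * (b * x * b⁻¹) * a⁻¹ by group, e,
          show a * (x * β) * a⁻¹ = a * x * a⁻¹ * (a * β * a⁻¹) by group, e', hfix, mul_assoc]
      inv_mem' := by
        rintro a ⟨ha, ha'⟩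
        refine ⟨inv_mem ha, fun x hx => ?_⟩
        obtain ⟨α, hα, e⟩ := ha' x hx
        refine ⟨α⁻¹, inv_mem_pair c.zz hα, ?_⟩
        have hfix : a * α⁻¹ * a⁻¹ = α⁻¹ := by
          rcases hα with rfl | rfl
          · group
          · rw [eq_inv_of_sq c.zz]; exact c.loc_z ha
        rw [inv_inv, show a⁻¹ * x * a = a⁻¹ * (x * α * α⁻¹) * a by group, ← e,
          show a⁻¹ * (a * x * a⁻¹ * α⁻¹) * a = x * (a⁻¹ * α⁻¹ * a) by group]
        conv_lhs => arg 2; arg 1; arg 2; rw [← hfix]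
        group }
  have huK : c.u ∈ K := by
    refine ⟨c.S_le_loc hQ c.uS, fun x hx => ?_⟩
    by_cases hxT : x ∈ c.T
    · exact ⟨1, Or.inl rfl, by rw [← (c.mem_T_iff.1 hxT).2, mul_inv_cancel_right, mul_one]⟩
    · refine ⟨c.z, Or.inr rfl, ?_⟩
      have h := mul_inv_eq_iff_eq_mul.1 (c.conj_u (hQ.le hx) hxT)
      rw [eq_inv_of_sq c.uu, mul_assoc, h, show c.u * (c.u * c.z * x) = c.u * c.u * (c.z * x) by group,
        c.uu, one_mul, c.z_central x (hQ.le hx)]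
  refine hQ.radical K (fun g hg => hg.1) ?_ ?_ ⟨c.uS, huK⟩
  · rintro n hn k ⟨hk, hk'⟩
    refine ⟨mul_mem (mul_mem hn hk) (inv_mem hn), fun x hx => ?_⟩
    have hy : n⁻¹ * x * n ∈ Q := by simpa using (mem_normalizer_iff.1 (inv_mem hn.1) x).1 hx
    obtain ⟨α, hα, e⟩ := hk' _ hy
    refine ⟨α, hα, ?_⟩
    have hfix : n * α * n⁻¹ = α := by
      rcases hα with rfl | rfl
      · group
      · exact c.loc_z hn
    rw [show n * k * n⁻¹ * x * (n * k * n⁻¹)⁻¹ = n * (k * (n⁻¹ * x * n) * k⁻¹) * n⁻¹ by group, e,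
      show n * (n⁻¹ * x * n * α) * n⁻¹ = x * (n * α * n⁻¹) by group, hfix]
  · rintro k ⟨hk, hk'⟩
    refine ⟨1, fun y hy => ?_⟩
    obtain ⟨α, hα, e⟩ := hk' y hy
    have hfix : k * α * k⁻¹ = α := by
      rcases hα with rfl | rfl
      · group
      · exact c.loc_z hk
    have h2 : α * α = 1 := by rcases hα with rfl | rfl <;> simp [c.zz]
    refine (mul_inv_eq_iff_eq_mul.1 ?_).symm
    rw [pow_one, pow_two, show k * k * y * (k * k)⁻¹ = k * (k * y * k⁻¹) * k⁻¹ by group, e,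
      show k * (y * α) * k⁻¹ = k * y * k⁻¹ * (k * α * k⁻¹) by group, e, hfix, mul_assoc, h2, mul_one]

/-- The local group at `z` moves the four-group. -/
theorem not_invariant : ¬ ∀ n ∈ c.Loc Q, ∀ v ∈ c.U, n * v * n⁻¹ ∈ c.U := by
  intro hinv
  refine c.not_R_le_T fun x hx => ?_
  haveI := Fact.mk Nat.prime_two
  set C := centralizer ({c.z} : Set G) with hC
  have hSC : (c.S : Subgroup G) ≤ C := fun s hs => mem_centralizer_singleton_iff.2 (c.z_central s hs)
  set O := Cfsg.pPrimeCore 2 ↥C with hO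
  haveI hOn : O.Normal := by rw [hO]; exact Cfsg.pPrimeCore_normal 2 _
  set π := QuotientGroup.mk' O with hπ
  set uC : ↥C := ⟨c.u, hSC c.uS⟩ with huC
  set zC : ↥C := ⟨c.z, hSC c.zS⟩ with hzC
  have hzc : ∀ g : ↥C, g * zC * g⁻¹ = zC := fun g => Subtype.ext (by
    show (g : G) * c.z * (g : G)⁻¹ = c.z
    rw [mem_centralizer_singleton_iff.1 g.2, mul_inv_cancel_right])
  have hact : ∀ g : ↥C, π g * π uC * (π g)⁻¹ = π uC ∨ π g * π uC * (π g)⁻¹ = π uC * π zC := by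
    intro g
    obtain ⟨o, n, e, hn, hnz, ⟨hoC, hoO⟩⟩ := hQ.factorO _ (mem_centralizer_singleton_iff.1 g.2)
    have hπg : π g = π ⟨n, mem_centralizer_singleton_iff.2 hnz⟩ := by
      rw [show g = ⟨o, hoC⟩ * ⟨n, mem_centralizer_singleton_iff.2 hnz⟩ from Subtype.ext e, map_mul,
        show π ⟨o, hoC⟩ = 1 from (QuotientGroup.eq_one_iff _).2 hoO, one_mul]
    have hnL : n ∈ c.Loc Q := ⟨hn, mem_centralizer_singleton_iff.2 hnz⟩
    rw [hπg, ← map_inv, ← map_mul, ← map_mul, ← map_mul]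
    rcases c.mem_U.1 (hinv n hnL _ c.u_mem) with h | h | h | h
    · exact absurd (conj_eq_one_iff.1 h) c.u_ne
    · refine absurd ?_ c.u_ne_z
      calc c.u = n⁻¹ * (n * c.u * n⁻¹) * n := by group
        _ = c.z := by rw [h, mul_assoc, ← hnz, inv_mul_cancel_left]
    · exact Or.inl (congrArg π (Subtype.ext h))
    · exact Or.inr (congrArg π (Subtype.ext h))
  have hsq : ∀ g : ↥C, π (g ^ 2 ^ 1) * π uC = π uC * π (g ^ 2 ^ 1) := by
    intro g
    have hzπ : π g * π zC * (π g)⁻¹ = π zC := by rw [← map_inv, ← map_mul, ← map_mul, hzc]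
    refine mul_inv_eq_iff_eq_mul.1 ?_
    rw [pow_one, map_pow, pow_two,
      show π g * π g * π uC * (π g * π g)⁻¹ = π g * (π g * π uC * (π g)⁻¹) * (π g)⁻¹ by group]
    rcases hact g with h | h <;> rw [h]
    · exact h
    · rw [show π g * (π uC * π zC) * (π g)⁻¹ = π g * π uC * (π g)⁻¹ * (π g * π zC * (π g)⁻¹) by group, h, hzπ,
        mul_assoc, ← map_mul π zC zC, show zC * zC = 1 from Subtype.ext c.zz, map_one, mul_one]
  have hle : Cfsg.pResidual 2 ↥C ≤ (centralizer ({π uC} : Set (↥C ⧸ O))).comap π :=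
    PResidual.pResidual_le_of_pow fun g => ⟨1, mem_comap.2 (mem_centralizer_singleton_iff.2 (hsq g))⟩
  obtain ⟨hxS, y, hy, e⟩ := hx
  refine c.mem_T_iff.2 ⟨hxS, ?_⟩
  have hc' : π y * π uC = π uC * π y := mem_centralizer_singleton_iff.1 (mem_comap.1 (hle hy))
  rw [← map_mul, ← map_mul] at hc'
  have hd : (y * uC)⁻¹ * (uC * y) ∈ O := by
    rw [← QuotientGroup.eq_one_iff (N := O)]
    show π ((y * uC)⁻¹ * (uC * y)) = 1
    rw [map_mul, map_inv, hc', inv_mul_cancel]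
  set d := (y * uC)⁻¹ * (uC * y) with hd'
  have hdS : (d : G) ∈ (c.S : Subgroup G) := by
    show ((y : G) * c.u)⁻¹ * (c.u * (y : G)) ∈ _
    rw [show (y : G) = x from e]
    exact Subgroup.mul_mem _ (Subgroup.inv_mem _ (Subgroup.mul_mem _ hxS c.uS)) (Subgroup.mul_mem _ c.uS hxS)
  obtain ⟨k, hk⟩ := c.S.2 ⟨_, hdS⟩
  have hk' : d ^ 2 ^ k = 1 := Subtype.ext (by
    show (d : G) ^ 2 ^ k = 1
    exact congrArg Subtype.val hk)
  have hcop : (Nat.card ↥O).Coprime 2 := CfsgLib.card_pPrimeCore_coprime 2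
  have h1 := pow_gcd_eq_one.2 ⟨hk', (show d ^ Nat.card ↥O = 1 from
    congrArg Subtype.val (pow_card_eq_one' (x := (⟨d, hd⟩ : ↥O))))⟩
  rw [(Nat.Coprime.pow_left k hcop.symm).gcd_eq_one, pow_one, hd', inv_mul_eq_one] at h1
  have := congrArg (Subtype.val : ↥C → G) h1
  rw [show x = (y : G) from e.symm]
  exact this

omit hQ in
/-- A subgroup of the local group containing `S` and all squares is everything. -/
theorem loc_le {Q : Subgroup G} {D : Subgroup G} (hS : (c.S : Subgroup G) ≤ D) (hSL : (c.S : Subgroup G) ≤ c.Loc Q)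
    (h : ∀ n ∈ c.Loc Q, n * n ∈ D) : c.Loc Q ≤ D := by
  haveI := Fact.mk Nat.prime_two
  intro n hn
  haveI := PResidual.pResidual_normal (p := 2) (G := ↥(c.Loc Q))
  have hle : Cfsg.pResidual 2 ↥(c.Loc Q) ≤ D.subgroupOf (c.Loc Q) :=
    PResidual.pResidual_le_of_pow fun g => ⟨1, mem_subgroupOf.2 (by
      show (g : G) ^ 2 ^ 1 ∈ D
      rw [pow_one, pow_two]; exact h _ g.2)⟩
  have hP : ((c.S.subtype hSL : Sylow 2 ↥(c.Loc Q)) : Subgroup ↥(c.Loc Q)) ≤ D.subgroupOf (c.Loc Q) :=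
    fun x hx => mem_subgroupOf.2 (hS hx)
  have htop := PResidual.pResidual_sup_sylow (c.S.subtype hSL)
  exact mem_subgroupOf.1 (sup_le hP hle (htop ▸ mem_top (⟨n, hn⟩ : ↥(c.Loc Q))))

omit hQ in
/-- The subgroup generated by the conjugates of `u`. -/
def Wsub (Q : Subgroup G) : Subgroup G := closure {x | ∃ n ∈ c.Loc Q, x = n * c.u * n⁻¹}

omit hQ in
theorem u_mem_W : c.u ∈ c.Wsub Q := subset_closure ⟨1, one_mem _, by group⟩

omit hQ in
theorem W_inv {n x : G} (hn : n ∈ c.Loc Q) (hx : x ∈ c.Wsub Q) : n * x * n⁻¹ ∈ c.Wsub Q := by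
  have hle : c.Wsub Q ≤ (c.Wsub Q).comap (MulAut.conj n).toMonoidHom := by
    refine (closure_le _).2 ?_
    rintro _ ⟨m, hm, rfl⟩
    exact subset_closure ⟨n * m, mul_mem hn hm, by simp [mul_assoc]⟩
  exact hle hx

theorem W_le : c.Wsub Q ≤ Q := by
  refine (closure_le _).2 ?_
  rintro _ ⟨n, hn, rfl⟩
  exact (mem_normalizer_iff.1 hn.1 _).1 (c.u_mem_core hQ)

theorem W_le_S : c.Wsub Q ≤ (c.S : Subgroup G) := (c.W_le hQ).trans hQ.le

theorem conj_W {x w : G} (hx : x ∈ Q) (hw : w ∈ c.Wsub Q) :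
    ∃ α, (α = 1 ∨ α = c.z) ∧ x * w * x⁻¹ = w * α := by
  induction hw using closure_induction with
  | mem w hw =>
    obtain ⟨n, hn, rfl⟩ := hw
    have hy : n⁻¹ * x * n ∈ Q := by simpa using (mem_normalizer_iff.1 (inv_mem hn.1) x).1 hx
    by_cases hT : n⁻¹ * x * n ∈ c.T
    · refine ⟨1, Or.inl rfl, ?_⟩
      rw [show x * (n * c.u * n⁻¹) * x⁻¹ = n * (n⁻¹ * x * n * c.u * (n⁻¹ * x * n)⁻¹) * n⁻¹ by group,
        (c.mem_T_iff.1 hT).2, mul_inv_cancel_right, mul_one]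
    · refine ⟨c.z, Or.inr rfl, ?_⟩
      rw [show x * (n * c.u * n⁻¹) * x⁻¹ = n * (n⁻¹ * x * n * c.u * (n⁻¹ * x * n)⁻¹) * n⁻¹ by group,
        c.conj_u (hQ.le hy) hT, show n * (c.u * c.z) * n⁻¹ = n * c.u * n⁻¹ * (n * c.z * n⁻¹) by group, c.loc_z hn]
  | one => exact ⟨1, Or.inl rfl, by group⟩
  | mul a b ha hb iha ihb =>
    obtain ⟨α, hα, e⟩ := iha
    obtain ⟨β, hβ, e'⟩ := ihb
    refine ⟨α * β, mul_mem_pair c.zz hα hβ, ?_⟩
    have hcm : α * b = b * α := by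
      rcases hα with rfl | rfl
      · simp
      · exact (c.z_central b (c.W_le_S hQ hb)).symm
    rw [show x * (a * b) * x⁻¹ = x * a * x⁻¹ * (x * b * x⁻¹) by group, e, e',
      show a * α * (b * β) = a * (α * b) * β by group, hcm]
    group
  | inv a ha iha =>
    obtain ⟨α, hα, e⟩ := iha
    refine ⟨α⁻¹, inv_mem_pair c.zz hα, ?_⟩
    rw [show x * a⁻¹ * x⁻¹ = (x * a * x⁻¹)⁻¹ by group, e, mul_inv_rev]
    rcases hα with rfl | rfl
    · simp
    · rw [eq_inv_of_sq c.zz, c.z_central _ (Subgroup.inv_mem _ (c.W_le_S hQ ha))]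

theorem sq_W {w : G} (hw : w ∈ c.Wsub Q) : w * w = 1 ∨ w * w = c.z := by
  induction hw using closure_induction with
  | mem w hw =>
    obtain ⟨n, hn, rfl⟩ := hw
    left
    rw [show n * c.u * n⁻¹ * (n * c.u * n⁻¹) = n * (c.u * c.u) * n⁻¹ by group, c.uu]; group
  | one => left; simp
  | mul a b ha hb iha ihb =>
    obtain ⟨α, hα, e⟩ := c.conj_W hQ (inv_mem (c.W_le hQ ha)) hb
    rw [inv_inv] at e
    have hzc : ∀ {γ : G}, (γ = 1 ∨ γ = c.z) → b * γ = γ * b := by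
      rintro γ (rfl | rfl)
      · simp
      · exact c.z_central b (c.W_le_S hQ hb)
    have e2 : a * b * (a * b) = a * a * α * (b * b) := by
      rw [show a * b * (a * b) = a * a * (a⁻¹ * b * a) * b by group, e, hzc hα,
        show a * a * (α * b) * b = a * a * α * (b * b) by group]
    rw [e2]
    exact mul_mem_pair c.zz (mul_mem_pair c.zz iha hα) ihb
  | inv a ha iha =>
    rw [← mul_inv_rev]
    exact inv_mem_pair c.zz iha

theorem z_mem_W : c.z ∈ c.Wsub Q := by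
  obtain ⟨s, hs, hsu⟩ := c.outer
  have h := c.W_inv (c.S_le_loc hQ hs) (c.u_mem_W (Q := Q))
  rw [c.conj_u hs (fun h' => hsu (c.mem_T_iff.1 h').2)] at h
  have := mul_mem (inv_mem (c.u_mem_W (Q := Q))) h
  rwa [inv_mul_cancel_left] at this

/-- `z` is the only central involution of `W`. -/
theorem center_omega {x : G} (hx : x ∈ c.Wsub Q) (hx2 : x * x = 1) (hxc : ∀ w ∈ c.Wsub Q, w * x = x * w) :
    x = 1 ∨ x = c.z := by
  classical
  let E : Subgroup G :=
    { carrier := {x | x ∈ c.Wsub Q ∧ x * x = 1 ∧ ∀ w ∈ c.Wsub Q, w * x = x * w}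
      one_mem' := ⟨one_mem _, one_mul 1, fun y _ => by simp⟩
      mul_mem' := by
        rintro a b ⟨ha, ha2, hac⟩ ⟨hb, hb2, hbc⟩
        refine ⟨mul_mem ha hb, sq_mul_of_comm ha2 hb2 (hac b hb).symm, fun y hy => ?_⟩
        rw [← mul_assoc, hac y hy, mul_assoc, hbc y hy, ← mul_assoc]
      inv_mem' := by
        rintro a ⟨ha, ha2, hac⟩
        rw [show a⁻¹ = a from eq_inv_of_sq ha2]
        exact ⟨ha, ha2, hac⟩ }
  have hES : E ≤ (c.S : Subgroup G) := fun y hy => c.W_le_S hQ hy.1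
  have hEn : ∀ n ∈ c.Loc Q, ∀ y ∈ E, n * y * n⁻¹ ∈ E := by
    rintro n hn y ⟨hy, hy2, hyc⟩
    refine ⟨c.W_inv hn hy, ?_, fun w hw => ?_⟩
    · rw [show n * y * n⁻¹ * (n * y * n⁻¹) = n * (y * y) * n⁻¹ by group, hy2]; group
    · have hw' : n⁻¹ * w * n ∈ c.Wsub Q := by simpa using c.W_inv (inv_mem hn) hw
      calc w * (n * y * n⁻¹) = n * (n⁻¹ * w * n * y) * n⁻¹ := by group
        _ = n * y * n⁻¹ * w := by rw [hyc _ hw']; group
  have hzE : c.z ∈ E := ⟨c.z_mem_W hQ, c.zz, fun w hw => c.z_central w (c.W_le_S hQ hw)⟩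
  have hE4 : Nat.card ↥E ≤ 4 := by
    have h := c.noEight (E.subgroupOf (c.S : Subgroup G))
      ⟨fun y hy s => hEn _ (c.S_le_loc hQ s.2) _ (mem_subgroupOf.1 hy)⟩
      ⟨⟨fun a b => Subtype.ext (Subtype.ext (comm_of_sq (E := E) (fun x hx => hx.2.1) (mem_subgroupOf.1 a.2)
        (mem_subgroupOf.1 b.2)))⟩⟩
      fun y hy => Subtype.ext (by
        show (y : G) ^ 2 = 1
        rw [pow_two]; exact (mem_subgroupOf.1 hy).2.1)
    rwa [Nat.card_congr (subgroupOfEquivOfLe hES).toEquiv] at h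
  by_contra hne
  push Not at hne
  haveI := Fintype.ofFinite ↥E
  have hxz : x * c.z ≠ 1 := fun e => hne.2 (by rw [eq_inv_of_mul_eq_one_left e, eq_inv_of_sq c.zz])
  have hxE : x ∈ E := ⟨hx, hx2, hxc⟩
  have hcard : Nat.card ↥E = 4 := by
    let f : Finset ↥E := {1, ⟨c.z, hzE⟩, ⟨x, hxE⟩, ⟨x * c.z, mul_mem hxE hzE⟩}
    have h4 : x * c.z ≠ c.z := fun e => hne.1 (mul_eq_right.1 e)
    have h5 : x * c.z ≠ x := fun e => c.z_ne (mul_eq_left.1 e)
    have hf : f.card = 4 := by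
      simp [f, Subtype.ext_iff, c.z_ne.symm, hne.1.symm, hne.2.symm, hxz.symm, h4.symm, h5.symm]
    have := f.card_le_univ
    rw [hf, ← Nat.card_eq_fintype_card] at this
    omega
  have houter : ∃ s ∈ (c.S : Subgroup G), s * x ≠ x * s := by
    by_contra h
    push Not at h
    exact hne.2 (c.central_involution (c.W_le_S hQ hx) hx2 hne.1 h)
  let c' : Ctx2 G :=
    { toCtx := { c.toCtx with
        U := E
        U_le := hES
        U_normal := fun s hs v hv => hEn s (c.S_le_loc hQ hs) v hv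
        U_card := hcard
        U_sq := fun v hv => hv.2.1 }
      z := c.z
      u := x
      z_mem := hzE
      u_mem := hxE
      z_ne := c.z_ne
      u_ne := hne.1
      u_ne_z := hne.2
      z_central := c.z_central
      outer := houter }
  exact c'.not_invariant ⟨hQ.le, hQ.normal, hQ.self, hQ.factor, hQ.factorO, hQ.odd_cent, hQ.radical⟩ hEn

/-- A noncommuting pair of `W` splits the core. -/
theorem split {p q : G} (hp : p ∈ c.Wsub Q) (hq : q ∈ c.Wsub Q) (hqp : q * p * q⁻¹ = p * c.z) {x : G}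
    (hx : x ∈ Q) :
    ∃ w, (w = 1 ∨ w = p ∨ w = q ∨ w = p * q) ∧ w * x * p = p * (w * x) ∧ w * x * q = q * (w * x) := by
  obtain ⟨α, hα, ep⟩ := c.conj_W hQ hx hp
  obtain ⟨β, hβ, eq⟩ := c.conj_W hQ hx hq
  have hpS := c.W_le_S hQ hp
  have hqS := c.W_le_S hQ hq
  have hpq : p * q * p⁻¹ = q * c.z := by
    have h1 : q * p = p * c.z * q := mul_inv_eq_iff_eq_mul.1 hqp
    rw [mul_inv_eq_iff_eq_mul, c.z_central q hqS, mul_assoc, h1, ← mul_assoc, ← mul_assoc,
      ← c.z_central p hpS, mul_assoc p c.z c.z, c.zz, mul_one]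
  have hqz : q * c.z * q⁻¹ = c.z := by rw [c.z_central q hqS, mul_inv_cancel_right]
  have hpz : p * c.z * p⁻¹ = c.z := by rw [c.z_central p hpS, mul_inv_cancel_right]
  have key : ∀ w y : G, w * (x * y * x⁻¹) * w⁻¹ = y → w * x * y = y * (w * x) := by
    intro w y h
    refine mul_inv_eq_iff_eq_mul.1 ?_
    rw [show w * x * y * (w * x)⁻¹ = w * (x * y * x⁻¹) * w⁻¹ by group, h]
  rcases hα with rfl | rfl <;> rcases hβ with rfl | rfl
  · exact ⟨1, Or.inl rfl, key _ _ (by rw [ep]; group), key _ _ (by rw [eq]; group)⟩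
  · refine ⟨p, Or.inr (Or.inl rfl), key _ _ (by rw [ep]; group), key _ _ ?_⟩
    rw [eq, show p * (q * c.z) * p⁻¹ = p * q * p⁻¹ * (p * c.z * p⁻¹) by group, hpq, hpz, mul_assoc, c.zz, mul_one]
  · refine ⟨q, Or.inr (Or.inr (Or.inl rfl)), key _ _ ?_, key _ _ (by rw [eq]; group)⟩
    rw [ep, show q * (p * c.z) * q⁻¹ = q * p * q⁻¹ * (q * c.z * q⁻¹) by group, hqp, hqz, mul_assoc, c.zz, mul_one]
  · refine ⟨p * q, Or.inr (Or.inr (Or.inr rfl)), key _ _ ?_, key _ _ ?_⟩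
    · rw [ep, show p * q * (p * c.z) * (p * q)⁻¹ = p * (q * p * q⁻¹ * (q * c.z * q⁻¹)) * p⁻¹ by group, hqp, hqz,
        mul_assoc p c.z c.z, c.zz, mul_one]
      group
    · rw [eq, show p * q * (q * c.z) * (p * q)⁻¹ = p * (q * (q * c.z * q⁻¹)) * p⁻¹ by group, hqz,
        show p * (q * c.z) * p⁻¹ = p * q * p⁻¹ * (p * c.z * p⁻¹) by group, hpq, hpz, mul_assoc, c.zz, mul_one]

end Ctx2

end CfsgLib.NoEightConstrained
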