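/-
The two shapes of the core of the centraliser of `z`.

Blueprint: `blueprint/S3272.md`, part P3.
-/
import Cfsg.Agent.Lib.NoEightConstrained.Shape

set_option autoImplicit false
set_option linter.style.haveILetI false

namespace CfsgLib.NoEightConstrained

open Subgroup

variable {G : Type*} [Group G] [Finite G]

/-- Two elements of square `z` generating a quaternion group. -/
structure QuatPair (z q r : G) : Prop where
  z_sq : z * z = 1
  z_ne : z ≠ 1
  q_sq : q * q = z
  r_sq : r * r = z
  rq : r * q = q * r * z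
  zq : q * z = z * q
  zr : r * z = z * r

namespace QuatPair

variable {z q r : G} (h : QuatPair z q r)
include h

/-- The eight elements. -/
theorem mem_closure {x : G} (hx : x ∈ closure ({q, r} : Set G)) :
    ∃ b e, (b = 1 ∨ b = q ∨ b = r ∨ b = q * r) ∧ (e = 1 ∨ e = z) ∧ x = b * e := by
  have hzqr : z * (q * r) = q * r * z := by rw [← mul_assoc, ← h.zq, mul_assoc, ← h.zr, mul_assoc]
  have step : ∀ g, (g = q ∨ g = r ∨ g = q * z ∨ g = r * z) → ∀ y,
      (∃ b e, (b = 1 ∨ b = q ∨ b = r ∨ b = q * r) ∧ (e = 1 ∨ e = z) ∧ y = b * e) →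
      ∃ b e, (b = 1 ∨ b = q ∨ b = r ∨ b = q * r) ∧ (e = 1 ∨ e = z) ∧ y * g = b * e := by
    rintro g hg _ ⟨b, e, hb, he, rfl⟩
    obtain ⟨g₀, e₀, hg₀, he₀, rfl⟩ : ∃ g₀ e₀, (g₀ = q ∨ g₀ = r) ∧ (e₀ = 1 ∨ e₀ = z) ∧ g = g₀ * e₀ := by
      rcases hg with e' | e' | e' | e'
      · exact ⟨q, 1, Or.inl rfl, Or.inl rfl, by rw [e', mul_one]⟩
      · exact ⟨r, 1, Or.inr rfl, Or.inl rfl, by rw [e', mul_one]⟩
      · exact ⟨q, z, Or.inl rfl, Or.inr rfl, e'⟩
      · exact ⟨r, z, Or.inr rfl, Or.inr rfl, e'⟩
    have heg : e * g₀ = g₀ * e := by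
      rcases he with rfl | rfl
      · simp
      · rcases hg₀ with e' | e' <;> rw [e']
        exacts [h.zq.symm, h.zr.symm]
    suffices ∃ b' e', (b' = 1 ∨ b' = q ∨ b' = r ∨ b' = q * r) ∧ (e' = 1 ∨ e' = z) ∧ b * g₀ = b' * e' by
      obtain ⟨b', e', hb', he', hbe⟩ := this
      refine ⟨b', e' * (e * e₀), hb', mul_mem_pair h.z_sq he' (mul_mem_pair h.z_sq he he₀), ?_⟩
      rw [show b * e * (g₀ * e₀) = b * (e * g₀) * e₀ by group, heg,
        show b * (g₀ * e) * e₀ = b * g₀ * (e * e₀) by group, hbe, mul_assoc]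
    rcases hg₀ with e' | e' <;> rcases hb with eb | eb | eb | eb <;> rw [e', eb]
    · exact ⟨q, 1, Or.inr (Or.inl rfl), Or.inl rfl, by simp⟩
    · exact ⟨1, z, Or.inl rfl, Or.inr rfl, by rw [h.q_sq, one_mul]⟩
    · exact ⟨q * r, z, Or.inr (Or.inr (Or.inr rfl)), Or.inr rfl, h.rq⟩
    · refine ⟨r, 1, Or.inr (Or.inr (Or.inl rfl)), Or.inl rfl, ?_⟩
      rw [mul_assoc, h.rq, ← mul_assoc, ← mul_assoc, h.q_sq, mul_assoc, h.zr, ← mul_assoc, h.z_sq, one_mul, mul_one]
    · exact ⟨r, 1, Or.inr (Or.inr (Or.inl rfl)), Or.inl rfl, by simp⟩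
    · exact ⟨q * r, 1, Or.inr (Or.inr (Or.inr rfl)), Or.inl rfl, by simp⟩
    · exact ⟨1, z, Or.inl rfl, Or.inr rfl, by rw [h.r_sq, one_mul]⟩
    · exact ⟨q, z, Or.inr (Or.inl rfl), Or.inr rfl, by rw [mul_assoc, h.r_sq]⟩
  induction hx using closure_induction_right with
  | one => exact ⟨1, 1, Or.inl rfl, Or.inl rfl, by simp⟩
  | mul_right y hy g hg ih =>
    refine step g ?_ y ih
    rcases hg with e | e
    exacts [Or.inl e, Or.inr (Or.inl e)]
  | mul_inv_cancel y hy g hg ih =>
    refine step g⁻¹ ?_ y ih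
    have hq : q⁻¹ = q * z := inv_eq_of_mul_eq_one_right (by rw [← mul_assoc, h.q_sq, h.z_sq])
    have hr : r⁻¹ = r * z := inv_eq_of_mul_eq_one_right (by rw [← mul_assoc, h.r_sq, h.z_sq])
    rcases hg with e | e
    · exact Or.inr (Or.inr (Or.inl (by rw [e, hq])))
    · exact Or.inr (Or.inr (Or.inr (by rw [Set.mem_singleton_iff.1 e, hr])))

/-- The only involution is `z`. -/
theorem involution {x : G} (hx : x ∈ closure ({q, r} : Set G)) (hx2 : x * x = 1) : x = 1 ∨ x = z := by
  obtain ⟨b, e, hb, he, rfl⟩ := h.mem_closure hx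
  have hbe : e * b = b * e := by
    rcases he with rfl | rfl
    · simp
    · rcases hb with rfl | rfl | rfl | rfl
      · simp
      · exact h.zq.symm
      · exact h.zr.symm
      · rw [← mul_assoc, ← h.zq, mul_assoc, ← h.zr, mul_assoc]
  have he2 : e * e = 1 := by rcases he with rfl | rfl <;> simp [h.z_sq]
  have hb2 : b * b = 1 := by
    rwa [show b * e * (b * e) = b * (e * b) * e by group, hbe, show b * (b * e) * e = b * b * (e * e) by group,
      he2, mul_one] at hx2
  rcases hb with rfl | rfl | rfl | rfl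
  · rw [one_mul]; exact he
  · rw [h.q_sq] at hb2; exact absurd hb2 h.z_ne
  · rw [h.r_sq] at hb2; exact absurd hb2 h.z_ne
  · rw [show q * r * (q * r) = q * (r * q) * r by group, h.rq, show q * (q * r * z) * r = q * q * r * (z * r) by group,
      ← h.zr, h.q_sq, show z * r * (r * z) = z * (r * r) * z by group, h.r_sq, h.z_sq, one_mul] at hb2
    exact absurd hb2 h.z_ne

end QuatPair

namespace Ctx2

variable (c : Ctx2 G)

/-- The quaternion shape of the core. -/
structure QuatShape (Q : Subgroup G) (q r l : G) : Prop where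
  pair : QuatPair c.z q r
  q_mem : q ∈ Q
  r_mem : r ∈ Q
  l_mem : l ∈ Q
  l_sq : l * l = c.z
  lq : l * q = q * l
  lr : l * r = r * l
  u_eq : c.u = q * l
  inv : ∀ n ∈ c.Loc Q, ∀ x ∈ closure ({q, r} : Set G), n * x * n⁻¹ ∈ closure ({q, r} : Set G)
  l_inv : ∀ n ∈ c.Loc Q, n * l * n⁻¹ = l ∨ n * l * n⁻¹ = l * c.z
  dec : ∀ x ∈ Q, ∃ w ∈ closure ({q, r} : Set G), w * x * q = q * (w * x) ∧ w * x * r = r * (w * x)

/-- The extraspecial shape of the core. -/
structure ExtraShape (Q : Subgroup G) (v a b : G) : Prop where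
  v_mem : v ∈ Q
  a_mem : a ∈ Q
  b_mem : b ∈ Q
  v_sq : v * v = 1
  a_sq : a * a = 1 ∨ a * a = c.z
  b_sq : b * b = 1 ∨ b * b = c.z
  vu : v * c.u * v⁻¹ = c.u * c.z
  ab : b * a * b⁻¹ = a * c.z
  au : a * c.u = c.u * a
  av : a * v = v * a
  bu : b * c.u = c.u * b
  bv : b * v = v * b
  self : ∀ x ∈ (c.S : Subgroup G), x * c.u = c.u * x → x * v = v * x → x * a = a * x → x * b = b * x →
    x = 1 ∨ x = c.z
  dec : ∀ x ∈ Q, ∃ w w', (w = 1 ∨ w = c.u ∨ w = v ∨ w = c.u * v) ∧ (w' = 1 ∨ w' = a ∨ w' = b ∨ w' = a * b) ∧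
    (w' * (w * x) = 1 ∨ w' * (w * x) = c.z)

/-- A section over `⟨z⟩` of exponent two has order at most 16. -/
theorem card_mod_z_le {K : Subgroup G} (hK : K ≤ (c.S : Subgroup G)) (hz : c.z ∈ K)
    (hsq : ∀ x ∈ K, x * x = 1 ∨ x * x = c.z) : Nat.card ↥K ≤ 32 := by
  set S : Subgroup G := (c.S : Subgroup G) with hS
  set H : Subgroup ↥S := K.subgroupOf S with hH
  set zH : ↥H := ⟨⟨c.z, c.zS⟩, hz⟩ with hzH
  have hcent : ∀ g : ↥H, g * zH = zH * g := fun g => Subtype.ext (Subtype.ext (c.z_central _ (g : ↥S).2))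
  haveI hN : (zpowers zH).Normal := by
    refine ⟨fun x hx g => ?_⟩
    obtain ⟨k, rfl⟩ := mem_zpowers_iff.1 hx
    rw [(show Commute g zH from hcent g).zpow_right k |>.eq, mul_inv_cancel_right]
    exact zpow_mem (mem_zpowers zH) k
  have hexp : ∀ g : ↥H, g ^ 2 ∈ zpowers zH := fun g => by
    rcases hsq _ (mem_subgroupOf.1 g.2) with e | e
    · rw [show g ^ 2 = 1 from Subtype.ext (Subtype.ext (by
        show ((g : ↥S) : G) ^ 2 = 1
        rw [pow_two]; exact e))]
      exact one_mem _
    · rw [show g ^ 2 = zH from Subtype.ext (Subtype.ext (by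
        show ((g : ↥S) : G) ^ 2 = c.z
        rw [pow_two]; exact e))]
      exact mem_zpowers zH
  have hq : ∀ a : ↥H ⧸ zpowers zH, a * a = 1 := by
    intro a
    obtain ⟨g, rfl⟩ := QuotientGroup.mk'_surjective _ a
    rw [← map_mul, ← pow_two]
    exact (QuotientGroup.eq_one_iff _).2 (hexp g)
  have h16 := MacWilliams.sectional_rank_le_four c.two_group c.noEight H (zpowers zH) ⊤
    ⟨⟨fun a b => Subtype.ext (comm_of_sq (E := (⊤ : Subgroup (↥H ⧸ zpowers zH))) (fun x _ => hq x)
      (mem_top a.1) (mem_top b.1))⟩⟩ (fun a _ => by rw [pow_two]; exact hq a)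
  rw [card_top] at h16
  have hz2 : Nat.card ↥(zpowers zH) ≤ 2 := by
    rw [Nat.card_zpowers]
    exact Nat.le_of_dvd (by norm_num) (orderOf_dvd_of_pow_eq_one (Subtype.ext (Subtype.ext (by
      show c.z ^ 2 = 1
      rw [pow_two]; exact c.zz))))
  calc Nat.card ↥K = Nat.card ↥H := (Nat.card_congr (subgroupOfEquivOfLe hK).toEquiv).symm
    _ = Nat.card (↥H ⧸ zpowers zH) * Nat.card ↥(zpowers zH) := card_eq_card_quotient_mul_card_subgroup _
    _ ≤ 2 ^ 4 * 2 := Nat.mul_le_mul (by simpa using h16) hz2
    _ = 32 := by norm_num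

variable {Q : Subgroup G} (hQ : c.Core c.z Q)
include hQ

/-- The core has the quaternion or the extraspecial shape. -/
theorem shape : (∃ q r l, c.QuatShape Q q r l) ∨ ∃ v a b, c.ExtraShape Q v a b := by
  classical
  set W := c.Wsub Q with hW
  have huW : c.u ∈ W := c.u_mem_W
  have hzW : c.z ∈ W := c.z_mem_W hQ
  have hWS : W ≤ (c.S : Subgroup G) := c.W_le_S hQ
  have hWQ : W ≤ Q := c.W_le hQ
  have hzc : ∀ w ∈ W, w * c.z = c.z * w := fun w hw => c.z_central w (hWS hw)
  have hnc : ∀ x ∈ W, ∀ y ∈ W, x * y ≠ y * x → x * y * x⁻¹ = y * c.z := by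
    intro x hx y hy hne
    obtain ⟨α, hα, e⟩ := c.conj_W hQ (hWQ hx) hy
    rcases hα with rfl | rfl
    · rw [mul_one, mul_inv_eq_iff_eq_mul] at e; exact absurd e hne
    · exact e
  -- a conjugate `v` of `u` not commuting with `u`
  obtain ⟨v, hvgen, hvu⟩ : ∃ v, (∃ n ∈ c.Loc Q, v = n * c.u * n⁻¹) ∧ v * c.u ≠ c.u * v := by
    by_contra h
    push Not at h
    have hle : W ≤ centralizer ({c.u} : Set G) := (closure_le _).2 fun x hx =>
      mem_centralizer_singleton_iff.2 (h x hx)
    rcases c.center_omega hQ huW c.uu fun w hw => mem_centralizer_singleton_iff.1 (hle hw) with e | e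
    · exact c.u_ne e
    · exact c.u_ne_z e
  have hvW : v ∈ W := subset_closure hvgen
  have hvv : v * v = 1 := by
    obtain ⟨n, -, rfl⟩ := hvgen
    rw [show n * c.u * n⁻¹ * (n * c.u * n⁻¹) = n * (c.u * c.u) * n⁻¹ by group, c.uu]; group
  have hvu' : v * c.u * v⁻¹ = c.u * c.z := hnc v hvW c.u huW hvu
  have hvu2 : v * c.u = c.u * c.z * v := mul_inv_eq_iff_eq_mul.1 hvu'
  have huv2 : c.u * v * (c.u * v) = c.z := by
    rw [show c.u * v * (c.u * v) = c.u * (v * c.u) * v by group, hvu2,
      show c.u * (c.u * c.z * v) * v = c.u * c.u * c.z * (v * v) by group, c.uu, hvv, one_mul, mul_one]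
  have hsplit := fun x (hx : x ∈ Q) => c.split hQ huW hvW hvu' hx
  by_cases hcase : ∀ x ∈ W, x * c.u = c.u * x → x * v = v * x → ∀ w ∈ W, w * x = x * w
  · have hdecW : ∀ x ∈ W, ∃ w, (w = 1 ∨ w = c.u ∨ w = v ∨ w = c.u * v) ∧ ∀ y ∈ W, y * (w * x) = w * x * y := by
      intro x hx
      obtain ⟨w, hw, h1, h2⟩ := hsplit x (hWQ hx)
      have hwW : w ∈ W := by
        rcases hw with rfl | rfl | rfl | rfl
        exacts [one_mem _, huW, hvW, mul_mem huW hvW]
      exact ⟨w, hw, hcase _ (mul_mem hwW hx) h1 h2⟩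
    by_cases hl : ∃ l ∈ W, (∀ w ∈ W, w * l = l * w) ∧ l * l = c.z
    · -- quaternion
      obtain ⟨l, hlW, hlc, hll⟩ := hl
      left
      set q := c.u * (l * c.z) with hq
      set r := v * (l * c.z) with hr
      have hlz : l * c.z * (l * c.z) = c.z := by
        rw [show l * c.z * (l * c.z) = l * (c.z * l) * c.z by group, ← hzc l hlW,
          show l * (l * c.z) * c.z = l * l * (c.z * c.z) by group, hll, c.zz, mul_one]
      have hlzc : ∀ w ∈ W, w * (l * c.z) = l * c.z * w := fun w hw => by
        rw [← mul_assoc, hlc w hw, mul_assoc, hzc w hw, ← mul_assoc]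
      have hsqw : ∀ w ∈ W, w * w = 1 → w * (l * c.z) * (w * (l * c.z)) = c.z := fun w hw h => by
        rw [show w * (l * c.z) * (w * (l * c.z)) = w * (l * c.z * w) * (l * c.z) by group, ← hlzc w hw,
          show w * (w * (l * c.z)) * (l * c.z) = w * w * (l * c.z * (l * c.z)) by group, h, hlz, one_mul]
      have hqW : q ∈ W := mul_mem huW (mul_mem hlW hzW)
      have hrW : r ∈ W := mul_mem hvW (mul_mem hlW hzW)
      have hqr : q * r = c.u * v * c.z := by
        rw [hq, hr, show c.u * (l * c.z) * (v * (l * c.z)) = c.u * (l * c.z * v) * (l * c.z) by group, ← hlzc v hvW,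
          show c.u * (v * (l * c.z)) * (l * c.z) = c.u * v * (l * c.z * (l * c.z)) by group, hlz]
      have hpair : QuatPair c.z q r := by
        refine ⟨c.zz, c.z_ne, hsqw _ huW c.uu, hsqw _ hvW hvv, ?_, hzc q hqW, hzc r hrW⟩
        rw [hqr, mul_assoc (c.u * v), c.zz, mul_one, hr, hq,
          show v * (l * c.z) * (c.u * (l * c.z)) = v * (l * c.z * c.u) * (l * c.z) by group, ← hlzc _ huW,
          show v * (c.u * (l * c.z)) * (l * c.z) = v * c.u * (l * c.z * (l * c.z)) by group, hvu2, hlz,
          mul_assoc (c.u * c.z) v c.z, hzc v hvW, ← mul_assoc, mul_assoc c.u c.z c.z, c.zz, mul_one]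
      have hqc : l * q = q * l := (hlc q hqW).symm
      have hX : ∀ y ∈ W, y * y = c.z → (∃ w ∈ W, w * y ≠ y * w) → y ∈ closure ({q, r} : Set G) := by
        intro y hy hyz ⟨w₁, hw₁, hne⟩
        obtain ⟨w, hw, hcen⟩ := hdecW y hy
        have hqm : q ∈ closure ({q, r} : Set G) := subset_closure (by simp)
        have hrm : r ∈ closure ({q, r} : Set G) := subset_closure (by simp)
        have hzm : c.z ∈ closure ({q, r} : Set G) := hpair.q_sq ▸ mul_mem hqm hqm
        rcases hw with hw1 | hw'
        · rw [hw1, one_mul] at hcen; exact absurd (hcen w₁ hw₁) hne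
        have hwW : w ∈ W := by
          rcases hw' with h | h | h <;> rw [h]
          exacts [huW, hvW, mul_mem huW hvW]
        set e := w * y with he
        have heW : e ∈ W := mul_mem hwW hy
        have hy' : y = w⁻¹ * e := by rw [he]; group
        have hwe : w⁻¹ * e = e * w⁻¹ := hcen _ (inv_mem hwW)
        have hyy : w⁻¹ * w⁻¹ * (e * e) = c.z := by
          rw [← hyz, hy', show w⁻¹ * e * (w⁻¹ * e) = w⁻¹ * (e * w⁻¹) * e by group, ← hwe]; group
        have hecl : e * e = 1 ∨ e * e = c.z := c.sq_W hQ heW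
        have hel : e = 1 ∨ e = c.z ∨ e = l ∨ e = l * c.z := by
          rcases hecl with h | h
          · rcases c.center_omega hQ heW h hcen with h' | h'
            exacts [Or.inl h', Or.inr (Or.inl h')]
          · have h2 : e * l⁻¹ * (e * l⁻¹) = 1 := by
              rw [show e * l⁻¹ * (e * l⁻¹) = e * (l⁻¹ * e) * l⁻¹ by group, hcen _ (inv_mem hlW),
                show e * (e * l⁻¹) * l⁻¹ = e * e * (l * l)⁻¹ by group, h, hll, mul_inv_cancel]
            have hc2 : ∀ y ∈ W, y * (e * l⁻¹) = e * l⁻¹ * y := fun y hy => by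
              have hli : y * l⁻¹ = l⁻¹ * y := (show Commute y l from hlc y hy).inv_right.eq
              rw [← mul_assoc, hcen y hy, mul_assoc, hli, ← mul_assoc]
            rcases c.center_omega hQ (mul_mem heW (inv_mem hlW)) h2 hc2 with h' | h'
            · exact Or.inr (Or.inr (Or.inl (mul_inv_eq_one.1 h')))
            · refine Or.inr (Or.inr (Or.inr ?_))
              rw [mul_inv_eq_iff_eq_mul] at h'
              rw [h', hzc l hlW]
        have hzne : (c.z : G) ≠ 1 := c.z_ne
        rcases hw' with hw1 | hw1 | hw1 <;> rw [hw1] at hyy hy'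
        · rw [eq_inv_of_sq c.uu, c.uu, one_mul] at hyy
          rw [hy', eq_inv_of_sq c.uu]
          rcases hel with h | h | h | h <;> rw [h] at hyy ⊢
          · rw [one_mul] at hyy; exact absurd hyy.symm hzne
          · rw [c.zz] at hyy; exact absurd hyy.symm hzne
          · rw [show c.u * l = q * c.z by rw [hq, mul_assoc, mul_assoc, c.zz, mul_one]]; exact mul_mem hqm hzm
          · exact hqm
        · rw [eq_inv_of_sq hvv, hvv, one_mul] at hyy
          rw [hy', eq_inv_of_sq hvv]
          rcases hel with h | h | h | h <;> rw [h] at hyy ⊢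
          · rw [one_mul] at hyy; exact absurd hyy.symm hzne
          · rw [c.zz] at hyy; exact absurd hyy.symm hzne
          · rw [show v * l = r * c.z by rw [hr, mul_assoc, mul_assoc, c.zz, mul_one]]; exact mul_mem hrm hzm
          · exact hrm
        · have hi : (c.u * v)⁻¹ = q * r := by
            rw [hqr]
            refine inv_eq_of_mul_eq_one_right ?_
            rw [← mul_assoc, huv2, c.zz]
          have hii : (c.u * v)⁻¹ * (c.u * v)⁻¹ = c.z := by rw [← mul_inv_rev, huv2, eq_inv_of_sq c.zz]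
          rw [hii] at hyy
          rw [hy', hi]
          rcases hel with h | h | h | h <;> rw [h] at hyy ⊢
          · exact mul_mem (mul_mem hqm hrm) (one_mem _)
          · exact mul_mem (mul_mem hqm hrm) hzm
          · rw [hll, c.zz] at hyy; exact absurd hyy.symm hzne
          · rw [hlz, c.zz] at hyy; exact absurd hyy.symm hzne
      refine ⟨q, r, l, hpair, hWQ hqW, hWQ hrW, hWQ hlW, hll, hqc, (hlc r hrW).symm, ?_, ?_, ?_, ?_⟩
      · rw [hq, show c.u * (l * c.z) * l = c.u * (l * c.z * l) by group, ← hlzc l hlW,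
          show c.u * (l * (l * c.z)) = c.u * (l * l * c.z) by group, hll, c.zz, mul_one]
      · intro n hn x hx
        have hgen : ∀ y ∈ ({q, r} : Set G), n * y * n⁻¹ ∈ closure ({q, r} : Set G) := by
          intro y hy
          have hyW : y ∈ W := by rcases hy with rfl | rfl <;> assumption
          have hyz : y * y = c.z := by rcases hy with rfl | rfl; exacts [hpair.q_sq, hpair.r_sq]
          refine hX _ (c.W_inv hn hyW) ?_ ?_
          · rw [show n * y * n⁻¹ * (n * y * n⁻¹) = n * (y * y) * n⁻¹ by group, hyz, c.loc_z hn]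
          · obtain ⟨y', hy'W, hne⟩ : ∃ y' ∈ W, y' * y ≠ y * y' := by
              have hne : r * q ≠ q * r := fun e => c.z_ne (mul_eq_left.1 (e.symm.trans hpair.rq).symm)
              rcases hy with rfl | rfl
              exacts [⟨r, hrW, hne⟩, ⟨q, hqW, fun e => hne e.symm⟩]
            refine ⟨n * y' * n⁻¹, c.W_inv hn hy'W, fun e => hne ?_⟩
            rw [show n * y' * n⁻¹ * (n * y * n⁻¹) = n * (y' * y) * n⁻¹ by group,
              show n * y * n⁻¹ * (n * y' * n⁻¹) = n * (y * y') * n⁻¹ by group] at e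
            exact mul_left_cancel (mul_right_cancel e)
        have hle : closure ({q, r} : Set G) ≤ (closure ({q, r} : Set G)).comap (MulAut.conj n).toMonoidHom :=
          (closure_le _).2 hgen
        exact hle hx
      · intro n hn
        have h2 : n * l * n⁻¹ * l⁻¹ * (n * l * n⁻¹ * l⁻¹) = 1 := by
          have hc : l⁻¹ * (n * l * n⁻¹) = n * l * n⁻¹ * l⁻¹ :=
            (show Commute (n * l * n⁻¹) l from hlc _ (c.W_inv hn hlW)).symm.inv_left.eq
          rw [show n * l * n⁻¹ * l⁻¹ * (n * l * n⁻¹ * l⁻¹) = n * l * n⁻¹ * (l⁻¹ * (n * l * n⁻¹)) * l⁻¹ by group, hc,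
            show n * l * n⁻¹ * (n * l * n⁻¹ * l⁻¹) * l⁻¹ = n * (l * l) * n⁻¹ * (l * l)⁻¹ by group, hll, c.loc_z hn,
            mul_inv_cancel]
        have hc2 : ∀ y ∈ W, y * (n * l * n⁻¹ * l⁻¹) = n * l * n⁻¹ * l⁻¹ * y := by
          intro y hy
          have hy' : n⁻¹ * y * n ∈ W := by simpa using c.W_inv (inv_mem hn) hy
          have h1 : y * (n * l * n⁻¹) = n * l * n⁻¹ * y := by
            calc y * (n * l * n⁻¹) = n * (n⁻¹ * y * n * l) * n⁻¹ := by group
              _ = n * l * n⁻¹ * y := by rw [hlc _ hy']; group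
          rw [← mul_assoc, h1, mul_assoc, (show Commute y l from hlc y hy).inv_right.eq, ← mul_assoc]
        rcases c.center_omega hQ (mul_mem (c.W_inv hn hlW) (inv_mem hlW)) h2 hc2 with h | h
        · exact Or.inl (mul_inv_eq_one.1 h)
        · exact Or.inr (by rw [mul_inv_eq_iff_eq_mul.1 h, hzc l hlW])
      · intro x hx
        have hrq' : r * q * r⁻¹ = q * c.z := by
          rw [hpair.rq, mul_assoc q r c.z, hpair.zr, ← mul_assoc, mul_inv_cancel_right]
        obtain ⟨w, hw, h1, h2⟩ := c.split hQ hqW hrW hrq' hx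
        refine ⟨w, ?_, h1, h2⟩
        have hqm : q ∈ closure ({q, r} : Set G) := subset_closure (by simp)
        have hrm : r ∈ closure ({q, r} : Set G) := subset_closure (by simp)
        rcases hw with rfl | rfl | rfl | rfl
        exacts [one_mem _, hqm, hrm, mul_mem hqm hrm]
    · -- dihedral: impossible
      exfalso
      push Not at hl
      have hcen : ∀ e ∈ W, (∀ w ∈ W, w * e = e * w) → e = 1 ∨ e = c.z := fun e he hec => by
        rcases c.sq_W hQ he with h | h
        · exact c.center_omega hQ he h hec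
        · exact absurd h (hl e he hec)
      have hlist : ∀ x ∈ W, x * x = 1 → x ≠ 1 → x ≠ c.z →
          (x = c.u ∨ x = c.u * c.z) ∨ (x = v ∨ x = v * c.z) := by
        intro x hx hx2 hx1 hxz
        obtain ⟨w, hw, hc⟩ := hdecW x hx
        rcases hw with rfl | rfl | rfl | rfl
        · rw [one_mul] at hc; rcases hcen x hx hc with h | h
          exacts [absurd h hx1, absurd h hxz]
        · rcases hcen _ (mul_mem huW hx) hc with h | h
          · left; left; rw [eq_inv_of_mul_eq_one_right h, eq_inv_of_sq c.uu]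
          · left; right; rw [← h, ← mul_assoc, c.uu, one_mul]
        · rcases hcen _ (mul_mem hvW hx) hc with h | h
          · right; left; rw [eq_inv_of_mul_eq_one_right h, eq_inv_of_sq hvv]
          · right; right; rw [← h, ← mul_assoc, hvv, one_mul]
        · exfalso
          have hzuv : c.u * v * c.z = c.z * (c.u * v) := hzc _ (mul_mem huW hvW)
          rcases hcen _ (mul_mem (mul_mem huW hvW) hx) hc with h | h
          · rw [eq_inv_of_mul_eq_one_right h, ← mul_inv_rev, huv2, eq_inv_of_sq c.zz] at hx2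
            exact c.z_ne hx2
          · have hx' : x = (c.u * v)⁻¹ * c.z := by rw [← h]; group
            rw [hx', show (c.u * v)⁻¹ * c.z * ((c.u * v)⁻¹ * c.z) =
              (c.u * v)⁻¹ * (c.z * (c.u * v)⁻¹) * c.z by group,
              ← (show Commute (c.u * v) c.z from hzuv).inv_left.eq,
              show (c.u * v)⁻¹ * ((c.u * v)⁻¹ * c.z) * c.z = (c.u * v * (c.u * v))⁻¹ * (c.z * c.z) by group,
              huv2, c.zz, mul_one, eq_inv_of_sq c.zz] at hx2
            exact c.z_ne hx2
      have himg : ∀ n ∈ c.Loc Q, ∀ x ∈ W, x * x = 1 → x ≠ 1 → x ≠ c.z →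
          (n * x * n⁻¹ = c.u ∨ n * x * n⁻¹ = c.u * c.z) ∨ (n * x * n⁻¹ = v ∨ n * x * n⁻¹ = v * c.z) := by
        intro n hn x hx hx2 hx1 hxz
        refine hlist _ (c.W_inv hn hx) ?_ (fun e => hx1 (conj_eq_one_iff.1 e)) fun e => hxz ?_
        · rw [show n * x * n⁻¹ * (n * x * n⁻¹) = n * (x * x) * n⁻¹ by group, hx2]; group
        · rw [← c.loc_z hn] at e
          exact mul_left_cancel (mul_right_cancel e)
      let D : Subgroup G :=
        { carrier := {n | n ∈ c.Loc Q ∧ ∀ w ∈ c.U, n * w * n⁻¹ ∈ c.U}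
          one_mem' := ⟨one_mem _, fun w hw => by simpa using hw⟩
          mul_mem' := by
            rintro a b ⟨ha, ha'⟩ ⟨hb, hb'⟩
            refine ⟨mul_mem ha hb, fun w hw => ?_⟩
            rw [show a * b * w * (a * b)⁻¹ = a * (b * w * b⁻¹) * a⁻¹ by group]
            exact ha' _ (hb' w hw)
          inv_mem' := by
            rintro a ⟨ha, ha'⟩
            refine ⟨inv_mem ha, fun w hw => ?_⟩
            have hle : c.U.map (MulAut.conj a).toMonoidHom ≤ c.U := by
              rintro _ ⟨y, hy, rfl⟩; exact ha' y hy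
            have heq := eq_of_le_of_card_ge hle (card_map_of_injective (MulEquiv.injective _)).ge
            rw [← heq] at hw
            obtain ⟨y, hy, rfl⟩ := hw
            simpa [mul_assoc] using hy }
      have hfix : ∀ n ∈ c.Loc Q, (n * c.u * n⁻¹ = c.u ∨ n * c.u * n⁻¹ = c.u * c.z) → n ∈ D := by
        intro n hn h
        refine ⟨hn, fun w hw => ?_⟩
        have hnu : n * c.u * n⁻¹ ∈ c.U := by
          rcases h with h | h <;> rw [h]
          exacts [c.u_mem, mul_mem c.u_mem c.z_mem]
        rcases c.mem_U.1 hw with rfl | rfl | rfl | rfl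
        · simp
        · rw [c.loc_z hn]; exact c.z_mem
        · exact hnu
        · rw [show n * (c.u * c.z) * n⁻¹ = n * c.u * n⁻¹ * (n * c.z * n⁻¹) by group, c.loc_z hn]
          exact mul_mem hnu c.z_mem
      refine c.not_invariant hQ fun n hn => (c.loc_le (D := D) ?_ (c.S_le_loc hQ) ?_ hn).2
      · exact fun s hs => ⟨c.S_le_loc hQ hs, fun w hw => c.U_normal s hs w hw⟩
      · intro m hm
        refine hfix _ (mul_mem hm hm) ?_
        have hv1 : v ≠ 1 := fun e => hvu (by simp [e])
        have hvz : v ≠ c.z := fun e => hvu (by rw [e, hzc _ huW])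
        rw [show m * m * c.u * (m * m)⁻¹ = m * (m * c.u * m⁻¹) * m⁻¹ by group]
        rcases himg m hm c.u huW c.uu c.u_ne c.u_ne_z with (h | h) | h
        · rw [h]; exact Or.inl h
        · rw [h, show m * (c.u * c.z) * m⁻¹ = m * c.u * m⁻¹ * (m * c.z * m⁻¹) by group, h, c.loc_z hm,
            mul_assoc, c.zz, mul_one]
          exact Or.inl rfl
        · rcases himg m hm v hvW hvv hv1 hvz with h' | h'
          · rcases h with h | h <;> rw [h]
            · exact h'
            · rw [show m * (v * c.z) * m⁻¹ = m * v * m⁻¹ * (m * c.z * m⁻¹) by group, c.loc_z hm]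
              rcases h' with h' | h' <;> rw [h']
              · exact Or.inr rfl
              · exact Or.inl (by rw [mul_assoc, c.zz, mul_one])
          · exfalso
            refine hvu ?_
            have hvv' : m * v * m⁻¹ = m * c.u * m⁻¹ ∨ m * v * m⁻¹ = m * (c.u * c.z) * m⁻¹ := by
              rw [show m * (c.u * c.z) * m⁻¹ = m * c.u * m⁻¹ * (m * c.z * m⁻¹) by group, c.loc_z hm]
              rcases h with h | h <;> rcases h' with h' | h' <;> rw [h, h']
              · exact Or.inl rfl
              · exact Or.inr rfl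
              · exact Or.inr (by rw [mul_assoc, c.zz, mul_one])
              · exact Or.inl rfl
            rcases hvv' with e | e
            · rw [mul_left_cancel (mul_right_cancel e)]
            · rw [mul_left_cancel (mul_right_cancel e), mul_assoc, ← hzc _ huW]
  · -- extraspecial
    right
    push Not at hcase
    obtain ⟨a, haW, hau, hav, b₀, hb₀W, hb₀a⟩ := hcase
    obtain ⟨w₀, hw₀, hb1, hb2⟩ := hsplit b₀ (hWQ hb₀W)
    have hw₀W : w₀ ∈ W := by
      rcases hw₀ with rfl | rfl | rfl | rfl
      exacts [one_mem _, huW, hvW, mul_mem huW hvW]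
    set b := w₀ * b₀ with hb
    have hbW : b ∈ W := mul_mem hw₀W hb₀W
    have hw₀a : w₀ * a = a * w₀ := by
      rcases hw₀ with rfl | rfl | rfl | rfl
      · simp
      · exact hau.symm
      · exact hav.symm
      · rw [mul_assoc, ← hav, ← mul_assoc, ← hau, mul_assoc]
    have hba : b * a ≠ a * b := by
      intro e
      refine hb₀a ?_
      rw [hb, ← mul_assoc a w₀ b₀, ← hw₀a, mul_assoc, mul_assoc] at e
      exact mul_left_cancel e
    have hab : b * a * b⁻¹ = a * c.z := hnc b hbW a haW hba
    have hself : ∀ x ∈ (c.S : Subgroup G), x * c.u = c.u * x → x * v = v * x → x * a = a * x → x * b = b * x →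
        x = 1 ∨ x = c.z := by
      have base : ∀ x ∈ (c.S : Subgroup G), x * c.u = c.u * x → x * v = v * x → x * a = a * x → x * b = b * x →
          (x * x = 1 ∨ x * x = c.z) → x = 1 ∨ x = c.z := by
        intro x hxS hxu hxv hxa hxb hx2
        by_contra hne
        push Not at hne
        -- the subgroup generated by `W` and `x`
        let g : ℕ → Subgroup G := fun k => match k with
          | 0 => zpowers c.z
          | 1 => closure {c.z, x}
          | 2 => closure {c.z, x, a}
          | 3 => closure {c.z, x, a, b}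
          | 4 => closure {c.z, x, a, b, c.u}
          | _ => closure {c.z, x, a, b, c.u, v}
        set K := g 5 with hK
        have hKS : K ≤ (c.S : Subgroup G) := by
          refine (closure_le _).2 ?_
          rintro y (rfl | rfl | rfl | rfl | rfl | rfl)
          exacts [c.zS, hxS, hWS haW, hWS hbW, c.uS, hWS hvW]
        have hzK : c.z ∈ K := subset_closure (by simp)
        -- commutators in `⟨z⟩`
        have hcomm : ∀ y ∈ ({c.z, x, a, b, c.u, v} : Set G), ∀ w ∈ ({c.z, x, a, b, c.u, v} : Set G),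
            ∃ α, (α = 1 ∨ α = c.z) ∧ w * y * w⁻¹ = y * α := by
          intro y hy w hw
          have hWy : ∀ t ∈ ({c.z, a, b, c.u, v} : Set G), t ∈ W := by
            rintro t (rfl | rfl | rfl | rfl | rfl)
            exacts [hzW, haW, hbW, huW, hvW]
          have hxt : ∀ t ∈ ({c.z, a, b, c.u, v} : Set G), x * t = t * x := by
            rintro t (rfl | rfl | rfl | rfl | rfl)
            exacts [c.z_central x hxS, hxa, hxb, hxu, hxv]
          by_cases hyx : y = x
          · subst hyx
            refine ⟨1, Or.inl rfl, ?_⟩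
            by_cases hwx : w = y
            · subst hwx; group
            · rw [← hxt w (by simp only [Set.mem_insert_iff, Set.mem_singleton_iff] at hw ⊢; tauto),
                mul_inv_cancel_right, mul_one]
          · have hy' : y ∈ ({c.z, a, b, c.u, v} : Set G) := by
              simp only [Set.mem_insert_iff, Set.mem_singleton_iff] at hy ⊢; tauto
            by_cases hwx : w = x
            · subst hwx
              exact ⟨1, Or.inl rfl, by rw [hxt y hy', mul_inv_cancel_right, mul_one]⟩
            · have hw' : w ∈ ({c.z, a, b, c.u, v} : Set G) := by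
                simp only [Set.mem_insert_iff, Set.mem_singleton_iff] at hw ⊢; tauto
              exact c.conj_W hQ (hWQ (hWy w hw')) (hWy y hy')
        have hsqK : ∀ y ∈ K, (y * y = 1 ∨ y * y = c.z) ∧
            ∀ w ∈ ({c.z, x, a, b, c.u, v} : Set G), ∃ α, (α = 1 ∨ α = c.z) ∧ w * y * w⁻¹ = y * α := by
          intro y hy
          induction hy using closure_induction_right with
          | one => exact ⟨Or.inl (one_mul 1), fun w _ => ⟨1, Or.inl rfl, by group⟩⟩
          | mul_right y hy t ht ih =>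
            have htS : t ∈ (c.S : Subgroup G) := hKS (subset_closure ht)
            obtain ⟨α, hα, e⟩ := ih.2 t ht
            refine ⟨?_, fun w hw => ?_⟩
            · have ht2 : t * t = 1 ∨ t * t = c.z := by
                rcases ht with rfl | rfl | rfl | rfl | rfl | rfl
                exacts [Or.inl c.zz, hx2, c.sq_W hQ haW, c.sq_W hQ hbW, Or.inl c.uu, Or.inl hvv]
              have hzc' : t * α = α * t := by
                rcases hα with rfl | rfl
                · simp
                · exact c.z_central t htS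
              rw [show y * t * (y * t) = y * (t * y * t⁻¹) * (t * t) by group, e,
                show y * (y * α) * (t * t) = y * y * α * (t * t) by group]
              exact mul_mem_pair c.zz (mul_mem_pair c.zz ih.1 hα) ht2
            · obtain ⟨β, hβ, e'⟩ := ih.2 w hw
              obtain ⟨γ, hγ, e''⟩ := hcomm t ht w hw
              refine ⟨β * γ, mul_mem_pair c.zz hβ hγ, ?_⟩
              have hzc' : β * t = t * β := by
                rcases hβ with rfl | rfl
                · simp
                · exact (c.z_central t htS).symm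
              rw [show w * (y * t) * w⁻¹ = w * y * w⁻¹ * (w * t * w⁻¹) by group, e', e'',
                show y * β * (t * γ) = y * (β * t) * γ by group, hzc']
              group
          | mul_inv_cancel y hy t ht ih =>
            have htS : t ∈ (c.S : Subgroup G) := hKS (subset_closure ht)
            have ht2 : t * t = 1 ∨ t * t = c.z := by
              rcases ht with rfl | rfl | rfl | rfl | rfl | rfl
              exacts [Or.inl c.zz, hx2, c.sq_W hQ haW, c.sq_W hQ hbW, Or.inl c.uu, Or.inl hvv]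
            obtain ⟨α, hα, e⟩ := ih.2 t ht
            refine ⟨?_, fun w hw => ?_⟩
            · have hi : t⁻¹ * t⁻¹ = 1 ∨ t⁻¹ * t⁻¹ = c.z := by rw [← mul_inv_rev]; exact inv_mem_pair c.zz ht2
              have e2 : t⁻¹ * y * t = y * α⁻¹ := by
                have hαt : t⁻¹ * α⁻¹ * t = α⁻¹ := by
                  rcases hα with rfl | rfl
                  · simp
                  · rw [eq_inv_of_sq c.zz, c.z_central _ (Subgroup.inv_mem _ htS), inv_mul_cancel_right]
                rw [show t⁻¹ * y * t = t⁻¹ * (y * α) * t * (t⁻¹ * α⁻¹ * t) by group, ← e, hαt]; group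
              rw [show y * t⁻¹ * (y * t⁻¹) = y * (t⁻¹ * y * t) * (t⁻¹ * t⁻¹) by group, e2,
                show y * (y * α⁻¹) * (t⁻¹ * t⁻¹) = y * y * α⁻¹ * (t⁻¹ * t⁻¹) by group]
              exact mul_mem_pair c.zz (mul_mem_pair c.zz ih.1 (inv_mem_pair c.zz hα)) hi
            · obtain ⟨β, hβ, e'⟩ := ih.2 w hw
              obtain ⟨γ, hγ, e''⟩ := hcomm t ht w hw
              refine ⟨β * γ⁻¹, mul_mem_pair c.zz hβ (inv_mem_pair c.zz hγ), ?_⟩
              have hzc' : β * (γ⁻¹ * t⁻¹) = t⁻¹ * (β * γ⁻¹) := by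
                have h1 : ∀ {δ : G}, (δ = 1 ∨ δ = c.z) → δ * t⁻¹ = t⁻¹ * δ := by
                  rintro δ (rfl | rfl)
                  · simp
                  · exact (c.z_central _ (Subgroup.inv_mem _ htS)).symm
                rw [h1 (inv_mem_pair c.zz hγ), ← mul_assoc, h1 hβ, mul_assoc]
              rw [show w * (y * t⁻¹) * w⁻¹ = w * y * w⁻¹ * (w * t * w⁻¹)⁻¹ by group, e', e'', mul_inv_rev,
                show y * β * (γ⁻¹ * t⁻¹) = y * (β * (γ⁻¹ * t⁻¹)) by group, hzc']
              group
        have hcard := c.card_mod_z_le hKS hzK fun y hy => (hsqK y hy).1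
        -- six strictly increasing steps
        have hdouble : ∀ {A B : Subgroup G} (y : G), A ≤ B → y ∈ B → y ∉ A → 2 * Nat.card ↥A ≤ Nat.card ↥B := by
          intro A B y hAB hy hyA
          have h1 : A.relIndex B ≠ 1 := fun e => hyA (relIndex_eq_one.1 e hy)
          have h0 : A.relIndex B ≠ 0 := index_ne_zero_of_finite
          rw [← relIndex_bot_left A, ← relIndex_bot_left B, ← relIndex_mul_relIndex ⊥ A B bot_le hAB, mul_comm]
          exact Nat.mul_le_mul_left _ (by omega)
        have hcl : ∀ (s : Set G) (t : G), (∀ y ∈ s, y * t = t * y) → ∀ y ∈ closure s, y * t = t * y :=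
          fun s t h y hy => mem_centralizer_singleton_iff.1
            ((closure_le (K := centralizer ({t} : Set G))).2 (fun w hw => mem_centralizer_singleton_iff.2 (h w hw)) hy)
        have hz0 : Nat.card ↥(zpowers c.z) = 2 := by
          haveI := Fact.mk Nat.prime_two
          rw [Nat.card_zpowers]
          exact orderOf_eq_prime (by rw [pow_two]; exact c.zz) c.z_ne
        have h1 : 2 * Nat.card ↥(zpowers c.z) ≤ Nat.card ↥(closure ({c.z, x} : Set G)) := by
          refine hdouble x (zpowers_le.2 (subset_closure (by simp))) (subset_closure (by simp)) fun h => ?_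
          obtain ⟨k, hk⟩ := mem_zpowers_iff.1 h
          rcases Int.even_or_odd k with ⟨i, rfl⟩ | ⟨i, rfl⟩
          · rw [← two_mul, zpow_mul, zpow_ofNat, pow_two, c.zz, one_zpow] at hk; exact hne.1 hk.symm
          · rw [zpow_add, zpow_mul, zpow_ofNat, pow_two, c.zz, one_zpow, one_mul, zpow_one] at hk
            exact hne.2 hk.symm
        have h2 : 2 * Nat.card ↥(closure ({c.z, x} : Set G)) ≤ Nat.card ↥(closure ({c.z, x, a} : Set G)) := by
          refine hdouble a (closure_mono (by intro; simp; tauto)) (subset_closure (by simp)) fun h => hba ?_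
          refine (hcl _ b ?_ a h).symm
          rintro y (rfl | rfl)
          exacts [(hzc b hbW).symm, hxb]
        have h3 : 2 * Nat.card ↥(closure ({c.z, x, a} : Set G)) ≤ Nat.card ↥(closure ({c.z, x, a, b} : Set G)) := by
          refine hdouble b (closure_mono (by intro; simp; tauto)) (subset_closure (by simp)) fun h => hba ?_
          refine hcl _ a ?_ b h
          rintro y (rfl | rfl | rfl)
          exacts [(hzc _ haW).symm, hxa, rfl]
        have h4 : 2 * Nat.card ↥(closure ({c.z, x, a, b} : Set G)) ≤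
            Nat.card ↥(closure ({c.z, x, a, b, c.u} : Set G)) := by
          refine hdouble c.u (closure_mono (by intro; simp; tauto)) (subset_closure (by simp)) fun h => hvu ?_
          refine (hcl _ v ?_ c.u h).symm
          rintro y (rfl | rfl | rfl | rfl)
          exacts [(hzc _ hvW).symm, hxv, hav, hb2]
        have h5 : 2 * Nat.card ↥(closure ({c.z, x, a, b, c.u} : Set G)) ≤ Nat.card ↥K := by
          refine hdouble v (closure_mono (by intro; simp; tauto)) (subset_closure (by simp)) fun h => hvu ?_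
          refine hcl _ c.u ?_ v h
          rintro y (rfl | rfl | rfl | rfl | rfl)
          exacts [(hzc _ huW).symm, hxu, hau, hb1, rfl]
        omega
      have iter : ∀ k : ℕ, ∀ x ∈ (c.S : Subgroup G), x ^ 2 ^ k = 1 → x * c.u = c.u * x → x * v = v * x →
          x * a = a * x → x * b = b * x → x = 1 ∨ x = c.z := by
        intro k
        induction k with
        | zero => intro x _ hx _ _ _ _; left; simpa using hx
        | succ k ih =>
          intro x hxS hx h1 h2 h3 h4
          refine base x hxS h1 h2 h3 h4 ?_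
          have c2 : ∀ t : G, x * t = t * x → x * x * t = t * (x * x) := fun t ht => by
            rw [mul_assoc, ht, ← mul_assoc, ht, mul_assoc]
          refine ih (x * x) (Subgroup.mul_mem _ hxS hxS) ?_ (c2 _ h1) (c2 _ h2) (c2 _ h3) (c2 _ h4)
          rw [← pow_two, ← pow_mul, ← pow_succ', hx]
      intro x hxS h1 h2 h3 h4
      obtain ⟨k, hk⟩ := c.S.2 ⟨x, hxS⟩
      exact iter k x hxS (congrArg Subtype.val hk) h1 h2 h3 h4
    refine ⟨v, a, b, hWQ hvW, hWQ haW, hWQ hbW, hvv, c.sq_W hQ haW, c.sq_W hQ hbW, hvu', hab, hau, hav, hb1, hb2,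
      hself, fun x hx => ?_⟩
    obtain ⟨w, hw, hw1, hw2⟩ := hsplit x hx
    have hwQ : w ∈ Q := by
      rcases hw with rfl | rfl | rfl | rfl
      exacts [one_mem _, hWQ huW, hWQ hvW, mul_mem (hWQ huW) (hWQ hvW)]
    obtain ⟨w', hw', hw3, hw4⟩ := c.split hQ haW hbW hab (mul_mem hwQ hx)
    have hw'W : w' ∈ W := by
      rcases hw' with rfl | rfl | rfl | rfl
      exacts [one_mem _, haW, hbW, mul_mem haW hbW]
    have hcm : ∀ t : G, a * t = t * a → b * t = t * b → w * x * t = t * (w * x) →
        w' * (w * x) * t = t * (w' * (w * x)) := by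
      intro t hat hbt hwt
      have hw't : w' * t = t * w' := by
        rcases hw' with rfl | rfl | rfl | rfl
        · simp
        · exact hat
        · exact hbt
        · rw [mul_assoc, hbt, ← mul_assoc, hat, mul_assoc]
      rw [mul_assoc, hwt, ← mul_assoc, hw't, mul_assoc]
    exact ⟨w, w', hw, hw', hself _ (hQ.le (mul_mem (hWQ hw'W) (mul_mem hwQ hx)))
      (hcm _ hau hb1 hw1) (hcm _ hav hb2 hw2) hw3 hw4⟩

end Ctx2

end CfsgLib.NoEightConstrained
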