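import Cfsg.Agent.Lib.SRFour.FrontModels
import Cfsg.Agent.Lib.RankTwoModel.Main
import Cfsg.Agent.Lib.Transitivity
import Cfsg.Agent.Lib.Components
import Cfsg.Agent.Lib.StSL.Two
import Cfsg.Agent.S0503

/-!
S3272: the groups of 2-rank at most two, and the assembly around the connected case of 2-rank at least three.

Blueprint: `blueprint/S3272.md`.
-/

set_option autoImplicit false
set_option linter.unusedSectionVars false
set_option linter.style.haveILetI false

namespace CfsgLib.NoEightRankTwo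

open Cfsg Subgroup Matrix
open scoped MatrixGroups

universe u

/-- A normal quasisimple image of even order contradicts 2-constraint. -/
theorem not_constrained {S X : Type*} [Group S] [Finite S] [Group X] [Finite X] (f : S →* X)
    (hS : IsQuasisimple S) (hn : f.range.Normal) {y : X} (hy : y ∈ f.range) (hy2 : orderOf y = 2)
    (hc : IsPConstrained 2 X) : False := by
  haveI : Fact (Nat.Prime 2) := ⟨Nat.prime_two⟩
  have hperf : commutator S = ⊤ := hS.1.commutator_eq_top
  set π := QuotientGroup.mk' (pPrimeCore 2 X) with hπ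
  set Q := pCore 2 (X ⧸ pPrimeCore 2 X) with hQ
  set g := π.comp f with hg
  have hgn : g.range.Normal := by
    rw [hg, MonoidHom.range_comp]
    exact hn.map π (QuotientGroup.mk'_surjective _)
  have htop : Q.comap g = ⊤ → False := fun e => by
    haveI : Group.IsNilpotent Q := (CfsgLib.isPGroup_pCore 2).isNilpotent
    haveI : Group.IsSolvable Q := inferInstance
    let g' : S →* Q := g.codRestrict Q fun s => show s ∈ Q.comap g from e ▸ mem_top s
    have hker : g'.ker = ⊤ := by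
      by_contra hne
      haveI : Group.IsSolvable (S ⧸ g'.ker) :=
        Group.isSolvable_of_isSolvable_injective (f := QuotientGroup.kerLift g') (QuotientGroup.kerLift_injective g')
      haveI : Nontrivial (S ⧸ g'.ker) := QuotientGroup.nontrivial_iff.2 hne
      have h1 := Group.IsSolvable.commutator_lt_top_of_nontrivial (S ⧸ g'.ker)
      refine h1.ne ?_
      rw [commutator_def, ← MonoidHom.range_eq_top.2 (QuotientGroup.mk'_surjective g'.ker), MonoidHom.range_eq_map,
        ← map_commutator, ← commutator_def, hperf]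
    obtain ⟨s, rfl⟩ := hy
    have h1 : g s = 1 := congrArg Subtype.val (show g' s = 1 from MonoidHom.mem_ker.1 (hker ▸ mem_top s))
    have h2 : f s ∈ pPrimeCore 2 X := (QuotientGroup.eq_one_iff _).1 h1
    have h3 := orderOf_dvd_natCard _ h2
    rw [hy2] at h3
    exact Nat.not_even_iff_odd.2 (Nat.coprime_two_right.1 (CfsgLib.card_pPrimeCore_coprime 2))
      (even_iff_two_dvd.2 h3)
  rcases quasisimple_normal_le_center_or_eq_top hS (Q.comap g) with hle | he
  swap
  · exact htop he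
  refine htop (eq_top_iff.2 fun s _ => ?_)
  show g s ∈ Q
  refine CfsgLib.Transitivity.centralizer_pCore_quotient_le hc (mem_centralizer_iff.2 fun q hq => ?_)
  have hcen : ∀ k : S, ∀ b : S, Commute (q * g k * q⁻¹ * (g k)⁻¹) (g b) := fun k b => by
    have hmem : q * g k * q⁻¹ * (g k)⁻¹ ∈ g.range :=
      mul_mem (hgn.conj_mem _ ⟨k, rfl⟩ q) (inv_mem ⟨k, rfl⟩)
    have hQm : q * g k * q⁻¹ * (g k)⁻¹ ∈ Q := by
      rw [show q * g k * q⁻¹ * (g k)⁻¹ = q * (g k * q⁻¹ * (g k)⁻¹) by group]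
      exact mul_mem hq ((inferInstance : Q.Normal).conj_mem _ (inv_mem hq) _)
    obtain ⟨w, hw⟩ := hmem
    rw [← hw] at hQm ⊢
    exact (show Commute w b from (mem_center_iff.1 (hle (show w ∈ Q.comap g from hQm)) b).symm).map g
  let φ : S →* g.range :=
    { toFun := fun k => ⟨q * g k * q⁻¹ * (g k)⁻¹, mul_mem (hgn.conj_mem _ ⟨k, rfl⟩ q) (inv_mem ⟨k, rfl⟩)⟩
      map_one' := Subtype.ext (by simp)
      map_mul' := fun a b => Subtype.ext (by
        show q * g (a * b) * q⁻¹ * (g (a * b))⁻¹ = q * g a * q⁻¹ * (g a)⁻¹ * (q * g b * q⁻¹ * (g b)⁻¹)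
        rw [map_mul]
        calc q * (g a * g b) * q⁻¹ * (g a * g b)⁻¹
            = q * g a * q⁻¹ * ((q * g b * q⁻¹ * (g b)⁻¹) * (g a)⁻¹) := by group
          _ = q * g a * q⁻¹ * ((g a)⁻¹ * (q * g b * q⁻¹ * (g b)⁻¹)) := by rw [(hcen b a).inv_right.eq]
          _ = _ := by group) }
  have hrc : φ.range ≤ Subgroup.center g.range := by
    rintro _ ⟨k, rfl⟩
    refine Subgroup.mem_center_iff.2 fun ⟨_, b, rfl⟩ => Subtype.ext ?_
    exact ((hcen k b).eq).symm
  have hφ : φ s = 1 := by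
    have h1 : commutator S ≤ φ.ker := by
      rw [_root_.commutator_def, Subgroup.commutator_le]
      intro a _ b _
      rw [MonoidHom.mem_ker, map_commutatorElement, commutatorElement_eq_one_iff_mul_comm]
      exact (Subgroup.mem_center_iff.1 (hrc ⟨a, rfl⟩) _).symm
    exact MonoidHom.mem_ker.1 (h1 (hperf ▸ mem_top s))
  have := congrArg Subtype.val hφ
  exact mul_inv_eq_iff_eq_mul.1 (mul_inv_eq_one.1 this)

/-- The centraliser of a central involution is constrained. -/
theorem exists_constrained {G : Type*} [Group G] [Finite G] (h2 : 2 ∣ Nat.card G) (T : Sylow 2 G)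
    (hC : ∀ t ∈ (T : Subgroup G), orderOf t = 2 →
      (centralizer ({t} : Set G) ⊓ (T : Subgroup G)).relIndex (T : Subgroup G) ≤ 2 →
        IsPConstrained 2 ↥(centralizer ({t} : Set G))) :
    ∃ t : G, orderOf t = 2 ∧ IsPConstrained 2 ↥(centralizer ({t} : Set G)) := by
  haveI : Fact (Nat.Prime 2) := ⟨Nat.prime_two⟩
  haveI : Nontrivial (T : Subgroup G) := (Subgroup.nontrivial_iff_ne_bot _).2 fun e => by
    have := T.dvd_card_of_dvd_card h2
    rw [e, card_bot] at this
    norm_num at this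
  haveI := IsPGroup.center_nontrivial T.2
  obtain ⟨k, hk⟩ := IsPGroup.iff_card.1 (T.2.to_subgroup (center (T : Subgroup G)))
  obtain ⟨z, hz⟩ := exists_prime_orderOf_dvd_card' (G := center (T : Subgroup G)) 2 (by
    rw [hk]
    refine dvd_pow_self 2 fun e => ?_
    have := Finite.one_lt_card (α := center (T : Subgroup G))
    rw [hk, e] at this
    omega)
  rw [← Subgroup.orderOf_coe, ← Subgroup.orderOf_coe] at hz
  refine ⟨_, hz, hC _ z.1.2 hz ?_⟩
  have hle : (T : Subgroup G) ≤ centralizer ({((z : (T : Subgroup G)) : G)} : Set G) := fun x hx =>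
    mem_centralizer_singleton_iff.2 (congrArg Subtype.val (mem_center_iff.1 z.2 ⟨x, hx⟩))
  rw [inf_eq_right.2 hle, relIndex_self]
  norm_num

theorem sl2_qs {F : Type*} [Field F] [Fintype F] (h4 : 4 ≤ Fintype.card F) :
    IsQuasisimple (SpecialLinearGroup (Fin 2) F) :=
  ⟨⟨CfsgLib.StSL.perfect_SL2 h4⟩,
    Matrix.ProjectiveSpecialLinearGroup.rank_two_simple (by rwa [Nat.card_eq_fintype_card])⟩

/-- The involution `-1` of `SL₂`. -/
theorem sl2_neg {F : Type*} [Field F] (h2 : (2 : F) ≠ 0) :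
    orderOf (-1 : SpecialLinearGroup (Fin 2) F) = 2 := by
  refine orderOf_eq_prime (by rw [sq, neg_mul_neg, one_mul]) fun e => h2 ?_
  have := congrFun (congrFun (congrArg Subtype.val e) 0) 0
  simp at this
  linear_combination -this

variable {G : Type u} [Group G] [Finite G]

theorem psl3_three {F : Type} [Field F] [Fintype F] (hodd : Odd (Fintype.card F))
    (e : G ≃* ProjectiveSpecialLinearGroup (Fin 3) F) {t : G} (ht : orderOf t = 2)
    (hc : IsPConstrained 2 ↥(centralizer ({t} : Set G))) : Fintype.card F = 3 := by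
  by_contra hne
  have h2 : (2 : F) ≠ 0 := Ring.two_ne_zero fun h => Nat.not_even_iff_odd.mpr hodd
    ((FiniteField.even_card_iff_char_two).mp h |> Nat.even_iff.mpr)
  have h4 : 4 ≤ Fintype.card F := by
    have := Fintype.one_lt_card (α := F)
    rw [Nat.odd_iff] at hodd
    omega
  obtain ⟨Z, hZn, hZc, hZk, ⟨c⟩⟩ := CfsgLib.PSLThree.exists_centralizer_iso hodd (e t) (by rw [e.orderOf_eq, ht])
  let j : ↥(centralizer ({e t} : Set (ProjectiveSpecialLinearGroup (Fin 3) F))) →* ↥(centralizer ({t} : Set G)) :=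
    { toFun := fun w => ⟨e.symm w, mem_centralizer_singleton_iff.mpr (e.injective (by
        rw [map_mul, map_mul, e.apply_symm_apply, mem_centralizer_singleton_iff.mp w.2]))⟩
      map_one' := Subtype.ext (by simp)
      map_mul' := fun a b => Subtype.ext (by simp) }
  have hj : Function.Surjective j := fun ⟨w, hw⟩ => ⟨⟨e w, mem_centralizer_singleton_iff.mpr (by
    rw [← map_mul, mem_centralizer_singleton_iff.mp hw, map_mul])⟩, Subtype.ext (e.symm_apply_apply w)⟩
  have hji : Function.Injective j := fun a b h =>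
    Subtype.ext (e.symm.injective (congrArg Subtype.val h))
  let k : GL (Fin 2) F →* ↥(centralizer ({t} : Set G)) :=
    (j.comp c.symm.toMonoidHom).comp (QuotientGroup.mk' Z)
  have hk : Function.Surjective k := (hj.comp c.symm.surjective).comp (QuotientGroup.mk'_surjective Z)
  let f := k.comp SpecialLinearGroup.toGL
  have hfr : f.range = (GeneralLinearGroup.det (n := Fin 2) (R := F)).ker.map k := by
    rw [MonoidHom.range_comp]
    congr 1
    ext g
    exact ⟨fun ⟨s, hs⟩ => hs ▸ MonoidHom.mem_ker.2 (Units.ext s.2),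
      fun hg => ⟨⟨g.1, congrArg Units.val (MonoidHom.mem_ker.1 hg)⟩, Units.ext rfl⟩⟩
  refine not_constrained f (sl2_qs h4) ?_ ⟨-1, rfl⟩ ?_ hc
  · rw [hfr]
    exact (MonoidHom.normal_ker _).map k hk
  · refine orderOf_eq_prime (by
      rw [← map_pow, show (-1 : SpecialLinearGroup (Fin 2) _) ^ 2 = 1 by rw [sq, neg_mul_neg, one_mul], map_one]) fun h1 => ?_
    have h3 : (SpecialLinearGroup.toGL (-1 : SpecialLinearGroup (Fin 2) F)) ∈ Z :=
      (QuotientGroup.eq_one_iff _).1 (c.symm.injective (hji (h1.trans ((map_one _).symm.trans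
        (congrArg j (map_one c.symm).symm)))))
    have h4' := orderOf_dvd_natCard _ h3
    rw [orderOf_injective _ SpecialLinearGroup.toGL_injective, sl2_neg h2, hZk] at h4'
    have := Nat.le_of_dvd (Nat.gcd_pos_of_pos_right _ (by norm_num)) (Nat.dvd_refl (Nat.gcd (Fintype.card F - 1) 3))
    rcases (Nat.dvd_prime Nat.prime_three).1 (Nat.gcd_dvd_right (Fintype.card F - 1) 3) with h | h <;>
      rw [h] at h4' <;> norm_num at h4'

theorem psu3_three {F : Type} [Field F] [Fintype F] {q : ℕ} (hF : Fintype.card F = q ^ 2) (hodd : Odd q)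
    (e : G ≃* PSU 3 F q) (hall : ∀ a b : G, orderOf a = 2 → orderOf b = 2 → IsConj a b) {t : G}
    (ht : orderOf t = 2) (hc : IsPConstrained 2 ↥(centralizer ({t} : Set G))) : q = 3 := by
  by_contra hne
  obtain ⟨f, hk, t0, ht0, hr⟩ := CfsgLib.RankTwoModel.psu_centralizer hF hodd
  obtain ⟨a, ha⟩ := isConj_iff.1 (hall (e.symm t0) t (by rw [e.symm.orderOf_eq, ht0]) ht)
  let θ : PSU 3 F q →* G := (MulAut.conj a).toMonoidHom.comp e.symm.toMonoidHom
  have hθ : Function.Bijective θ := (MulAut.conj a).bijective.comp e.symm.bijective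
  have hθt : θ t0 = t := ha
  let k : ↥(GU 2 F q) →* ↥(centralizer ({t} : Set G)) :=
    (θ.comp f).codRestrict _ fun g => mem_centralizer_singleton_iff.mpr (by
      show θ (f g) * t = t * θ (f g)
      rw [← hθt, ← map_mul, ← map_mul, mem_centralizer_singleton_iff.mp (hr.le ⟨g, rfl⟩)])
  have hk' : Function.Surjective k := fun ⟨w, hw⟩ => by
    obtain ⟨v, rfl⟩ := hθ.2 w
    obtain ⟨g, hg⟩ : v ∈ f.range := hr.ge (mem_centralizer_singleton_iff.mpr (hθ.1 (by
      rw [map_mul, map_mul, hθt, mem_centralizer_singleton_iff.mp hw])))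
    exact ⟨g, Subtype.ext (congrArg θ hg)⟩
  obtain ⟨K, _, _, hK⟩ := CfsgLib.SUCover.exists_K hF
  obtain ⟨φ, B, -, Φ, -⟩ := CfsgLib.Phan.exists_sl_model hF hK
  have hK4 : 4 ≤ Fintype.card K := by
    have := Fintype.one_lt_card (α := K)
    rw [Nat.odd_iff] at hodd
    omega
  have h2 : (2 : K) ≠ 0 := Ring.two_ne_zero fun h => Nat.not_even_iff_odd.mpr (hK ▸ hodd)
    ((FiniteField.even_card_iff_char_two).mp h |> Nat.even_iff.mpr)
  let ι₀ : ↥(SU 2 F q) →* ↥(GU 2 F q) :=
    (SpecialLinearGroup.toGL.comp (SU 2 F q).subtype).codRestrict (GU 2 F q) fun g => g.2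
  have hι₀ : Function.Injective ι₀ := fun a b e => Subtype.ext (Subtype.ext (congrArg (fun x => x.1.1) e))
  let ι := ι₀.comp Φ.toMonoidHom
  have hι : Function.Injective ι := hι₀.comp Φ.injective
  let d : ↥(GU 2 F q) →* Fˣ := GeneralLinearGroup.det.comp (GU 2 F q).subtype
  have hιr : ι.range = d.ker := by
    ext g
    refine ⟨fun ⟨s, hs⟩ => hs ▸ MonoidHom.mem_ker.2 (Units.ext (Φ s).1.2), fun hg => ?_⟩
    refine ⟨Φ.symm ⟨⟨g.1.1, congrArg Units.val (MonoidHom.mem_ker.1 hg)⟩, g.2⟩, Subtype.ext (Units.ext ?_)⟩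
    show (Φ (Φ.symm _)).1.1 = g.1.1
    rw [MulEquiv.apply_symm_apply]
  refine not_constrained (k.comp ι) (sl2_qs hK4) ?_ ⟨-1, rfl⟩ ?_ hc
  · rw [MonoidHom.range_comp, hιr]
    exact (MonoidHom.normal_ker _).map k hk'
  · refine orderOf_eq_prime (by
      rw [← map_pow, show (-1 : SpecialLinearGroup (Fin 2) _) ^ 2 = 1 by rw [sq, neg_mul_neg, one_mul], map_one]) fun h1 => ?_
    have h3 : f (ι (-1)) = 1 := hθ.1 ((congrArg Subtype.val h1).trans (map_one θ).symm)
    have h4' := hk _ h3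
    rw [orderOf_injective _ hι, sl2_neg h2] at h4'
    exact Nat.not_even_iff_odd.2 h4' even_two

/-- The groups of 2-rank at most two. -/
theorem rank_two [IsSimpleGroup G] (hG : ¬ IsMulCommutative G) (h2 : PRankLE 2 2 G) {t : G} (ht : orderOf t = 2)
    (hc : IsPConstrained 2 ↥(centralizer ({t} : Set G))) :
    (∃ (F : Type) (_ : Field F) (_ : Fintype F), Nonempty (G ≃* ProjectiveSpecialLinearGroup (Fin 2) F)) ∨
      Nonempty (G ≃* ↥(alternatingGroup (Fin 7))) ∨ IsM11 G ∨
      (∃ (F : Type) (_ : Field F) (_ : Fintype F), Fintype.card F = 3 ∧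
        Nonempty (G ≃* ProjectiveSpecialLinearGroup (Fin 3) F)) ∨
      (∃ (F : Type) (_ : Field F) (_ : Fintype F), Fintype.card F = 9 ∧ Nonempty (G ≃* PSU 3 F 3)) ∨
      (∃ (F : Type) (_ : Field F) (_ : Fintype F), Fintype.card F = 16 ∧ Nonempty (G ≃* PSU 3 F 4)) := by
  haveI : Fact (Nat.Prime 2) := ⟨Nat.prime_two⟩
  have hmodel : CfsgLib.RankTwoModel.QW G →
    (∃ (F : Type) (_ : Field F) (_ : Fintype F), Fintype.card F = 3 ∧
        Nonempty (G ≃* ProjectiveSpecialLinearGroup (Fin 3) F)) ∨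
      (∃ (F : Type) (_ : Field F) (_ : Fintype F), Fintype.card F = 9 ∧ Nonempty (G ≃* PSU 3 F 3)) ∨ IsM11 G := by
    intro hq
    rcases CfsgLib.RankTwoModel.reduction CfsgLib.RankTwoModel.main G inferInstance hq with
      ⟨F, iF, iT, ho, ⟨e⟩⟩ | ⟨F, iF, iT, q, hF, ho, ⟨e⟩⟩ | hM
    · exact Or.inl ⟨F, iF, iT, psl3_three ho e ht hc, ⟨e⟩⟩
    · have h3 := psu3_three hF ho e (CfsgLib.RankTwoModel.QW.all_conj inferInstance hq) ht hc
      subst h3
      exact Or.inr (Or.inl ⟨F, iF, iT, by rw [hF]; norm_num, ⟨e⟩⟩)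
    · exact Or.inr (Or.inr hM)
  letI : Fintype (GaloisField 2 4) := Fintype.ofFinite _
  have h16 : Fintype.card (GaloisField 2 4) = 16 := by
    rw [← Nat.card_eq_fintype_card, GaloisField.card 2 4 (by norm_num)]
    norm_num
  obtain ⟨P⟩ : Nonempty (Sylow 2 (Cfsg.PSU 3 (GaloisField 2 4) 4)) := inferInstance
  obtain ⟨S⟩ : Nonempty (Sylow 2 G) := inferInstance
  rcases Cfsg.Agent.S0516.result hG h2 S h16 P with ⟨n, hn, ⟨e⟩⟩ | hS | hS | he
  · rcases CfsgLib.RankTwoModel.Rows.dihedral hG S hn e with ⟨F, iF, iT, -, -, h⟩ | h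
    · exact Or.inl ⟨F, iF, iT, h⟩
    · exact Or.inr (Or.inl h)
  · rcases hmodel ⟨S, Or.inl hS⟩ with h | h | h
    · exact Or.inr (Or.inr (Or.inr (Or.inl h)))
    · exact Or.inr (Or.inr (Or.inr (Or.inr (Or.inl h))))
    · exact Or.inr (Or.inr (Or.inl h))
  · rcases hmodel ⟨S, Or.inr hS⟩ with h | h | h
    · exact Or.inr (Or.inr (Or.inr (Or.inl h)))
    · exact Or.inr (Or.inr (Or.inr (Or.inr (Or.inl h))))
    · exact Or.inr (Or.inr (Or.inl h))
  · exact Or.inr (Or.inr (Or.inr (Or.inr (Or.inr ⟨GaloisField 2 4, inferInstance, inferInstance, h16,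
      Cfsg.Agent.S0486.result h16 S P he⟩))))

/-- S3272, given that the connected case of 2-rank at least three does not occur. -/
theorem assembly [IsSimpleGroup G] (hG : ¬ IsMulCommutative G) (T : Sylow 2 G)
    (hC : ∀ t ∈ (T : Subgroup G), orderOf t = 2 →
      (centralizer ({t} : Set G) ⊓ (T : Subgroup G)).relIndex (T : Subgroup G) ≤ 2 →
        IsPConstrained 2 ↥(centralizer ({t} : Set G)))
    (hno : ¬ PRankLE 2 2 G → IsFourConnected (T : Subgroup G) → False) :
    (∃ (F : Type) (_ : Field F) (_ : Fintype F), Nonempty (G ≃* ProjectiveSpecialLinearGroup (Fin 2) F)) ∨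
      Nonempty (G ≃* ↥(alternatingGroup (Fin 7))) ∨ IsM11 G ∨
      (∃ (F : Type) (_ : Field F) (_ : Fintype F), Fintype.card F = 3 ∧
        Nonempty (G ≃* ProjectiveSpecialLinearGroup (Fin 3) F)) ∨
      (∃ (F : Type) (_ : Field F) (_ : Fintype F), Fintype.card F = 9 ∧ Nonempty (G ≃* PSU 3 F 3)) ∨
      (∃ (F : Type) (_ : Field F) (_ : Fintype F), Fintype.card F = 16 ∧ Nonempty (G ≃* PSU 3 F 4)) ∨
      IsJ2 G ∨ IsJ3 G := by
  by_cases h2 : PRankLE 2 2 G
  · have hns : ¬ Group.IsSolvable G := fun h => hG ⟨⟨IsSimpleGroup.comm_iff_isSolvable.mpr h⟩⟩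
    obtain ⟨t, ht, hc⟩ := exists_constrained (CfsgLib.SRFour.Front.two_dvd_of_not_solvable hns) T hC
    rcases rank_two hG h2 ht hc with h | h | h | h | h | h
    · exact Or.inl h
    · exact Or.inr (Or.inl h)
    · exact Or.inr (Or.inr (Or.inl h))
    · exact Or.inr (Or.inr (Or.inr (Or.inl h)))
    · exact Or.inr (Or.inr (Or.inr (Or.inr (Or.inl h))))
    · exact Or.inr (Or.inr (Or.inr (Or.inr (Or.inr (Or.inl h)))))
  · by_cases hcon : IsFourConnected (T : Subgroup G)
    · exact (hno h2 hcon).elim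
    · rcases Cfsg.Agent.S0503.result h2 T hcon with h | h
      · exact Or.inr (Or.inr (Or.inr (Or.inr (Or.inr (Or.inr (Or.inl h))))))
      · exact Or.inr (Or.inr (Or.inr (Or.inr (Or.inr (Or.inr (Or.inr h))))))

end CfsgLib.NoEightRankTwo
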