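/-
The connected case of 2-rank at least three reduces to the two shapes of the core.

Blueprint: `blueprint/S3272.md`.
-/
import Cfsg.Agent.Lib.NoEightConstrained.ShapeCases
import Cfsg.Agent.Lib.NoEightConstrained.CentralFour.Main
import Cfsg.Agent.Lib.NoEightConstrained.RankTwo
import Cfsg.Agent.Lib.RankThreeCentralizer
import Cfsg.Agent.Lib.Elementary

set_option autoImplicit false
set_option linter.style.haveILetI false

namespace CfsgLib.NoEightConstrained

open Cfsg Subgroup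

universe u

variable {G : Type u} [Group G] [Finite G]

/-- No normal elementary subgroup of order 8 bounds every normal elementary subgroup by 4. -/
theorem noEight_of_no_normal_eight (T : Sylow 2 G)
    (hT : ∀ E : Subgroup G, E ≤ (T : Subgroup G) → IsElementaryAbelian 2 E → Nat.card ↥E = 8 →
      ¬ (E.subgroupOf (T : Subgroup G)).Normal) : MacWilliams.NoEight ↥(T : Subgroup G) := by
  haveI := Fact.mk Nat.prime_two
  intro A hAn hAc hA2
  by_contra h4
  obtain ⟨k, hk⟩ := IsPGroup.iff_card.mp (T.2.to_subgroup A)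
  have hk3 : 3 ≤ k := by
    by_contra h
    exact h4 (hk ▸ (Nat.pow_le_pow_right two_pos (by omega : k ≤ 2)))
  haveI := hAn
  obtain ⟨M, hMn, hMA, hM8⟩ := PGroupRankTwo.exists_normal_card (p := 2) T.2 A 3
    (hk ▸ Nat.pow_le_pow_right two_pos hk3)
  set E := M.map (T : Subgroup G).subtype with hE
  have hsq : ∀ x ∈ E, x * x = 1 := by
    rintro _ ⟨x, hx, rfl⟩
    rw [← map_mul, ← pow_two, hA2 x (hMA hx), map_one]
  refine hT E (map_subtype_le _) ⟨⟨⟨fun a b => Subtype.ext (comm_of_sq hsq a.2 b.2)⟩⟩,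
    fun a ha => by rw [pow_two]; exact hsq a ha⟩ ?_ ?_
  · rw [hE, card_map_of_injective (subtype_injective _), hM8]; norm_num
  · rw [hE, subgroupOf, comap_map_eq_self_of_injective (subtype_injective _)]
    exact hMn

/-- The hypothesis of the assembly from the two shapes. -/
theorem connected_false [IsSimpleGroup G] (hG : ¬ IsMulCommutative G) (T : Sylow 2 G)
    (hT : ∀ E : Subgroup G, E ≤ (T : Subgroup G) → IsElementaryAbelian 2 E → Nat.card ↥E = 8 →
      ¬ (E.subgroupOf (T : Subgroup G)).Normal)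
    (hC : ∀ t ∈ (T : Subgroup G), orderOf t = 2 →
      (centralizer ({t} : Set G) ⊓ (T : Subgroup G)).relIndex (T : Subgroup G) ≤ 2 →
        IsPConstrained 2 ↥(centralizer ({t} : Set G)))
    (hquat : ∀ (c : Ctx2 G) (Q : Subgroup G) (q r l : G), c.Core c.z Q → c.QuatShape Q q r l → False)
    (hextra : ∀ (c : Ctx2 G) (Q : Subgroup G) (v a b : G), c.Core c.z Q → c.ExtraShape Q v a b → False)
    (h2 : ¬ PRankLE 2 2 G) (hconn : IsFourConnected (T : Subgroup G)) : False := by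
  haveI := Fact.mk Nat.prime_two
  classical
  have hne := noEight_of_no_normal_eight T hT
  -- the rank passes to the Sylow subgroup
  have h2T : ¬ PRankLE 2 2 ↥(T : Subgroup G) := by
    intro h
    refine h2 fun A hAc hA2 => ?_
    have hAp : IsPGroup 2 ↥A := fun a => ⟨1, Subtype.ext (by rw [pow_one]; exact hA2 a.1 a.2)⟩
    obtain ⟨P, hP⟩ := hAp.exists_le_sylow
    obtain ⟨g, rfl⟩ := MulAction.exists_smul_eq G T P
    set B := (A.map (MulAut.conj g⁻¹).toMonoidHom) with hB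
    have hBT : B ≤ (T : Subgroup G) := by
      rintro _ ⟨a, ha, rfl⟩
      obtain ⟨x, hx, e⟩ := hP ha
      show g⁻¹ * a * g⁻¹⁻¹ ∈ (T : Subgroup G)
      rw [← e]
      show g⁻¹ * (g * x * g⁻¹) * g⁻¹⁻¹ ∈ (T : Subgroup G)
      rw [show g⁻¹ * (g * x * g⁻¹) * g⁻¹⁻¹ = x by group]
      exact hx
    have hsq : ∀ x ∈ B, x * x = 1 := by
      rintro _ ⟨a, ha, rfl⟩
      rw [← map_mul, ← pow_two, hA2 a ha, map_one]
    have := h (B.subgroupOf (T : Subgroup G)) ⟨⟨fun a b => Subtype.ext (Subtype.ext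
      (comm_of_sq hsq (mem_subgroupOf.1 a.2) (mem_subgroupOf.1 b.2)))⟩⟩ fun a ha => Subtype.ext (by
        show (a : G) ^ 2 = 1
        rw [pow_two]; exact hsq _ (mem_subgroupOf.1 ha))
    rwa [Nat.card_congr (subgroupOfEquivOfLe hBT).toEquiv, hB, card_map_of_injective (MulEquiv.injective _)] at this
  obtain ⟨E, hE8, hE2⟩ : ∃ E : Subgroup ↥(T : Subgroup G), Nat.card ↥E = 8 ∧ ∀ e ∈ E, e ^ 2 = 1 := by
    rw [PRankLE] at h2T
    push Not at h2T
    obtain ⟨A, -, hA2, hA4⟩ := h2T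
    obtain ⟨k, hk⟩ := IsPGroup.iff_card.mp (T.2.to_subgroup A)
    have hk3 : 3 ≤ k := by
      by_contra h
      rw [hk] at hA4
      have := Nat.pow_le_pow_right two_pos (by omega : k ≤ 2)
      omega
    obtain ⟨E, hE⟩ := Sylow.exists_subgroup_card_pow_prime 2 (G := ↥A) (n := 3) (hk ▸ pow_dvd_pow 2 hk3)
    refine ⟨E.map A.subtype, by rw [card_map_of_injective (subtype_injective _), hE]; norm_num, ?_⟩
    rintro _ ⟨e, -, rfl⟩
    exact hA2 _ e.2
  obtain ⟨U', hUn, hU4, hU2⟩ := RankThreeCent.exists_normal_four T.2 E hE8 hE2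
  let c : Ctx G :=
    { S := T
      U := U'.map (T : Subgroup G).subtype
      simple := inferInstance
      hna := hG
      noEight := hne
      rank3 := h2T
      conn := hconn
      cons := hC
      U_le := map_subtype_le _
      U_normal := by
        rintro s hs _ ⟨v, hv, rfl⟩
        exact ⟨⟨s, hs⟩ * v * ⟨s, hs⟩⁻¹, hUn.conj_mem v hv _, rfl⟩
      U_card := by rw [card_map_of_injective (subtype_injective _), hU4]
      U_sq := by
        rintro _ ⟨v, hv, rfl⟩
        rw [← map_mul, ← pow_two, hU2 v hv, map_one] }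
  have hnc := c.not_central
  push Not at hnc
  obtain ⟨s₀, hs₀, u, hu, hsu⟩ := hnc
  have hu1 : u ≠ 1 := fun e => hsu (by simp [e])
  -- the commutator
  set z := u * (s₀ * u * s₀⁻¹) with hz
  have hsuU : s₀ * u * s₀⁻¹ ∈ c.U := c.U_normal s₀ hs₀ u hu
  have hzU : z ∈ c.U := mul_mem hu hsuU
  have hz1 : z ≠ 1 := fun e => hsu (by
    have h1 : s₀ * u * s₀⁻¹ = u := by rw [eq_inv_of_mul_eq_one_right e, eq_inv_of_sq (c.U_sq u hu)]
    exact mul_inv_eq_iff_eq_mul.1 h1)
  have hzu : u ≠ z := fun e => hu1 (conj_eq_one_iff.1 (left_eq_mul.1 e))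
  have hzc : ∀ s ∈ (T : Subgroup G), s * z = z * s := by
    obtain ⟨v, hv, hv2, hv1, hvc⟩ : ∃ v ∈ c.U, v * v = 1 ∧ v ≠ 1 ∧ ∀ s ∈ (T : Subgroup G), s * v = v * s := by
      haveI : Nontrivial ↥U' := Finite.one_lt_card_iff_nontrivial.1 (by rw [hU4]; norm_num)
      have hcard : Nat.card ↥(U' ⊓ Subgroup.center ↥(T : Subgroup G)) ≠ 1 := fun e =>
        (haveI := T.2.isNilpotent; haveI := hUn; CfsgLib.inf_center_ne_bot_of_nilpotent ((U'.nontrivial_iff_ne_bot).1 inferInstance)) (card_eq_one.1 e)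
      obtain ⟨⟨v, hv⟩, hvne⟩ : ∃ v : ↥(U' ⊓ Subgroup.center ↥(T : Subgroup G)), v ≠ 1 := by
        by_contra h
        push Not at h
        exact hcard (Nat.card_eq_one_iff_unique.2 ⟨⟨fun a b => (h a).trans (h b).symm⟩, inferInstance⟩)
      refine ⟨v, ⟨v, hv.1, rfl⟩, c.U_sq _ ⟨v, hv.1, rfl⟩, fun e => hvne (Subtype.ext (Subtype.ext e)), fun s hs => ?_⟩
      exact congrArg Subtype.val (Subgroup.mem_center_iff.1 hv.2 ⟨s, hs⟩)
    -- `v = z`
    have hfix : s₀ * v * s₀⁻¹ = v := by rw [hvc s₀ hs₀, mul_inv_cancel_right]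
    have hv_u : v ≠ u := fun e => hsu (e ▸ hvc s₀ hs₀)
    have hv_su : v ≠ s₀ * u * s₀⁻¹ := fun e => hv_u (by
      rw [e] at hfix
      exact mul_left_cancel (mul_right_cancel hfix) ▸ e)
    have hvz : v = z := by
      haveI := Fintype.ofFinite ↥c.U
      let f : Finset ↥c.U := {1, ⟨u, hu⟩, ⟨s₀ * u * s₀⁻¹, hsuU⟩, ⟨z, hzU⟩}
      have h3 : s₀ * u * s₀⁻¹ ≠ u := fun e => hsu (mul_inv_eq_iff_eq_mul.1 e)
      have h4 : s₀ * u * s₀⁻¹ ≠ 1 := fun e => hu1 (conj_eq_one_iff.1 e)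
      have h5 : s₀ * u * s₀⁻¹ ≠ z := fun e => hu1 (right_eq_mul.1 e)
      have hf : f.card = 4 := by
        simp [f, Subtype.ext_iff, hu1.symm, h4.symm, hz1.symm, h3.symm, hzu, h5]
      have hu' : f = Finset.univ := Finset.eq_univ_of_card _ (by rw [hf, ← Nat.card_eq_fintype_card, c.U_card])
      have := hu' ▸ Finset.mem_univ (⟨v, hv⟩ : ↥c.U)
      simp only [f, Finset.mem_insert, Finset.mem_singleton, Subtype.ext_iff, OneMemClass.coe_one] at this
      tauto
    exact hvz ▸ hvc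
  let c2 : Ctx2 G :=
    { toCtx := c
      z := z
      u := u
      z_mem := hzU
      u_mem := hu
      z_ne := hz1
      u_ne := hu1
      u_ne_z := hzu
      z_central := hzc
      outer := ⟨s₀, hs₀, hsu⟩ }
  obtain ⟨Q, hQ⟩ := c2.exists_core_z
  rcases c2.shape hQ with ⟨q, r, l, h⟩ | ⟨v, a, b, h⟩
  · exact hquat c2 Q q r l hQ h
  · exact hextra c2 Q v a b hQ h

end CfsgLib.NoEightConstrained
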