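/-
An element of odd order centralising the quaternion part centralises the core.

Blueprint: `blueprint/S3272.md`, part P3 (the quaternion shape).
-/
import Cfsg.Agent.Lib.NoEightConstrained.ShapeCases
import Cfsg.Agent.Lib.SDSquare.Shapes

set_option autoImplicit false
set_option linter.style.haveILetI false

namespace CfsgLib.NoEightConstrained

open Subgroup

variable {G : Type*} [Group G] [Finite G]

/-- The subgroup generated by the squares. -/
def sqs (P : Subgroup G) : Subgroup G := closure {g | ∃ x ∈ P, g = x * x}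

theorem sqs_le (P : Subgroup G) : sqs P ≤ P :=
  (closure_le _).2 (by rintro _ ⟨x, hx, rfl⟩; exact mul_mem hx hx)

theorem sq_mem_sqs {P : Subgroup G} {x : G} (hx : x ∈ P) : x * x ∈ sqs P := subset_closure ⟨x, hx, rfl⟩

theorem conj_mem_sqs {P : Subgroup G} {g f : G} (hg : ∀ x ∈ P, g * x * g⁻¹ ∈ P) (hf : f ∈ sqs P) :
    g * f * g⁻¹ ∈ sqs P := by
  have hle : sqs P ≤ (sqs P).comap (MulAut.conj g).toMonoidHom := by
    refine (closure_le _).2 ?_
    rintro _ ⟨x, hx, rfl⟩
    show g * (x * x) * g⁻¹ ∈ sqs P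
    rw [show g * (x * x) * g⁻¹ = g * x * g⁻¹ * (g * x * g⁻¹) by group]
    exact sq_mem_sqs (hg x hx)
  exact hle hf

theorem le_of_le_sup_sqs {S : Sylow 2 G} {P H : Subgroup G} (hP : P ≤ (S : Subgroup G)) (hH : H ≤ P)
    (h : P ≤ H ⊔ sqs P) : P ≤ H := by
  haveI := Fact.mk Nat.prime_two
  have htop : H.subgroupOf P = ⊤ := by
    refine frattini_nongenerating (eq_top_iff.2 fun x _ => ?_)
    have hle : H ⊔ sqs P ≤ (H.subgroupOf P ⊔ frattini ↥P).map P.subtype := by
      refine sup_le ?_ ?_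
      · rw [Subgroup.map_sup]
        refine le_trans ?_ le_sup_left
        intro y hy
        exact ⟨⟨y, hH hy⟩, mem_subgroupOf.2 hy, rfl⟩
      · refine (closure_le _).2 ?_
        rintro _ ⟨y, hy, rfl⟩
        refine Subgroup.map_mono le_sup_right ?_
        obtain ⟨w, hw, e⟩ := SDSquare.sq_mem_frattini (P := S) hP hy
        exact ⟨w, hw, e⟩
    obtain ⟨y, hy, e⟩ := hle (h x.2)
    rwa [show x = y from Subtype.ext e.symm]
  exact subgroupOf_eq_top.1 htop

/-- A conjugation of odd order fixing a coset after two steps fixes it. -/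
theorem odd_coset {b x : G} {F : Subgroup G} (hb : Odd (orderOf b)) (hbF : ∀ f ∈ F, b * f * b⁻¹ = f)
    (h : x⁻¹ * (b * b * x * (b * b)⁻¹) ∈ F) : x⁻¹ * (b * x * b⁻¹) ∈ F := by
  obtain ⟨k, hk⟩ := hb
  have hbb : ∀ f ∈ F, b * b * f * (b * b)⁻¹ = f := fun f hf => by
    rw [show b * b * f * (b * b)⁻¹ = b * (b * f * b⁻¹) * b⁻¹ by group, hbF f hf, hbF f hf]
  have key : ∀ j : ℕ, x⁻¹ * ((b * b) ^ j * x * ((b * b) ^ j)⁻¹) ∈ F := by
    intro j
    induction j with
    | zero => simp
    | succ j ih =>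
      have e : x⁻¹ * ((b * b) ^ (j + 1) * x * ((b * b) ^ (j + 1))⁻¹) =
          x⁻¹ * (b * b * x * (b * b)⁻¹) *
            (b * b * (x⁻¹ * ((b * b) ^ j * x * ((b * b) ^ j)⁻¹)) * (b * b)⁻¹) := by
        rw [pow_succ']; generalize (b * b) ^ j = B; group
      rw [e, hbb _ ih]
      exact mul_mem h ih
  have hpow : (b * b) ^ k = b⁻¹ := by
    rw [← pow_two, ← pow_mul, eq_inv_iff_mul_eq_one, ← pow_succ, ← hk, pow_orderOf_eq_one]
  have h2 := key k
  rw [hpow, inv_inv] at h2
  have h3 := hbF _ h2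
  have e : x⁻¹ * (b * x * b⁻¹) = (b * (x⁻¹ * (b⁻¹ * x * b)) * b⁻¹)⁻¹ := by group
  rw [e, h3]
  exact inv_mem h2

namespace Ctx

variable (c : Ctx G)

/-- A section of exponent two has order at most 16. -/
theorem card_section_le {K F : Subgroup G} (hK : K ≤ (c.S : Subgroup G)) (hFK : F ≤ K)
    (hn : ∀ k ∈ K, ∀ f ∈ F, k * f * k⁻¹ ∈ F) (hsq : ∀ k ∈ K, k * k ∈ F) :
    Nat.card ↥K ≤ 16 * Nat.card ↥F := by
  set S : Subgroup G := (c.S : Subgroup G) with hS
  set H : Subgroup ↥S := K.subgroupOf S with hH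
  set N : Subgroup ↥H := (F.subgroupOf S).subgroupOf H with hN
  haveI hNn : N.Normal := ⟨fun f hf k => mem_subgroupOf.2 (mem_subgroupOf.2
    (hn _ (mem_subgroupOf.1 k.2) _ (mem_subgroupOf.1 (mem_subgroupOf.1 hf))))⟩
  have hq : ∀ a : ↥H ⧸ N, a * a = 1 := by
    intro a
    obtain ⟨g, rfl⟩ := QuotientGroup.mk'_surjective _ a
    rw [← map_mul]
    exact (QuotientGroup.eq_one_iff _).2 (mem_subgroupOf.2 (mem_subgroupOf.2 (hsq _ (mem_subgroupOf.1 g.2))))
  have h16 := MacWilliams.sectional_rank_le_four c.two_group c.noEight H N ⊤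
    ⟨⟨fun a b => Subtype.ext (comm_of_sq (E := (⊤ : Subgroup (↥H ⧸ N))) (fun x _ => hq x)
      (mem_top a.1) (mem_top b.1))⟩⟩ (fun a _ => by rw [pow_two]; exact hq a)
  rw [card_top] at h16
  have hFH : F.subgroupOf S ≤ H := fun x hx => hFK hx
  calc Nat.card ↥K = Nat.card ↥H := (Nat.card_congr (subgroupOfEquivOfLe hK).toEquiv).symm
    _ = Nat.card (↥H ⧸ N) * Nat.card ↥N := card_eq_card_quotient_mul_card_subgroup _
    _ ≤ 16 * Nat.card ↥F := by
      rw [Nat.card_congr (subgroupOfEquivOfLe hFH).toEquiv,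
        Nat.card_congr (subgroupOfEquivOfLe (hFK.trans hK)).toEquiv]
      exact Nat.mul_le_mul_right _ (by simpa using h16)

end Ctx

namespace Ctx2

variable (c : Ctx2 G)
variable {Q : Subgroup G} {q r l : G}

theorem double_card {A B : Subgroup G} (y : G) (hAB : A ≤ B) (hy : y ∈ B) (hyA : y ∉ A) :
    2 * Nat.card ↥A ≤ Nat.card ↥B := by
  have h1 : A.relIndex B ≠ 1 := fun e => hyA (relIndex_eq_one.1 e hy)
  have h0 : A.relIndex B ≠ 0 := index_ne_zero_of_finite
  rw [← relIndex_bot_left A, ← relIndex_bot_left B, ← relIndex_mul_relIndex ⊥ A B bot_le hAB, mul_comm]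
  exact Nat.mul_le_mul_left _ (by omega)

/-- Subgroups of the core centralising the quaternion part have at most four classes modulo the squares. -/
theorem card_le_four_sqs (hQ : c.Core c.z Q) (h : c.QuatShape Q q r l) {Y : Subgroup G} (hYQ : Y ≤ Q)
    (hYq : ∀ y ∈ Y, y * q = q * y) (hYr : ∀ y ∈ Y, y * r = r * y) (hlY : l ∈ Y) :
    Nat.card ↥Y ≤ 4 * Nat.card ↥(sqs Y) := by
  have hP := h.pair
  have hzF : c.z ∈ sqs Y := h.l_sq ▸ sq_mem_sqs hlY
  set K := Y ⊔ closure ({q, r} : Set G) with hK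
  have hqK : q ∈ K := mem_sup_right (subset_closure (by simp))
  have hrK : r ∈ K := mem_sup_right (subset_closure (by simp))
  have hXS : closure ({q, r} : Set G) ≤ (c.S : Subgroup G) := (closure_le _).2 (by
    rintro x (rfl | rfl)
    exacts [hQ.le h.q_mem, hQ.le h.r_mem])
  have hKS : K ≤ (c.S : Subgroup G) := sup_le (hYQ.trans hQ.le) hXS
  have hcent : ∀ x ∈ closure ({q, r} : Set G), ∀ y ∈ Y, y * x = x * y := by
    intro x hx y hy
    have hle : closure ({q, r} : Set G) ≤ centralizer ({y} : Set G) := (closure_le _).2 (by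
      rintro w (rfl | rfl)
      exacts [mem_centralizer_singleton_iff.2 (hYq y hy).symm, mem_centralizer_singleton_iff.2 (hYr y hy).symm])
    exact (mem_centralizer_singleton_iff.1 (hle hx)).symm
  have hnorm : Y ≤ normalizer ((closure ({q, r} : Set G)) : Set G) := fun y hy =>
    mem_normalizer_iff.2 fun x => by
      constructor
      · intro hx; rwa [hcent x hx y hy, mul_inv_cancel_right]
      · intro hx
        have e := hcent _ hx y hy
        rw [show y * x * y⁻¹ * y = y * x by group] at e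
        rwa [show x = y * x * y⁻¹ from mul_left_cancel e.symm]
  have hform : ∀ k ∈ K, ∃ y ∈ Y, ∃ x ∈ closure ({q, r} : Set G), k = y * x := by
    intro k hk
    rw [hK, ← SetLike.mem_coe, Subgroup.coe_mul_of_left_le_normalizer_right _ _ hnorm] at hk
    obtain ⟨y, hy, x, hx, e⟩ := hk
    exact ⟨y, hy, x, hx, e.symm⟩
  have hcard : Nat.card ↥K ≤ 16 * Nat.card ↥(sqs Y) := by
    refine c.card_section_le hKS ((sqs_le Y).trans le_sup_left) ?_ ?_
    · intro k hk f hf
      obtain ⟨y, hy, x, hx, rfl⟩ := hform k hk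
      have hxf : f * x = x * f := hcent x hx f (sqs_le Y hf)
      rw [show y * x * f * (y * x)⁻¹ = y * (x * f) * x⁻¹ * y⁻¹ by group, ← hxf,
        show y * (f * x) * x⁻¹ * y⁻¹ = y * f * y⁻¹ by group]
      exact conj_mem_sqs (fun w hw => mul_mem (mul_mem hy hw) (inv_mem hy)) hf
    · intro k hk
      obtain ⟨y, hy, x, hx, rfl⟩ := hform k hk
      have hxx : x * x ∈ sqs Y := by
        obtain ⟨b, e, hb, he, rfl⟩ := hP.mem_closure hx
        have hbe : e * b = b * e := by
          rcases he with rfl | rfl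
          · simp
          · have hbS : b ∈ (c.S : Subgroup G) := by
              rcases hb with rfl | rfl | rfl | rfl
              exacts [one_mem _, hQ.le h.q_mem, hQ.le h.r_mem, Subgroup.mul_mem _ (hQ.le h.q_mem) (hQ.le h.r_mem)]
            exact (c.z_central b hbS).symm
        have he2 : e * e = 1 := by rcases he with rfl | rfl <;> simp [c.zz]
        rw [show b * e * (b * e) = b * (e * b) * e by group, hbe,
          show b * (b * e) * e = b * b * (e * e) by group, he2, mul_one]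
        rcases hb with rfl | rfl | rfl | rfl
        · rw [one_mul]; exact one_mem _
        · rw [hP.q_sq]; exact hzF
        · rw [hP.r_sq]; exact hzF
        · rw [show q * r * (q * r) = q * (r * q) * r by group, hP.rq,
            show q * (q * r * c.z) * r = q * q * r * (c.z * r) by group, ← hP.zr, hP.q_sq,
            show c.z * r * (r * c.z) = c.z * (r * r) * c.z by group, hP.r_sq, c.zz, one_mul]
          exact hzF
      rw [show y * x * (y * x) = y * (x * y) * x by group, ← hcent x hx y hy,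
        show y * (y * x) * x = y * y * (x * x) by group]
      exact mul_mem (sq_mem_sqs hy) hxx
  have hqY : q ∉ Y := fun hq => hP.z_ne (by
    have e := hYr q hq
    rw [hP.rq] at e
    exact (left_eq_mul.1 e))
  have h1 : 2 * Nat.card ↥Y ≤ Nat.card ↥(Y ⊔ zpowers q) :=
    double_card q le_sup_left (mem_sup_right (mem_zpowers q)) hqY
  have h2 : 2 * Nat.card ↥(Y ⊔ zpowers q) ≤ Nat.card ↥K := by
    refine double_card r (sup_le le_sup_left (zpowers_le.2 hqK)) hrK fun hr => hP.z_ne ?_
    have hle : Y ⊔ zpowers q ≤ centralizer ({q} : Set G) := sup_le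
      (fun y hy => mem_centralizer_singleton_iff.2 (hYq y hy))
      (zpowers_le.2 (mem_centralizer_singleton_iff.2 rfl))
    have e := mem_centralizer_singleton_iff.1 (hle hr)
    rw [hP.rq] at e
    exact mul_eq_left.1 e
  omega

/-- An element of odd order centralises the centraliser of the quaternion part in the core. -/
theorem odd_centralize_part (hQ : c.Core c.z Q) (h : c.QuatShape Q q r l) {b : G} (hb : b ∈ c.Loc Q)
    (hodd : Odd (orderOf b)) : ∀ x ∈ Q, x * q = q * x → x * r = r * x → b * x * b⁻¹ = x := by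
  classical
  haveI := Fact.mk Nat.prime_two
  have hbl : b * l * b⁻¹ = l := by
    rcases h.l_inv b hb with e | e
    · exact e
    · have h2 : b * b * l = l * (b * b) := by
        refine mul_inv_eq_iff_eq_mul.1 ?_
        rw [show b * b * l * (b * b)⁻¹ = b * (b * l * b⁻¹) * b⁻¹ by group, e,
          show b * (l * c.z) * b⁻¹ = b * l * b⁻¹ * (b * c.z * b⁻¹) by group, e, c.loc_z hb, mul_assoc, c.zz, mul_one]
      refine mul_inv_eq_iff_eq_mul.2 (mem_centralizer_singleton_iff.1 (mem_of_sq_pow hodd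
        (mem_centralizer_singleton_iff.2 h2) ?_))
      rw [pow_orderOf_eq_one]; exact one_mem _
  have key : ∀ (n : ℕ) (Y : Subgroup G), Nat.card ↥Y = n → Y ≤ Q → (∀ y ∈ Y, y * q = q * y) →
      (∀ y ∈ Y, y * r = r * y) → l ∈ Y → (∀ y ∈ Y, b * y * b⁻¹ ∈ Y) → ∀ y ∈ Y, b * y * b⁻¹ = y := by
    intro n
    induction n using Nat.strong_induction_on with
    | _ n ih =>
    intro Y hn hYQ hYq hYr hlY hbY
    have hYS : Y ≤ (c.S : Subgroup G) := hYQ.trans hQ.le
    set F := sqs Y with hF
    have hFY : F ≤ Y := sqs_le Y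
    have hFn : ∀ g ∈ Y, ∀ f ∈ F, g * f * g⁻¹ ∈ F := fun g hg f hf =>
      conj_mem_sqs (fun w hw => mul_mem (mul_mem hg hw) (inv_mem hg)) hf
    have hbF : ∀ f ∈ F, b * f * b⁻¹ ∈ F := fun f hf => conj_mem_sqs hbY hf
    have hcard4 := c.card_le_four_sqs hQ h hYQ hYq hYr hlY
    set Y₀ := F ⊔ zpowers l with hY₀
    have hY₀Y : Y₀ ≤ Y := sup_le hFY (zpowers_le.2 hlY)
    have htriv : ∀ y ∈ Y₀, b * y * b⁻¹ = y := by
      by_cases heq : Y₀ = Y
      · have hYl : Y ≤ zpowers l := le_of_le_sup_sqs hYS (zpowers_le.2 hlY) (by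
          rw [sup_comm]; exact heq.ge)
        intro y hy
        obtain ⟨k, rfl⟩ := mem_zpowers_iff.1 (hYl (hY₀Y hy))
        rw [← conj_zpow, hbl]
      · have hlt : Nat.card ↥Y₀ < n := by
          rw [← hn]
          exact lt_of_le_of_ne (card_le_of_le hY₀Y) fun e => heq (eq_of_le_of_card_ge hY₀Y e.ge)
        refine ih _ hlt Y₀ rfl (hY₀Y.trans hYQ) (fun y hy => hYq y (hY₀Y hy)) (fun y hy => hYr y (hY₀Y hy))
          (mem_sup_right (mem_zpowers l)) ?_
        intro y hy
        have hle : Y₀ ≤ Y₀.comap (MulAut.conj b).toMonoidHom :=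
          sup_le (fun f hf => mem_sup_left (hbF f hf)) (zpowers_le.2 (by
            show b * l * b⁻¹ ∈ Y₀
            rw [hbl]; exact mem_sup_right (mem_zpowers l)))
        exact hle hy
    have hfix : ∀ f ∈ F, b * f * b⁻¹ = f := fun f hf => htriv f (mem_sup_left hf)
    by_cases hmove : ∀ x ∈ Y, x⁻¹ * (b * x * b⁻¹) ∈ F
    · intro x hx
      set f := x⁻¹ * (b * x * b⁻¹) with hf
      have hfF : f ∈ F := hmove x hx
      have hbx : b * x * b⁻¹ = x * f := by rw [hf]; group
      have hj : ∀ j : ℕ, b ^ j * x * (b ^ j)⁻¹ = x * f ^ j := by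
        intro j
        induction j with
        | zero => simp
        | succ j ihj =>
          rw [pow_succ' b, show b * b ^ j * x * (b * b ^ j)⁻¹ = b * (b ^ j * x * (b ^ j)⁻¹) * b⁻¹ by group, ihj,
            show b * (x * f ^ j) * b⁻¹ = b * x * b⁻¹ * (b * f ^ j * b⁻¹) by group, hbx,
            hfix _ (pow_mem hfF j), pow_succ', mul_assoc]
      have hfm := hj (orderOf b)
      rw [pow_orderOf_eq_one, one_mul, inv_one, mul_one, left_eq_mul] at hfm
      obtain ⟨k, hk⟩ := c.two_group ⟨f, hYS (hFY hfF)⟩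
      have hk' : f ^ 2 ^ k = 1 := congrArg Subtype.val hk
      have h1 := pow_gcd_eq_one.2 ⟨hk', hfm⟩
      rw [(Nat.Coprime.pow_left k (Nat.coprime_two_left.2 hodd)).gcd_eq_one, pow_one] at h1
      rw [hbx, h1, mul_one]
    exfalso
    push Not at hmove
    obtain ⟨x₀, hx₀Y, hx₀⟩ := hmove
    have cl : ∀ x ∈ Y, x⁻¹ * (b * x * b⁻¹) ∉ F → ∀ g ∈ Y,
        g ∈ F ∨ x⁻¹ * g ∈ F ∨ (b * x * b⁻¹)⁻¹ * g ∈ F ∨ (x * (b * x * b⁻¹))⁻¹ * g ∈ F := by
      intro x hxY hxm g hg
      set y := b * x * b⁻¹ with hy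
      have hyY : y ∈ Y := hbY x hxY
      have hxF : x ∉ F := fun hh => hxm (by rw [hy, hfix x hh, inv_mul_cancel]; exact one_mem _)
      have hyF : y ∉ F := fun hh => hxF (by
        have h1 := hfix y hh
        rw [hy] at h1 hh
        rwa [mul_left_cancel (mul_right_cancel h1)] at hh)
      have hyxF : x * y ∉ F := fun hh => hxm (by
        rw [show x⁻¹ * y = (x * x)⁻¹ * (x * y) by group]
        exact mul_mem (inv_mem (sq_mem_sqs hxY)) hh)
      haveI hNn : (F.subgroupOf Y).Normal := ⟨fun f hf k => hFn _ k.2 _ hf⟩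
      haveI := Fintype.ofFinite (↥Y ⧸ F.subgroupOf Y)
      let π := QuotientGroup.mk' (F.subgroupOf Y)
      have heq : ∀ a a' : ↥Y, π a = π a' ↔ (a : G)⁻¹ * (a' : G) ∈ F := fun a a' =>
        QuotientGroup.eq.trans mem_subgroupOf
      let s : Finset (↥Y ⧸ F.subgroupOf Y) :=
        {π 1, π ⟨x, hxY⟩, π ⟨y, hyY⟩, π ⟨x * y, mul_mem hxY hyY⟩}
      have n1 : π 1 ≠ π ⟨x, hxY⟩ := fun e => hxF (by simpa using (heq _ _).1 e)
      have n2 : π 1 ≠ π ⟨y, hyY⟩ := fun e => hyF (by simpa using (heq _ _).1 e)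
      have n3 : π 1 ≠ π ⟨x * y, mul_mem hxY hyY⟩ := fun e => hyxF (by simpa using (heq _ _).1 e)
      have n4 : π ⟨x, hxY⟩ ≠ π ⟨y, hyY⟩ := fun e => hxm ((heq _ _).1 e)
      have n5 : π ⟨x, hxY⟩ ≠ π ⟨x * y, mul_mem hxY hyY⟩ := fun e => hyF (by simpa using (heq _ _).1 e)
      have n6 : π ⟨y, hyY⟩ ≠ π ⟨x * y, mul_mem hxY hyY⟩ := fun e => hxF (by
        have h' : y⁻¹ * (x * y) ∈ F := (heq _ _).1 e
        rw [show x = y * (y⁻¹ * (x * y)) * y⁻¹ by group]
        exact hFn y hyY _ h')
      have hs : s.card = 4 := by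
        show ({π 1, π ⟨x, hxY⟩, π ⟨y, hyY⟩, π ⟨x * y, mul_mem hxY hyY⟩} : Finset (↥Y ⧸ F.subgroupOf Y)).card = 4
        rw [Finset.card_insert_of_notMem, Finset.card_insert_of_notMem, Finset.card_insert_of_notMem,
          Finset.card_singleton] <;> simp only [Finset.mem_insert, Finset.mem_singleton, not_or]
        exacts [n6, ⟨n4, n5⟩, ⟨n1, n2, n3⟩]
      have hle : Nat.card (↥Y ⧸ F.subgroupOf Y) ≤ 4 := by
        have e := card_eq_card_quotient_mul_card_subgroup (F.subgroupOf Y)
        rw [Nat.card_congr (subgroupOfEquivOfLe hFY).toEquiv] at e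
        have hpos : 0 < Nat.card ↥F := Nat.card_pos
        exact Nat.le_of_mul_le_mul_right (e ▸ hcard4) hpos
      have hu : s = Finset.univ := Finset.eq_univ_of_card _ (le_antisymm (Finset.card_le_univ _)
        (by rw [hs, ← Nat.card_eq_fintype_card]; exact hle))
      have hmem : π ⟨g, hg⟩ ∈ s := hu ▸ Finset.mem_univ _
      simp only [s, Finset.mem_insert, Finset.mem_singleton] at hmem
      rcases hmem with e | e | e | e
      · left; simpa using (heq _ _).1 e.symm
      · exact Or.inr (Or.inl ((heq _ _).1 e.symm))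
      · exact Or.inr (Or.inr (Or.inl ((heq _ _).1 e.symm)))
      · exact Or.inr (Or.inr (Or.inr ((heq _ _).1 e.symm)))
    -- the third class
    have third : ∀ x ∈ Y, x⁻¹ * (b * x * b⁻¹) ∉ F →
        (x * (b * x * b⁻¹))⁻¹ * (b * (b * x * b⁻¹) * b⁻¹) ∈ F := by
      intro x hxY hxm
      rcases cl x hxY hxm _ (hbY _ (hbY x hxY)) with e | e | e | e
      · exfalso
        set y := b * x * b⁻¹
        have h1 := hfix _ e
        have h2 : b * y * b⁻¹ = y := mul_left_cancel (mul_right_cancel h1)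
        rw [h2] at e
        have h4 := hfix _ e
        have h3 : y = x := mul_left_cancel (mul_right_cancel h4)
        exact hxm (by rw [h3, inv_mul_cancel]; exact one_mem _)
      · refine absurd (odd_coset hodd hfix ?_) hxm
        rwa [show b * b * x * (b * b)⁻¹ = b * (b * x * b⁻¹) * b⁻¹ by group]
      · refine absurd ?_ hxm
        have h1 := hfix _ e
        have e' : b * (x⁻¹ * (b * x * b⁻¹)) * b⁻¹ = (b * x * b⁻¹)⁻¹ * (b * (b * x * b⁻¹) * b⁻¹) := by group
        rw [← h1] at e'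
        rw [mul_left_cancel (mul_right_cancel e')]
        exact e
      · exact e
    -- a moved element commuting with the squares
    obtain ⟨x, hxY, hxm, hxc⟩ : ∃ x ∈ Y, x⁻¹ * (b * x * b⁻¹) ∉ F ∧ ∀ f ∈ F, x * f = f * x := by
      set y := b * x₀ * b⁻¹ with hy
      refine ⟨x₀⁻¹ * y, mul_mem (inv_mem hx₀Y) (hbY _ hx₀Y), fun hh => ?_, fun f hf => ?_⟩
      · have h3 := third x₀ hx₀Y hx₀
        rw [← hy] at h3
        set w := b * y * b⁻¹ with hw
        rw [show b * (x₀⁻¹ * y) * b⁻¹ = y⁻¹ * w by rw [hw, hy]; group] at hh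
        refine hx₀ ?_
        have hyY : y ∈ Y := hbY _ hx₀Y
        have hwY : w ∈ Y := hbY _ hyY
        haveI hNn : (F.subgroupOf Y).Normal := ⟨fun f hf k => hFn _ k.2 _ hf⟩
        let π := QuotientGroup.mk' (F.subgroupOf Y)
        have heq : ∀ a a' : ↥Y, π a = π a' ↔ (a : G)⁻¹ * (a' : G) ∈ F := fun a a' =>
          QuotientGroup.eq.trans mem_subgroupOf
        have hsq : ∀ a : ↥Y, π a * π a = 1 := fun a => by
          rw [← map_mul]; exact (QuotientGroup.eq_one_iff _).2 (mem_subgroupOf.2 (sq_mem_sqs a.2))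
        set px := π ⟨x₀, hx₀Y⟩ with hpx
        set py := π ⟨y, hyY⟩ with hpy
        set pw := π ⟨w, hwY⟩ with hpw
        have e1 : px⁻¹ * py = py⁻¹ * pw := by
          rw [hpx, hpy, hpw, ← map_inv, ← map_inv, ← map_mul, ← map_mul]
          exact (heq _ _).2 hh
        have e2 : px * py = pw := by
          rw [hpx, hpy, hpw, ← map_mul]
          exact (heq _ _).2 h3
        have hcomm : px * py = py * px := comm_of_sq (E := (⊤ : Subgroup (↥Y ⧸ F.subgroupOf Y)))
          (fun t _ => by obtain ⟨a, rfl⟩ := QuotientGroup.mk'_surjective _ t; exact hsq a) (mem_top _) (mem_top _)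
        rw [← e2, hcomm, inv_mul_cancel_left, eq_inv_of_sq (hsq _)] at e1
        -- e1 : px * py = px
        have : py = 1 := mul_eq_left.1 e1
        exfalso
        have hyF : y ∈ F := mem_subgroupOf.1 ((QuotientGroup.eq_one_iff _).1 this)
        refine hx₀ ?_
        have h1 := hfix _ hyF
        rw [← hw] at h1
        rw [hw, hy] at h1
        have h2 : b * x₀ * b⁻¹ = x₀ := mul_left_cancel (mul_right_cancel h1)
        rw [hy, h2, inv_mul_cancel]; exact one_mem _
      · have hxf : x₀ * f * x₀⁻¹ ∈ F := hFn _ hx₀Y _ hf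
        have h1 : y * f * y⁻¹ = x₀ * f * x₀⁻¹ := by
          calc y * f * y⁻¹ = y * (b * f * b⁻¹) * y⁻¹ := by rw [hfix f hf]
            _ = b * (x₀ * f * x₀⁻¹) * b⁻¹ := by rw [hy]; group
            _ = x₀ * f * x₀⁻¹ := hfix _ hxf
        calc x₀⁻¹ * y * f = x₀⁻¹ * (y * f * y⁻¹) * y := by group
          _ = f * (x₀⁻¹ * y) := by rw [h1]; group
    set y := b * x * b⁻¹ with hy
    have hyY : y ∈ Y := hbY x hxY
    have hyc : ∀ f ∈ F, y * f = f * y := fun f hf => by
      calc y * f = y * (b * f * b⁻¹) := by rw [hfix f hf]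
        _ = b * (x * f) * b⁻¹ := by rw [hy]; group
        _ = b * f * b⁻¹ * y := by rw [hxc f hf, hy]; group
        _ = f * y := by rw [hfix f hf]
    have hlF : l ∈ F := by
      have h3 := third x hxY hxm
      rcases cl x hxY hxm l hlY with e | e | e | e
      · exact e
      · exfalso
        refine hxm ?_
        have h1 := hfix _ e
        rw [show b * (x⁻¹ * l) * b⁻¹ = y⁻¹ * (b * l * b⁻¹) by rw [hy]; group, hbl] at h1
        have hyx : y = x := inv_injective (mul_right_cancel h1)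
        rw [hyx, inv_mul_cancel]; exact one_mem _
      · exfalso
        rw [← hy] at e
        refine hxm ?_
        have h1 : b * (x⁻¹ * l) * b⁻¹ = y⁻¹ * l := by
          rw [show b * (x⁻¹ * l) * b⁻¹ = (b * x * b⁻¹)⁻¹ * (b * l * b⁻¹) by group, hbl]
        have h2 := hfix _ e
        rw [← h1] at h2
        have h4 := mul_left_cancel (mul_right_cancel h2)
        rw [h1] at h4
        rw [mul_right_cancel h4 |> inv_injective, inv_mul_cancel]
        exact one_mem _
      · exfalso
        rw [← hy] at e h3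
        set w := b * y * b⁻¹ with hw
        refine hxm (odd_coset hodd hfix ?_)
        rw [show b * b * x * (b * b)⁻¹ = w by rw [hw, hy]; group]
        have h1 := hfix _ e
        rw [show b * ((x * y)⁻¹ * l) * b⁻¹ = (y * w)⁻¹ * (b * l * b⁻¹) by simp only [hw, hy, mul_assoc, mul_inv_rev, inv_inv, inv_mul_cancel_left], hbl] at h1
        -- (y * w)⁻¹ = (x * y)⁻¹
        have h2 : y * w = x * y := inv_injective (mul_right_cancel h1)
        have e3 : x⁻¹ * w = x⁻¹ * y⁻¹ * (x * y) := by rw [← h2]; group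
        rw [e3, show x⁻¹ * y⁻¹ * (x * y) = x⁻¹ * x⁻¹ * ((x * y⁻¹) * (x * y⁻¹)) * (y * y) by group]
        exact mul_mem (mul_mem (sq_mem_sqs (inv_mem hxY)) (sq_mem_sqs (mul_mem hxY (inv_mem hyY)))) (sq_mem_sqs hyY)
    -- the squares lie in `⟨c'⟩` and the squares of squares
    set c' := y * x * y⁻¹ * x⁻¹ with hc'
    have hc'F : c' ∈ F := by
      rw [hc', show y * x * y⁻¹ * x⁻¹ = y * y * (y⁻¹ * x * (y⁻¹ * x)) * (x⁻¹ * x⁻¹) by group]
      exact mul_mem (mul_mem (sq_mem_sqs hyY) (sq_mem_sqs (mul_mem (inv_mem hyY) hxY))) (sq_mem_sqs (inv_mem hxY))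
    have hxx : x * x ∈ F := sq_mem_sqs hxY
    have hyy : y * y = x * x := by rw [← hfix _ hxx, hy]; group
    have hyx : y * x = c' * (x * y) := by rw [hc']; group
    have hc2 : c' * c' = 1 := by
      have e1 : x * x * x = c' * c' * (x * x * x) := by
        calc x * x * x = y * y * x := by rw [hyy]
          _ = y * (y * x) := mul_assoc _ _ _
          _ = y * c' * (x * y) := by rw [hyx, ← mul_assoc y c' (x * y)]
          _ = c' * (y * x) * y := by rw [hyc c' hc'F]; group
          _ = c' * c' * (x * (y * y)) := by rw [hyx]; group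
          _ = c' * c' * (x * x * x) := by rw [hyy]; group
      exact right_eq_mul.1 e1
    have hxy2 : x * y * (x * y) = c' * (x * x * (x * x)) := by
      calc x * y * (x * y) = x * (y * x) * y := by group
        _ = x * c' * x * (y * y) := by rw [hyx]; group
        _ = c' * (x * x * (x * x)) := by rw [hxc c' hc'F, hyy]; group
    have hcomm : ∀ f ∈ F, ∀ g, (g = 1 ∨ g = x ∨ g = y ∨ g = x * y) → g * f * (g * f) = g * g * (f * f) := by
      intro f hf g hg
      have hgf : f * g = g * f := by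
        rcases hg with rfl | rfl | rfl | rfl
        · simp
        · exact (hxc f hf).symm
        · exact (hyc f hf).symm
        · rw [mul_assoc x y f, hyc f hf, ← mul_assoc, ← hxc f hf, mul_assoc]
      rw [show g * f * (g * f) = g * (f * g) * f by group, hgf]; group
    -- the image of `y` is `x * y * f₁`
    have h3 := third x hxY hxm
    rw [← hy] at h3
    set f₁ := (x * y)⁻¹ * (b * y * b⁻¹) with hf₁
    have hw : b * y * b⁻¹ = x * y * f₁ := by rw [hf₁]; group
    have hww : b * y * b⁻¹ * (b * y * b⁻¹) = x * x := by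
      rw [show b * y * b⁻¹ * (b * y * b⁻¹) = b * (y * y) * b⁻¹ by group, hyy, hfix _ hxx]
    rw [hw, hcomm f₁ h3 _ (Or.inr (Or.inr (Or.inr rfl))), hxy2] at hww
    have hxcc : x * c' = c' * x := hxc c' hc'F
    have hxx' : x * x = (c' * (f₁ * f₁))⁻¹ := by
      refine eq_inv_of_mul_eq_one_left ?_
      have hc2x : c' * (x * x) = x * x * c' := by rw [← mul_assoc, ← hxcc, mul_assoc, ← hxcc, mul_assoc]
      refine mul_left_cancel (a := x * x) ?_
      rw [mul_one]
      calc x * x * (x * x * (c' * (f₁ * f₁))) = c' * (x * x * (x * x)) * (f₁ * f₁) := by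
            rw [← mul_assoc c' (x * x) (x * x), hc2x, mul_assoc (x * x) c' (x * x), hc2x]
            simp only [mul_assoc]
        _ = x * x := hww
    set B := zpowers c' ⊔ sqs F with hB
    have hc'B : c' ∈ B := mem_sup_left (mem_zpowers c')
    have hxxB : x * x ∈ B := hxx' ▸ inv_mem (mul_mem hc'B (mem_sup_right (sq_mem_sqs h3)))
    have hFB : F ≤ B := by
      refine (closure_le _).2 ?_
      rintro _ ⟨g, hg, rfl⟩
      have hget : ∀ p, (p = 1 ∨ p = x ∨ p = y ∨ p = x * y) → p⁻¹ * g ∈ F → g * g ∈ B := by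
        intro p hp hpg
        rw [show g = p * (p⁻¹ * g) by group, hcomm _ hpg p hp]
        refine mul_mem ?_ (mem_sup_right (sq_mem_sqs hpg))
        rcases hp with rfl | rfl | rfl | rfl
        · simp
        · exact hxxB
        · rw [hyy]; exact hxxB
        · rw [hxy2]; exact mul_mem hc'B (mul_mem hxxB hxxB)
      rcases cl x hxY hxm g hg with e | e | e | e
      · exact hget 1 (Or.inl rfl) (by simpa using e)
      · exact hget x (Or.inr (Or.inl rfl)) e
      · exact hget y (Or.inr (Or.inr (Or.inl rfl))) e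
      · exact hget _ (Or.inr (Or.inr (Or.inr rfl))) e
    have hFc : F ≤ zpowers c' :=
      le_of_le_sup_sqs (hFY.trans hYS) (zpowers_le.2 hc'F) hFB
    obtain ⟨k, hk⟩ := mem_zpowers_iff.1 (hFc hlF)
    refine h.pair.z_ne ?_
    rw [← h.l_sq, ← hk, ← zpow_add, ← two_mul, zpow_mul, zpow_ofNat, pow_two, hc2, one_zpow]
  intro x hx hx1 hx2
  set L := Q ⊓ centralizer ({q, r} : Set G) with hL
  have hmemL : ∀ y : G, y ∈ L ↔ y ∈ Q ∧ y * q = q * y ∧ y * r = r * y := by
    intro y
    refine ⟨fun hy => ⟨hy.1, (mem_centralizer_iff.1 hy.2 q (by simp)).symm,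
      (mem_centralizer_iff.1 hy.2 r (by simp)).symm⟩, fun hy => ⟨hy.1, mem_centralizer_iff.2 ?_⟩⟩
    rintro w (rfl | rfl)
    exacts [hy.2.1.symm, hy.2.2.symm]
  have hcentL : ∀ y ∈ L, b * y * b⁻¹ = y := by
    refine key (Nat.card ↥L) L rfl inf_le_left (fun y hy => ((hmemL y).1 hy).2.1) (fun y hy => ((hmemL y).1 hy).2.2)
      ((hmemL l).2 ⟨h.l_mem, h.lq, h.lr⟩) fun y hy => ?_
    obtain ⟨hy1, hy2, hy3⟩ := (hmemL y).1 hy
    have hcX : ∀ w ∈ closure ({q, r} : Set G), w * y = y * w := fun w hw => by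
      refine mem_centralizer_singleton_iff.1 ((closure_le (K := centralizer ({y} : Set G))).2 ?_ hw)
      rintro g (rfl | rfl)
      exacts [mem_centralizer_singleton_iff.2 hy2.symm, mem_centralizer_singleton_iff.2 hy3.symm]
    have hconj : ∀ w ∈ closure ({q, r} : Set G), b * y * b⁻¹ * w = w * (b * y * b⁻¹) := fun w hw => by
      have hw' := h.inv b⁻¹ (inv_mem hb) w hw
      rw [inv_inv] at hw'
      calc b * y * b⁻¹ * w = b * (y * (b⁻¹ * w * b)) * b⁻¹ := by group
        _ = b * (b⁻¹ * w * b * y) * b⁻¹ := by rw [hcX _ hw']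
        _ = w * (b * y * b⁻¹) := by group
    exact (hmemL _).2 ⟨(mem_normalizer_iff.1 hb.1 y).1 hy1, hconj q (subset_closure (by simp)),
      hconj r (subset_closure (by simp))⟩
  exact hcentL x ((hmemL x).2 ⟨hx, hx1, hx2⟩)

/-- An element of odd order centralising the quaternion part centralises the core. -/
theorem odd_centralize (hQ : c.Core c.z Q) (h : c.QuatShape Q q r l) {b : G} (hb : b ∈ c.Loc Q)
    (hodd : Odd (orderOf b)) (hbq : b * q * b⁻¹ = q) (hbr : b * r * b⁻¹ = r) :
    ∀ x ∈ Q, b * x * b⁻¹ = x := by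
  intro x hx
  obtain ⟨w, hw, h1, h2⟩ := h.dec x hx
  have hwfix : b * w * b⁻¹ = w := by
    have hle : closure ({q, r} : Set G) ≤ centralizer ({b} : Set G) := (closure_le _).2 (by
      rintro g (rfl | rfl)
      exacts [mem_centralizer_singleton_iff.2 (mul_inv_eq_iff_eq_mul.1 hbq).symm,
        mem_centralizer_singleton_iff.2 (mul_inv_eq_iff_eq_mul.1 hbr).symm])
    exact mul_inv_eq_iff_eq_mul.2 (mem_centralizer_singleton_iff.1 (hle hw)).symm
  have hwQ : w ∈ Q := (closure_le Q).2 (by rintro g (rfl | rfl); exacts [h.q_mem, h.r_mem]) hw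
  have h4 := c.odd_centralize_part hQ h hb hodd _ (mul_mem hwQ hx) h1 h2
  rw [show b * (w * x) * b⁻¹ = b * w * b⁻¹ * (b * x * b⁻¹) by group, hwfix] at h4
  exact mul_left_cancel h4

end Ctx2

end CfsgLib.NoEightConstrained
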