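/-
In the quaternion shape the 2-residual of the centraliser of `z` meets `S` inside the quaternion group.

Blueprint: `blueprint/S3272.md`, part P3 (the quaternion shape).
-/
import Cfsg.Agent.Lib.NoEightConstrained.QuatOdd

set_option autoImplicit false
set_option linter.style.haveILetI false

namespace CfsgLib.NoEightConstrained

open Subgroup

variable {G : Type*} [Group G] [Finite G]

theorem mem_of_sq_pow_aux {X : Type*} [Group X] {A : Subgroup X} {w : X} {m : ℕ} (hm : Odd m) (h2 : w * w ∈ A)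
    (hp : w ^ m ∈ A) : w ∈ A := by
  obtain ⟨k, rfl⟩ := hm
  rw [pow_succ, pow_mul, pow_two] at hp
  simpa using mul_mem (inv_mem (pow_mem h2 k)) hp

/-- An element with coprime powers in a subgroup lies in it. -/
theorem mem_of_pows {X : Type*} [Group X] {A : Subgroup X} {x : X} {k m : ℕ} (hm : Odd m)
    (h2 : x ^ 2 ^ k ∈ A) (hp : x ^ m ∈ A) : x ∈ A := by
  induction k generalizing x with
  | zero => simpa using h2
  | succ k ih =>
    refine mem_of_sq_pow_aux hm (ih ?_ ?_) hp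
    · rw [← pow_two, ← pow_mul, ← pow_succ']; exact h2
    · rw [← pow_two, ← pow_mul, mul_comm, pow_mul]; exact pow_mem hp 2

/-- Four distinct elements do not fit among three. -/
theorem four_in_three {α : Type*} {p₁ p₂ p₃ a b c d : α} (ha : a = p₁ ∨ a = p₂ ∨ a = p₃)
    (hb : b = p₁ ∨ b = p₂ ∨ b = p₃) (hc : c = p₁ ∨ c = p₂ ∨ c = p₃) (hd : d = p₁ ∨ d = p₂ ∨ d = p₃)
    (hab : a ≠ b) (hac : a ≠ c) (had : a ≠ d) (hbc : b ≠ c) (hbd : b ≠ d) (hcd : c ≠ d) : False := by
  classical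
  have hsub : ({a, b, c, d} : Finset α) ⊆ {p₁, p₂, p₃} := by
    intro x hx
    simp only [Finset.mem_insert, Finset.mem_singleton] at hx ⊢
    rcases hx with rfl | rfl | rfl | rfl <;> assumption
  have h4 : ({a, b, c, d} : Finset α).card = 4 := by simp [hab, hac, had, hbc, hbd, hcd]
  have := (Finset.card_le_card hsub).trans Finset.card_le_three
  omega

namespace Ctx2

variable (c : Ctx2 G)
variable {Q : Subgroup G} {q r l : G}

/-- `n` maps the class of `x` to the class of `y`. -/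
def Moves (n x y : G) : Prop := n * x * n⁻¹ = y ∨ n * x * n⁻¹ = y * c.z

theorem moves_comp {m n x y w : G} (hm : m ∈ c.Loc Q) (h1 : c.Moves n x y) (h2 : c.Moves m y w) :
    c.Moves (m * n) x w := by
  unfold Moves at h1 h2 ⊢
  rw [show m * n * x * (m * n)⁻¹ = m * (n * x * n⁻¹) * m⁻¹ by group]
  rcases h1 with e | e <;> rw [e]
  · exact h2
  · rw [show m * (y * c.z) * m⁻¹ = m * y * m⁻¹ * (m * c.z * m⁻¹) by group, c.loc_z hm]
    rcases h2 with e' | e' <;> rw [e']
    · exact Or.inr rfl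
    · exact Or.inl (by rw [mul_assoc, c.zz, mul_one])

theorem moves_inv {n x y : G} (hn : n ∈ c.Loc Q) (h : c.Moves n x y) : c.Moves n⁻¹ y x := by
  unfold Moves at h ⊢
  have hz : n⁻¹ * c.z * n = c.z := by simpa using c.loc_z (inv_mem hn)
  rw [inv_inv]
  rcases h with e | e
  · left; rw [← e]; group
  · right
    have hy : y = n * x * n⁻¹ * c.z := by rw [e, mul_assoc, c.zz, mul_one]
    rw [hy, show n⁻¹ * (n * x * n⁻¹ * c.z) * n = x * (n⁻¹ * c.z * n) by group, hz]

theorem moves_unique {n x y w : G} (h1 : c.Moves n x y) (h2 : c.Moves n x w) : y = w ∨ y = w * c.z := by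
  unfold Moves at h1 h2
  rcases h1 with e | e <;> rcases h2 with e' | e' <;> rw [e] at e'
  · exact Or.inl e'
  · exact Or.inr e'
  · exact Or.inr (by rw [← e', mul_assoc, c.zz, mul_one])
  · exact Or.inl (mul_right_cancel e')

/-- In the quaternion shape the residual lies in the quaternion group. -/
theorem quat_residual (hQ : c.Core c.z Q) (h : c.QuatShape Q q r l) :
    (∀ s ∈ (c.S : Subgroup G), ∀ x ∈ closure ({q, r} : Set G), s * x * s⁻¹ ∈ closure ({q, r} : Set G)) ∧
    closure ({q, r} : Set G) ≤ (c.S : Subgroup G) ∧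
    Nat.card ↥(closure ({q, r} : Set G)) = 8 ∧ c.z ∈ closure ({q, r} : Set G) ∧
    (∀ x ∈ closure ({q, r} : Set G), x ^ 4 = 1) ∧ c.R ≤ closure ({q, r} : Set G) := by
  classical
  haveI := Fact.mk Nat.prime_two
  have hP := h.pair
  set X := closure ({q, r} : Set G) with hX
  have hqX : q ∈ X := subset_closure (by simp)
  have hrX : r ∈ X := subset_closure (by simp)
  have hzX : c.z ∈ X := hP.q_sq ▸ mul_mem hqX hqX
  have hXQ : X ≤ Q := (closure_le Q).2 (by rintro g (rfl | rfl); exacts [h.q_mem, h.r_mem])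
  have hXS : X ≤ (c.S : Subgroup G) := hXQ.trans hQ.le
  have hSX : ∀ s ∈ (c.S : Subgroup G), ∀ x ∈ X, s * x * s⁻¹ ∈ X := fun s hs =>
    h.inv s (c.S_le_loc hQ hs)
  have hzc : ∀ x ∈ X, x * c.z = c.z * x := fun x hx => c.z_central x (hXS hx)
  have hfour : ∀ x ∈ X, x ^ 4 = 1 := by
    intro x hx
    obtain ⟨b, e, hb, he, rfl⟩ := hP.mem_closure hx
    have he2 : e * e = 1 := by rcases he with rfl | rfl <;> simp [c.zz]
    have hbX : b ∈ X := by
      rcases hb with rfl | rfl | rfl | rfl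
      exacts [one_mem _, hqX, hrX, mul_mem hqX hrX]
    have hbe : e * b = b * e := by
      rcases he with rfl | rfl
      · simp
      · exact (hzc b hbX).symm
    have hb2 : b * b = 1 ∨ b * b = c.z := by
      rcases hb with rfl | rfl | rfl | rfl
      · exact Or.inl (one_mul 1)
      · exact Or.inr hP.q_sq
      · exact Or.inr hP.r_sq
      · refine Or.inr ?_
        rw [show q * r * (q * r) = q * (r * q) * r by group, hP.rq,
          show q * (q * r * c.z) * r = q * q * r * (c.z * r) by group, ← hP.zr, hP.q_sq,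
          show c.z * r * (r * c.z) = c.z * (r * r) * c.z by group, hP.r_sq, c.zz, one_mul]
    rw [show (4 : ℕ) = 2 * 2 from rfl, pow_mul, pow_two (b * e), show b * e * (b * e) = b * (e * b) * e by group, hbe,
      show b * (b * e) * e = b * b * (e * e) by group, he2, mul_one, pow_two]
    rcases hb2 with e' | e' <;> rw [e'] <;> simp [c.zz]
  have hqne : q ≠ 1 := fun e => hP.z_ne (by rw [← hP.q_sq, e, one_mul])
  have hrne : r ≠ 1 := fun e => hP.z_ne (by rw [← hP.r_sq, e, one_mul])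
  have hnc : r * q ≠ q * r := fun e => hP.z_ne (left_eq_mul.1 (e.symm.trans hP.rq))
  have h8 : Nat.card ↥X = 8 := by
    refine le_antisymm ?_ ?_
    · haveI := Fintype.ofFinite G
      let F : Finset G := ({1, q, r, q * r} : Finset G) ∪ ({1, q, r, q * r} : Finset G).image (· * c.z)
      have hsub : (Finset.univ.filter (· ∈ X)) ⊆ F := by
        intro x hx
        simp only [Finset.mem_filter, Finset.mem_univ, true_and] at hx
        obtain ⟨b, e, hb, he, rfl⟩ := hP.mem_closure hx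
        have hb' : b ∈ ({1, q, r, q * r} : Finset G) := by
          simp only [Finset.mem_insert, Finset.mem_singleton]; exact hb
        rcases he with rfl | rfl
        · rw [mul_one]; exact Finset.mem_union_left _ hb'
        · exact Finset.mem_union_right _ (Finset.mem_image.2 ⟨b, hb', rfl⟩)
      have h4 : ({1, q, r, q * r} : Finset G).card ≤ 4 := Finset.card_le_four
      have := (Finset.card_le_card hsub).trans (Finset.card_union_le _ _)
      have hi := Finset.card_image_le (s := ({1, q, r, q * r} : Finset G)) (f := (· * c.z))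
      have hc : Nat.card ↥X = (Finset.univ.filter (· ∈ X)).card := by
        rw [Nat.card_eq_fintype_card, Fintype.card_subtype]
      omega
    · have ho : orderOf q = 4 := by
        refine orderOf_eq_prime_pow (p := 2) (n := 1) ?_ ?_
        · rw [pow_one, pow_two, hP.q_sq]; exact hP.z_ne
        · exact hfour q hqX
      have h1 := double_card r (zpowers_le.2 hqX) hrX fun hr => hnc ?_
      · rw [Nat.card_zpowers, ho] at h1; omega
      · obtain ⟨k, rfl⟩ := mem_zpowers_iff.1 hr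
        exact ((Commute.refl q).zpow_left k).eq
  refine ⟨hSX, hXS, h8, hzX, hfour, ?_⟩
  -- the three classes
  have hA : ∀ x y : G, (x = q ∨ x = r ∨ x = q * r) → (y = q ∨ y = r ∨ y = q * r) →
      (x = y ∨ x = y * c.z) → x = y := by
    intro x y hx hy hxy
    rcases hxy with e | e
    · exact e
    exfalso
    have hqr : q * r ≠ q * c.z := fun e => hnc (by
      rw [mul_left_cancel e]; exact (hzc q hqX).symm)
    have hrr : q * r ≠ r * c.z := fun e => hnc (by
      rw [hzc r hrX] at e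
      rw [mul_right_cancel e, hzc r hrX])
    have hqr' : q ≠ r * c.z := fun e => hnc (by
      rw [e, show r * c.z * r = r * (c.z * r) by group, ← hzc r hrX])
    rcases hx with rfl | rfl | rfl <;> rcases hy with rfl | rfl | rfl
    · exact hP.z_ne (left_eq_mul.1 e)
    · exact hqr' e
    · refine hqr ?_
      conv_rhs => rw [e, mul_assoc, c.zz, mul_one]
    · refine hqr' ?_
      rw [e, mul_assoc, c.zz, mul_one]
    · exact hP.z_ne (left_eq_mul.1 e)
    · refine hrr ?_
      conv_rhs => rw [e, mul_assoc, c.zz, mul_one]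
    · exact hqr e
    · exact hrr e
    · exact hP.z_ne (left_eq_mul.1 e)
  have hAne : ∀ y, (y = q ∨ y = r ∨ y = q * r) → y ≠ 1 ∧ y ≠ c.z := by
    intro y hy
    have hyy : y * y = c.z := by
      rcases hy with rfl | rfl | rfl
      · exact hP.q_sq
      · exact hP.r_sq
      · rw [show q * r * (q * r) = q * (r * q) * r by group, hP.rq,
          show q * (q * r * c.z) * r = q * q * r * (c.z * r) by group, ← hP.zr, hP.q_sq,
          show c.z * r * (r * c.z) = c.z * (r * r) * c.z by group, hP.r_sq, c.zz, one_mul]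
    constructor <;> rintro rfl
    · rw [one_mul] at hyy; exact hP.z_ne hyy.symm
    · rw [c.zz] at hyy; exact hP.z_ne hyy.symm
  have img : ∀ n ∈ c.Loc Q, ∀ x, (x = q ∨ x = r ∨ x = q * r) →
      ∃ y, (y = q ∨ y = r ∨ y = q * r) ∧ c.Moves n x y := by
    intro n hn x hx
    have hxX : x ∈ X := by rcases hx with rfl | rfl | rfl; exacts [hqX, hrX, mul_mem hqX hrX]
    obtain ⟨b, e, hb, he, hbe⟩ := hP.mem_closure (h.inv n hn x hxX)
    rcases hb with rfl | hb
    · exfalso
      rw [one_mul] at hbe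
      rcases he with rfl | rfl
      · exact (hAne x hx).1 (conj_eq_one_iff.1 hbe)
      · refine (hAne x hx).2 ?_
        rw [← c.loc_z hn] at hbe
        exact mul_left_cancel (mul_right_cancel hbe)
    refine ⟨b, hb, ?_⟩
    rcases he with rfl | rfl
    · exact Or.inl (by rw [hbe, mul_one])
    · exact Or.inr hbe
  have inj : ∀ n ∈ c.Loc Q, ∀ x x' y, (x = q ∨ x = r ∨ x = q * r) → (x' = q ∨ x' = r ∨ x' = q * r) →
      c.Moves n x y → c.Moves n x' y → x = x' := fun n hn x x' y hx hx' h1 h2 =>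
    hA x x' hx hx' (c.moves_unique (c.moves_inv hn h1) (c.moves_inv hn h2))
  have Fix : G → Subgroup G := fun x =>
    { carrier := {n | n ∈ c.Loc Q ∧ c.Moves n x x}
      one_mem' := ⟨one_mem _, Or.inl (by group)⟩
      mul_mem' := fun {a b} ha hb => ⟨mul_mem ha.1 hb.1, c.moves_comp ha.1 hb.2 ha.2⟩
      inv_mem' := fun {a} ha => ⟨inv_mem ha.1, c.moves_inv ha.1 ha.2⟩ }
  have fixAll : ∀ n ∈ c.Loc Q, Odd (orderOf n) → ∀ x, (x = q ∨ x = r ∨ x = q * r) → c.Moves n x x →
      ∀ y, (y = q ∨ y = r ∨ y = q * r) → c.Moves n y y := by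
    intro n hn ho x hx hxx y hy
    by_cases hxy : x = y
    · exact hxy ▸ hxx
    obtain ⟨y₁, hy₁, h1⟩ := img n hn y hy
    by_cases hyy : y₁ = y
    · exact hyy ▸ h1
    obtain ⟨y₂, hy₂, h2⟩ := img n hn y₁ hy₁
    have hne1 : y₁ ≠ x := fun e => hxy (inj n hn x y x hx hy hxx (e ▸ h1))
    have hy2x : y₂ ≠ x := fun e => hne1 (inj n hn y₁ x x hy₁ hx (e ▸ h2) hxx)
    have hy2y1 : y₂ ≠ y₁ := fun e => hyy (inj n hn y₁ y y₁ hy₁ hy (e ▸ h2) h1)
    have hy2 : y₂ = y := by
      by_contra hne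
      exact four_in_three hx hy hy₁ hy₂ hxy hne1.symm hy2x.symm (Ne.symm hyy) (Ne.symm hne) hy2y1.symm
    rw [hy2] at h2
    have hsq : c.Moves (n * n) y y := c.moves_comp hn h1 h2
    let F : Subgroup G :=
      { carrier := {n | n ∈ c.Loc Q ∧ c.Moves n y y}
        one_mem' := ⟨one_mem _, Or.inl (by group)⟩
        mul_mem' := fun {a b} ha hb => ⟨mul_mem ha.1 hb.1, c.moves_comp ha.1 hb.2 ha.2⟩
        inv_mem' := fun {a} ha => ⟨inv_mem ha.1, c.moves_inv ha.1 ha.2⟩ }
    exact (mem_of_sq_pow (A := F) ho ⟨mul_mem hn hn, hsq⟩ (by rw [pow_orderOf_eq_one]; exact one_mem F)).2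
  -- a generator of the action
  obtain ⟨b₀, hb₀, hb₀o, hgen⟩ : ∃ b₀ ∈ c.Loc Q, Odd (orderOf b₀) ∧ ∀ n ∈ c.Loc Q, Odd (orderOf n) →
      ∃ i : ℕ, c.Moves ((b₀ ^ i)⁻¹ * n) q q ∧ c.Moves ((b₀ ^ i)⁻¹ * n) r r := by
    by_cases hex : ∃ b₀ ∈ c.Loc Q, Odd (orderOf b₀) ∧ ¬ c.Moves b₀ q q
    · obtain ⟨b₀, hb₀, hb₀o, hb₀q⟩ := hex
      refine ⟨b₀, hb₀, hb₀o, fun n hn hno => ?_⟩
      have der : ∀ m ∈ c.Loc Q, Odd (orderOf m) → ¬ c.Moves m q q → ∀ x, (x = q ∨ x = r ∨ x = q * r) →
          ¬ c.Moves m x x := fun m hm hmo hmq x hx hmx => hmq (fixAll m hm hmo x hx hmx q (Or.inl rfl))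
      by_cases hnq : c.Moves n q q
      · exact ⟨0, by simpa using hnq, by simpa using fixAll n hn hno q (Or.inl rfl) hnq r (Or.inr (Or.inl rfl))⟩
      obtain ⟨y₁, hy₁, hbq⟩ := img b₀ hb₀ q (Or.inl rfl)
      obtain ⟨y₂, hy₂, hby⟩ := img b₀ hb₀ y₁ hy₁
      have d1 := der b₀ hb₀ hb₀o hb₀q
      have hy1q : y₁ ≠ q := fun e => hb₀q (e ▸ hbq)
      have hy21 : y₂ ≠ y₁ := fun e => d1 y₁ hy₁ (e ▸ hby)
      have hy2q : y₂ ≠ q := fun e => by
        obtain ⟨w, hw, h3⟩ : ∃ w, (w = q ∨ w = r ∨ w = q * r) ∧ w ≠ q ∧ w ≠ y₁ := by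
          by_cases h' : y₁ = r
          · exact ⟨q * r, Or.inr (Or.inr rfl), fun e' => hrne (mul_eq_left.1 e'), fun e' => hqne (mul_eq_right.1 (e'.trans h'))⟩
          · exact ⟨r, Or.inr (Or.inl rfl), fun e' => hnc (by rw [e']), fun e' => h' e'.symm⟩
        obtain ⟨w', hw', h4⟩ := img b₀ hb₀ w hw
        have a1 : w' ≠ y₁ := fun e' => h3.1 (inj b₀ hb₀ w q y₁ hw (Or.inl rfl) (e' ▸ h4) hbq)
        have a2 : w' ≠ q := fun e' => h3.2 (inj b₀ hb₀ w y₁ q hw hy₁ (e' ▸ h4) (e ▸ hby))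
        have a3 : w' ≠ w := fun e' => d1 w hw (e' ▸ h4)
        exact four_in_three (Or.inl rfl) hy₁ hw hw' hy1q.symm h3.1.symm a2.symm h3.2.symm a1.symm a3.symm
      have hall : ∀ x, (x = q ∨ x = r ∨ x = q * r) → x = q ∨ x = y₁ ∨ x = y₂ := by
        intro x hx
        by_contra hne
        push Not at hne
        exact four_in_three (Or.inl rfl) hy₁ hy₂ hx hy1q.symm hy2q.symm hne.1.symm hy21.symm hne.2.1.symm hne.2.2.symm
      have hb2 : c.Moves b₀ y₂ q := by
        obtain ⟨w, hw, h4⟩ := img b₀ hb₀ y₂ hy₂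
        rcases hall w hw with rfl | rfl | rfl
        · exact h4
        · exact absurd (inj b₀ hb₀ y₂ q _ hy₂ (Or.inl rfl) h4 hbq) hy2q
        · exact absurd h4 (d1 _ hy₂)
      have d2 := der n hn hno hnq
      obtain ⟨w₀, hw₀, hn0⟩ := img n hn q (Or.inl rfl)
      obtain ⟨w₁, hw₁, hn1⟩ := img n hn y₁ hy₁
      obtain ⟨w₂, hw₂, hn2⟩ := img n hn y₂ hy₂
      have finish : ∀ i : ℕ, c.Moves (b₀ ^ i) q w₀ → c.Moves (b₀ ^ i) y₁ w₁ → c.Moves (b₀ ^ i) y₂ w₂ →
          c.Moves ((b₀ ^ i)⁻¹ * n) q q ∧ c.Moves ((b₀ ^ i)⁻¹ * n) r r := by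
        intro i p0 p1 p2
        have hbi := pow_mem hb₀ i
        refine ⟨c.moves_comp (inv_mem hbi) hn0 (c.moves_inv hbi p0), ?_⟩
        rcases hall r (Or.inr (Or.inl rfl)) with e | e | e <;> rw [e]
        · exact c.moves_comp (inv_mem hbi) hn0 (c.moves_inv hbi p0)
        · exact c.moves_comp (inv_mem hbi) hn1 (c.moves_inv hbi p1)
        · exact c.moves_comp (inv_mem hbi) hn2 (c.moves_inv hbi p2)
      have n0 : w₀ ≠ q := fun e => hnq (e ▸ hn0)
      have n1 : w₁ ≠ y₁ := fun e => d2 y₁ hy₁ (e ▸ hn1)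
      have n2 : w₂ ≠ y₂ := fun e => d2 y₂ hy₂ (e ▸ hn2)
      have i01 : w₁ ≠ w₀ := fun e => hy1q (inj n hn y₁ q w₀ hy₁ (Or.inl rfl) (e ▸ hn1) hn0)
      have i02 : w₂ ≠ w₀ := fun e => hy2q (inj n hn y₂ q w₀ hy₂ (Or.inl rfl) (e ▸ hn2) hn0)
      have i12 : w₂ ≠ w₁ := fun e => hy21 (inj n hn y₂ y₁ w₁ hy₂ hy₁ (e ▸ hn2) hn1)
      rcases hall w₀ hw₀ with e0 | e0 | e0
      · exact absurd e0 n0
      · have e1 : w₁ = y₂ := by
          rcases hall w₁ hw₁ with e | e | e
          · exfalso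
            rcases hall w₂ hw₂ with e' | e' | e'
            exacts [i12 (e'.trans e.symm), i02 (e'.trans e0.symm), n2 e']
          · exact absurd e n1
          · exact e
        have e2 : w₂ = q := by
          rcases hall w₂ hw₂ with e' | e' | e'
          exacts [e', absurd (e'.trans e0.symm) i02, absurd e' n2]
        exact ⟨1, finish 1 (by rw [pow_one, e0]; exact hbq) (by rw [pow_one, e1]; exact hby)
          (by rw [pow_one, e2]; exact hb2)⟩
      · have e1 : w₁ = q := by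
          rcases hall w₁ hw₁ with e | e | e
          exacts [e, absurd e n1, absurd (e.trans e0.symm) i01]
        have e2 : w₂ = y₁ := by
          rcases hall w₂ hw₂ with e' | e' | e'
          exacts [absurd (e'.trans e1.symm) i12, e', absurd e' n2]
        exact ⟨2, finish 2 (by rw [pow_two, e0]; exact c.moves_comp hb₀ hbq hby)
          (by rw [pow_two, e1]; exact c.moves_comp hb₀ hby hb2)
          (by rw [pow_two, e2]; exact c.moves_comp hb₀ hb2 hbq)⟩
    · push Not at hex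
      refine ⟨1, one_mem _, by simp, fun n hn hno => ⟨0, by simpa using hex n hn hno, ?_⟩⟩
      simpa using fixAll n hn hno q (Or.inl rfl) (hex n hn hno) r (Or.inr (Or.inl rfl))
  -- in the quotient by the odd core
  set C := centralizer ({c.z} : Set G) with hC
  set O := Cfsg.pPrimeCore 2 ↥C with hO
  haveI hOn : O.Normal := by rw [hO]; exact Cfsg.pPrimeCore_normal 2 _
  set π := QuotientGroup.mk' O with hπ
  have hLC : c.Loc Q ≤ C := inf_le_right
  have hSC : (c.S : Subgroup G) ≤ C := fun s hs => mem_centralizer_singleton_iff.2 (c.z_central s hs)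
  set f : ↥(c.Loc Q) →* ↥C ⧸ O := π.comp (Subgroup.inclusion hLC) with hf
  set Xl : Subgroup ↥(c.Loc Q) := X.subgroupOf (c.Loc Q) with hXl
  set b₁ : ↥(c.Loc Q) := ⟨b₀, hb₀⟩ with hb₁
  set E : Subgroup ↥(c.Loc Q) := Xl ⊔ zpowers b₁ with hE
  have hXL : X ≤ c.Loc Q := hXS.trans (c.S_le_loc hQ)
  have hnorm : zpowers b₁ ≤ normalizer (Xl : Set ↥(c.Loc Q)) := zpowers_le.2 (mem_normalizer_iff.2 fun x =>
    ⟨fun hx => mem_subgroupOf.2 (h.inv b₀ hb₀ _ (mem_subgroupOf.1 hx)), fun hx => mem_subgroupOf.2 (by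
      simpa [mul_assoc, hb₁] using h.inv b₀⁻¹ (inv_mem hb₀) _ (mem_subgroupOf.1 hx))⟩)
  -- odd elements centralising the core vanish
  have hkill : ∀ n : ↥(c.Loc Q), Odd (orderOf n) → (∀ y ∈ Q, y * (n : G) = (n : G) * y) → f n = 1 := by
    intro n ho hc
    obtain ⟨hm, hO'⟩ := hQ.odd_cent (n : G) n.2 (by rwa [orderOf_submonoid] at *; ) hc
    exact (QuotientGroup.eq_one_iff _).2 hO'
  have hodd : ∀ n : ↥(c.Loc Q), Odd (orderOf n) → f n ∈ E.map f := by
    intro n ho
    have hno : Odd (orderOf (n : G)) := by rwa [orderOf_submonoid]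
    obtain ⟨i, hmq, hmr⟩ := hgen n n.2 hno
    set d := (b₀ ^ i)⁻¹ * (n : G) with hd
    have hdL : d ∈ c.Loc Q := mul_mem (inv_mem (pow_mem hb₀ i)) n.2
    -- adjust by an element of `X`
    obtain ⟨w, hwX, hwq, hwr⟩ : ∃ w ∈ X, w * d * q * (w * d)⁻¹ = q ∧ w * d * r * (w * d)⁻¹ = r := by
      have hqc : ∀ w : G, w * q * w⁻¹ = q * c.z → w ∈ X → w * (q * c.z) * w⁻¹ = q := fun w e hw => by
        rw [show w * (q * c.z) * w⁻¹ = w * q * w⁻¹ * (w * c.z * w⁻¹) by group, e, hzc w hw, mul_inv_cancel_right,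
          mul_assoc, c.zz, mul_one]
      have hrq1 : r * q * r⁻¹ = q * c.z := by
        rw [hP.rq, mul_assoc q r c.z, hP.zr, ← mul_assoc, mul_inv_cancel_right]
      have hqr1 : q * r * q⁻¹ = r * c.z := by
        have e : q * r = r * q * c.z := by rw [hP.rq, mul_assoc, c.zz, mul_one]
        rw [e, mul_assoc r q c.z, hP.zq, ← mul_assoc, mul_inv_cancel_right]
      have hwd : ∀ w x : G, w * d * x * (w * d)⁻¹ = w * (d * x * d⁻¹) * w⁻¹ := fun w x => by group
      unfold Moves at hmq hmr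
      rcases hmq with eq | eq <;> rcases hmr with er | er
      · exact ⟨1, one_mem _, by rw [hwd, eq]; group, by rw [hwd, er]; group⟩
      · refine ⟨q, hqX, by rw [hwd, eq]; group, ?_⟩
        rw [hwd, er, show q * (r * c.z) * q⁻¹ = q * r * q⁻¹ * (q * c.z * q⁻¹) by group, hqr1, hzc q hqX,
          mul_inv_cancel_right, mul_assoc, c.zz, mul_one]
      · exact ⟨r, hrX, by rw [hwd, eq]; exact hqc r hrq1 hrX, by rw [hwd, er]; group⟩
      · refine ⟨q * r, mul_mem hqX hrX, ?_, ?_⟩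
        · rw [hwd, eq, show q * r * (q * c.z) * (q * r)⁻¹ = q * (r * (q * c.z) * r⁻¹) * q⁻¹ by group,
            hqc r hrq1 hrX]
          group
        · rw [hwd, er, show q * r * (r * c.z) * (q * r)⁻¹ = q * (r * (r * c.z) * r⁻¹) * q⁻¹ by group,
            show r * (r * c.z) * r⁻¹ = r * (r * c.z * r⁻¹) by group, hzc r hrX, mul_inv_cancel_right,
            show q * (r * c.z) * q⁻¹ = q * r * q⁻¹ * (q * c.z * q⁻¹) by group, hqr1, hzc q hqX, mul_inv_cancel_right,
            mul_assoc, c.zz, mul_one]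
    set d' : ↥(c.Loc Q) := ⟨w * d, mul_mem (hXL hwX) hdL⟩ with hd'
    have hd'Q : ∀ y ∈ Q, (d' : G) * y * (d' : G)⁻¹ = y := by
      intro y hy
      obtain ⟨v, hv, h1, h2⟩ := h.dec y hy
      have hvfix : (w * d) * v * (w * d)⁻¹ = v := by
        refine mul_inv_eq_iff_eq_mul.2 (mem_centralizer_singleton_iff.1
          ((closure_le (K := centralizer ({w * d} : Set G))).2 ?_ hv)).symm
        rintro g (rfl | rfl)
        exacts [mem_centralizer_singleton_iff.2 (mul_inv_eq_iff_eq_mul.1 hwq).symm,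
          mem_centralizer_singleton_iff.2 (mul_inv_eq_iff_eq_mul.1 hwr).symm]
      have hvQ : v ∈ Q := hXQ hv
      set t := v * y with ht
      have htQ : t ∈ Q := mul_mem hvQ hy
      have hb := c.odd_centralize_part hQ h hb₀ hb₀o t htQ h1 h2
      have hnfix := c.odd_centralize_part hQ h n.2 hno t htQ h1 h2
      have hbi : (b₀ ^ i)⁻¹ * t * (b₀ ^ i) = t := by
        have hc : Commute b₀ t := mul_inv_eq_iff_eq_mul.1 hb
        rw [mul_assoc, ← (hc.pow_left i).eq, inv_mul_cancel_left]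
      have hwt : w * t * w⁻¹ = t := by
        refine mul_inv_eq_iff_eq_mul.2 (mem_centralizer_singleton_iff.1
          ((closure_le (K := centralizer ({t} : Set G))).2 ?_ hwX))
        rintro g (rfl | rfl)
        exacts [mem_centralizer_singleton_iff.2 h1.symm, mem_centralizer_singleton_iff.2 h2.symm]
      have htfix : (w * d) * t * (w * d)⁻¹ = t := by
        rw [hd, show w * ((b₀ ^ i)⁻¹ * (n : G)) * t * (w * ((b₀ ^ i)⁻¹ * (n : G)))⁻¹ =
          w * ((b₀ ^ i)⁻¹ * ((n : G) * t * (n : G)⁻¹) * b₀ ^ i) * w⁻¹ by group, hnfix, hbi, hwt]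
      show w * d * y * (w * d)⁻¹ = y
      rw [show y = v⁻¹ * t by rw [ht]; group,
        show w * d * (v⁻¹ * t) * (w * d)⁻¹ = (w * d * v * (w * d)⁻¹)⁻¹ * (w * d * t * (w * d)⁻¹) by group,
        hvfix, htfix]
    -- its image is the image of a central element of the core
    obtain ⟨y, hyQ, hyc, hfy⟩ : ∃ y : ↥(c.Loc Q), (y : G) ∈ Q ∧ (∀ x ∈ Q, x * (y : G) = (y : G) * x) ∧
        f d' = f y := by
      set Z₀ : Subgroup G := Q ⊓ centralizer (Q : Set G) with hZ₀
      set A := (Z₀.subgroupOf (c.Loc Q)).map f with hA'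
      suffices f d' ∈ A by
        obtain ⟨y, hy, e⟩ := this
        exact ⟨y, (mem_subgroupOf.1 hy).1, fun x hx => mem_centralizer_iff.1 (mem_subgroupOf.1 hy).2 x hx, e.symm⟩
      have hm0 : orderOf d' ≠ 0 := (isOfFinOrder_of_finite d').orderOf_pos.ne'
      set k := (orderOf d').factorization 2 with hk
      set m := orderOf d' / 2 ^ k with hm
      have hmodd : Odd m := Nat.not_even_iff_odd.1 fun h =>
        Nat.not_dvd_ordCompl Nat.prime_two hm0 (even_iff_two_dvd.1 h)
      have hcy : ∀ j : ℕ, ∀ y ∈ Q, y * ((d' ^ j : ↥(c.Loc Q)) : G) = ((d' ^ j : ↥(c.Loc Q)) : G) * y :=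
        fun j y hy => by
          rw [SubmonoidClass.coe_pow]
          exact ((show Commute (d' : G) y from mul_inv_eq_iff_eq_mul.1 (hd'Q y hy)).pow_left j).eq.symm
      refine mem_of_pows (k := k) hmodd ?_ ?_
      · rw [← map_pow, hkill (d' ^ 2 ^ k) ?_ (hcy _)]
        · exact one_mem _
        · rw [orderOf_pow_of_dvd (by positivity) (Nat.ordProj_dvd _ _)]; exact hmodd
      · rw [← map_pow]
        refine mem_map_of_mem f ?_
        have hp : IsPGroup 2 ↥(zpowers (d' ^ m)) := by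
          refine IsPGroup.of_card (n := k) ?_
          rw [Nat.card_zpowers, orderOf_pow_of_dvd hmodd.pos.ne' (Nat.ordCompl_dvd _ _)]
          exact Nat.div_div_self (Nat.ordProj_dvd _ _) hm0
        obtain ⟨P, hPle⟩ := hp.exists_le_sylow
        obtain ⟨g, rfl⟩ := MulAction.exists_smul_eq ↥(c.Loc Q) (c.S.subtype (c.S_le_loc hQ)) P
        obtain ⟨s, hs, e⟩ := hPle (mem_zpowers _)
        have e' : ((d' ^ m : ↥(c.Loc Q)) : G) = (g : G) * (s : G) * (g : G)⁻¹ := (congrArg Subtype.val e).symm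
        have hsQ : (s : G) ∈ Q := hQ.self _ hs fun y hy => by
          have hgy : (g : G) * y * (g : G)⁻¹ ∈ Q := (mem_normalizer_iff.1 g.2.1 y).1 hy
          have h1 := hcy m _ hgy
          rw [e'] at h1
          rw [show (g : G) * y * (g : G)⁻¹ * ((g : G) * (s : G) * (g : G)⁻¹) = g * (y * s) * (g : G)⁻¹ by group,
            show (g : G) * (s : G) * (g : G)⁻¹ * ((g : G) * y * (g : G)⁻¹) = g * (s * y) * (g : G)⁻¹ by group] at h1
          exact mul_left_cancel (mul_right_cancel h1)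
        refine mem_subgroupOf.2 ⟨?_, mem_centralizer_iff.2 (hcy m)⟩
        rw [e']; exact (mem_normalizer_iff.1 g.2.1 _).1 hsQ
    -- so the central element lies in the image
    have hyE : f y ∈ E.map f := by
      set w₁ : ↥(c.Loc Q) := ⟨w, hXL hwX⟩
      set a := b₁ ^ i * w₁⁻¹ with ha
      have haE : a ∈ E := mul_mem (mem_sup_right (pow_mem (mem_zpowers b₁) i))
        (mem_sup_left (inv_mem (mem_subgroupOf.2 hwX)))
      have hn' : n = a * d' := Subtype.ext (by
        show (n : G) = b₀ ^ i * w⁻¹ * (w * d)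
        rw [hd]; group)
      have hfn : f n = f a * f y := by rw [hn', map_mul, hfy]
      have hyL : (y : G) * q = q * y ∧ (y : G) * r = r * y := ⟨(hyc q h.q_mem).symm, (hyc r h.r_mem).symm⟩
      have hcomm : Commute a y := by
        have c1 : Commute b₁ y := Subtype.ext
          (mul_inv_eq_iff_eq_mul.1 (c.odd_centralize_part hQ h hb₀ hb₀o _ hyQ hyL.1 hyL.2))
        have c2 : Commute w₁ y := Subtype.ext (hyc w (hXQ hwX))
        exact (c1.pow_left i).mul_left c2.inv_left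
      obtain ⟨k, hk⟩ := c.two_group ⟨(y : G), hQ.le hyQ⟩
      have hk' : y ^ 2 ^ k = 1 := Subtype.ext (by
        rw [SubmonoidClass.coe_pow]; exact congrArg Subtype.val hk)
      refine mem_of_pows (k := k) ho (by rw [← map_pow, hk', map_one]; exact one_mem _) ?_
      have : (f a) ^ orderOf n * (f y) ^ orderOf n = 1 := by
        rw [← (hcomm.map f).mul_pow, ← hfn, ← map_pow, pow_orderOf_eq_one, map_one]
      rw [eq_inv_of_mul_eq_one_right this]
      exact inv_mem (pow_mem (mem_map_of_mem f haE) _)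
    have hn' : n = b₁ ^ i * (⟨w, hXL hwX⟩ : ↥(c.Loc Q))⁻¹ * d' := Subtype.ext (by
      show (n : G) = b₀ ^ i * w⁻¹ * (w * d)
      rw [hd]; group)
    rw [hn', map_mul, hfy]
    exact mul_mem (mem_map_of_mem f (mul_mem (mem_sup_right (pow_mem (mem_zpowers b₁) i))
      (mem_sup_left (inv_mem (mem_subgroupOf.2 hwX))))) hyE
  have hres : Cfsg.pResidual 2 ↥C ≤ (E.map f).comap π := by
    refine PResidual.pResidual_le_of_pow fun g => ?_
    obtain ⟨k, hk⟩ := PResidual.exists_pow_coprime (p := 2) g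
    refine ⟨k, mem_comap.2 ?_⟩
    set g' := g ^ 2 ^ k with hg'
    have hg'o : Odd (orderOf g') := Nat.coprime_two_right.1 hk
    obtain ⟨o, n, e, hn, hnz, ⟨hoC, hoO⟩⟩ := hQ.factorO _ (mem_centralizer_singleton_iff.1 g'.2)
    set n' : ↥(c.Loc Q) := ⟨n, hn, mem_centralizer_singleton_iff.2 hnz⟩ with hn'
    have hgn : π g' = f n' := by
      rw [show g' = ⟨o, hoC⟩ * ⟨n, mem_centralizer_singleton_iff.2 hnz⟩ from Subtype.ext e, map_mul,
        show π ⟨o, hoC⟩ = 1 from (QuotientGroup.eq_one_iff _).2 hoO, one_mul]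
      rfl
    obtain ⟨j, hj⟩ := PResidual.exists_pow_coprime (p := 2) n'
    rw [hgn]
    refine mem_of_pows (k := j) hg'o (by rw [← map_pow]; exact hodd _ (Nat.coprime_two_right.1 hj)) ?_
    rw [← hgn, ← map_pow, pow_orderOf_eq_one, map_one]
    exact one_mem _
  rintro x ⟨hxS, y, hy, e⟩
  obtain ⟨a, haE, hfa⟩ := hres hy
  rw [hE, Subgroup.coe_mul_of_right_le_normalizer_left _ _ hnorm] at haE
  obtain ⟨x₀, hx₀, t, ht, rfl⟩ := haE
  set xl : ↥(c.Loc Q) := ⟨x, c.S_le_loc hQ hxS⟩ with hxl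
  have hfx : f xl = π y := congrArg π (Subtype.ext e.symm)
  have hft : f (x₀⁻¹ * xl) = f t := by
    rw [map_mul, map_inv, hfx, ← hfa, map_mul, inv_mul_cancel_left]
  set s := x₀⁻¹ * xl with hs
  have hsS : (s : G) ∈ (c.S : Subgroup G) :=
    Subgroup.mul_mem _ (Subgroup.inv_mem _ (hXS (mem_subgroupOf.1 hx₀))) hxS
  obtain ⟨k, hk⟩ := c.two_group ⟨(s : G), hsS⟩
  have hk' : s ^ 2 ^ k = 1 := Subtype.ext (by
    rw [SubmonoidClass.coe_pow]; exact congrArg Subtype.val hk)
  obtain ⟨j, rfl⟩ := mem_zpowers_iff.1 ht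
  have hb1o : Odd (orderOf b₁) := by rwa [← orderOf_submonoid b₁]
  have hone : f s = 1 := by
    have h1 : (f s) ^ orderOf b₁ = 1 := by
      rw [hft, map_zpow, ← zpow_natCast, ← zpow_mul, mul_comm, zpow_mul, zpow_natCast, ← map_pow,
        pow_orderOf_eq_one, map_one, one_zpow]
    exact mem_bot.1 (mem_of_pows (k := k) (A := ⊥) hb1o
      (mem_bot.2 (by rw [← map_pow, hk', map_one])) (mem_bot.2 h1))
  have hsO : (Subgroup.inclusion hLC s) ∈ O := (QuotientGroup.eq_one_iff _).1 hone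
  have hs1 : (s : G) = 1 := by
    have hcop : (Nat.card ↥O).Coprime 2 := CfsgLib.card_pPrimeCore_coprime 2
    have hk2 : (Subgroup.inclusion hLC s) ^ 2 ^ k = 1 := by rw [← map_pow, hk', map_one]
    have h1 := pow_gcd_eq_one.2 ⟨hk2, (show (Subgroup.inclusion hLC s) ^ Nat.card ↥O = 1 from
      congrArg Subtype.val (pow_card_eq_one' (x := (⟨_, hsO⟩ : ↥O))))⟩
    rw [(Nat.Coprime.pow_left k hcop.symm).gcd_eq_one, pow_one] at h1
    exact congrArg Subtype.val h1
  have hxx₀ : x = (x₀ : G) := (inv_mul_eq_one.1 hs1).symm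
  rw [hxx₀]; exact mem_subgroupOf.1 hx₀

end Ctx2

end CfsgLib.NoEightConstrained
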